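import Cfsg.Agent.Lib.Sporadic.CosetCertGroup

/-!
# Coset enumeration certificate J4M24.certG

Machine-generated data and the kernel checks on it.
-/

set_option maxRecDepth 100000

namespace CfsgLib.Sporadic.CosetCert.J4M24

/-- Coset enumeration certificate `j4G`: 24 cosets, 24 nodes, 96 facts. -/
noncomputable def certG : Cert where
  N := 24
  M := 24
  nl := 4
  nr := 7
  fuel := 1
  vb := 8
  rb := 7
  iv := 0x42301
  words := [(2, 0x0), (3, 0x222), (46, 0x202020202020202020202020202020202020202020202), (48, 0x130213021302130213021302130213021302130213021302), (40, 0x1313020213130202131302021313020213130202), (56, 0x2020302030203020203020302030202030203020302020302030203), (36, 0x20203020203020203020303020303020303), (7, 0x302121), (1, 0x2), (19, 0x202030302121213131), (11, 0x2030212131), (21, 0x20202020202131313131)]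
  slots := (.leaf 0x1785ad0adc16c02c0002c0add17be2f6c5c0005917ae2d5046a888000a42944527084f1000012c4e609c80f921e00023094512841d0c3800040107c1b585698a8000781afc4680a4d140000e839c064a138e260001b06390f882504480003d117620c82d98580006e1ed4397052f0a0000b029504b40d621a0001404ab0b6018b430000290b4e14901d283800044108420f031f0600007018d02a60946120000c029b074010742000019072e0c500ca818000240844107010f02000030085009605260a00004008b032008341000009030e0410002800000040004003008301)
  just := (.leaf 0x2042cc00040c558000800b300010116600000000000040855810b800092f17000321400001640000000000000000000000000000020022c0444000080000000000010214602200208400040041808800001000000000021e020c400040c4d80008007b010f00002000000000000408498480000490001000e6021c00004000000000000810830001030d60002002ac000000000000000000001020d6042200024000400518000000000000000000002041cc00040c3180008009b000000000000000000000408318107800090001001260000000000000000000000000000000000000020016c042c00008000000000000000000000000000004002980850000100000000000020414c00040c2580008006b000000000000000000000408258105800090001000c6000000000000000000000000000000000000002000ec041c00008000000000001020860a0000144000400198083000010000000000002040cc00040c1580008004b000000000000000000000408158103800090001000860000000000000000000000000000000000000020006c040c00008000000000001020460600000e40004000980810000100000000000020404c00040c0580008002b000000000000000000000408058101800090001000460000000000000000000000000000000000000020000c0400000080000000000010200600000010400040005800000000)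
  parent := (.leaf 0x6d06c05605104c04704504404003f03803303103002401f01d01c01000b009008001000)

theorem certG_keys0 : certG.keysOK 0 120 = true := by decide +kernel
theorem certG_closed0 : certG.closedFrom 97 0 24 = true := by decide +kernel

theorem certG_valid : certG.Valid :=
  valid_of
    (fun k hk => (keysOK_spec certG_keys0) k (Nat.zero_le _) hk)
    (fun u hu => ⟨97, (closedFrom_spec certG_closed0) u (Nat.zero_le _) hu⟩)
    (by decide +kernel) (by decide +kernel)

end CfsgLib.Sporadic.CosetCert.J4M24
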