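import Cfsg.Agent.Lib.Sporadic.J4M24.Bound
import Cfsg.Agent.Lib.Sporadic.J4M24.CertG

/-!
# The bound for the whole group
-/

set_option autoImplicit false
set_option maxRecDepth 100000

namespace CfsgLib.Sporadic.CosetCert.J4M24

open HNDouble

theorem lettersG : (List.range certG.words.length).map certG.letters =
      (rel7 ++ sWords).map List.reverse ∧
    certG.nr = 7 ∧ certG.words.length = 12 ∧ certG.nl = 4 ∧ certG.N = 24 ∧
    (List.range 4).map certG.inv = (List.range 4).map flip ∧ rel7.length = 7 ∧ sWords.length = 5 := by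
  decide +kernel

theorem sWords_small : sWords.all (fun r => r.all fun a => Nat.blt a 4) = true := by decide +kernel

/-- Two elements with the seven relations generate a group of order at most three times that of `M₂₄`. -/
theorem card_XY {G : Type*} [Group G] {s : ℕ → G} (h : ∀ r ∈ rel7, ev s r = 1) :
    Nat.card (Subgroup.closure (s '' Set.Iio 2)) ≤ 24 * (1771 * (5760 * 3)) ∧
      Nat.card (Subgroup.closure (s '' Set.Iio 2)) ≠ 0 := by
  obtain ⟨hl, hnr, hlen, hnl, hN, hiv, h7, h5⟩ := lettersG
  have rG := reads_of (s := s) (S := Subgroup.closure (sEl s '' Set.Iio 5)) hnl rfl (by rw [hnr, h7])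
    (by rw [hlen, h7, h5]) hl hiv (by decide +kernel) h
    (fun r hr => by
      obtain ⟨i, hi, rfl⟩ := List.mem_iff_getElem.1 hr
      refine Subgroup.subset_closure ⟨i, show i < 5 by omega, ?_⟩
      rw [sEl, List.getD_eq_getElem _ _ hi])
  have hG := rG.relIndex_le certG_valid (by rw [hN]; norm_num)
  rw [hnl, hN, closure_gl s (n := 4) rfl] at hG
  have hle : Subgroup.closure (sEl s '' Set.Iio 5) ≤ Subgroup.closure (s '' Set.Iio (4 / 2)) := by
    rw [Subgroup.closure_le]
    rintro _ ⟨i, hi, rfl⟩
    have hi' : i < sWords.length := by rw [h5]; exact hi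
    rw [SetLike.mem_coe, sEl, List.getD_eq_getElem _ _ hi']
    refine list_prod_mem fun g hg => ?_
    obtain ⟨a, ha, rfl⟩ := List.mem_map.1 hg
    have ha4 : a < 4 :=
      Nat.le_of_ble_eq_true (List.all_eq_true.1 (List.all_eq_true.1 sWords_small _ (List.getElem_mem hi')) a ha)
    have hm : s (a / 2) ∈ Subgroup.closure (s '' Set.Iio (4 / 2)) :=
      Subgroup.subset_closure ⟨_, show a / 2 < 4 / 2 by omega, rfl⟩
    rw [val]
    split
    · exact hm
    · exact inv_mem hm
  exact card_le_of_relIndex hle hG (card_K h)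

end CfsgLib.Sporadic.CosetCert.J4M24
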