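import Mathlib.Data.Nat.Notation

/-!
# Two permutations of 24 points and words for the standard generators
-/

set_option autoImplicit false

namespace CfsgLib.Sporadic.CosetCert.J4M24

/-- The table of the permutation of `x`. -/
def xTbl : List ℕ := [23, 18, 6, 16, 17, 8, 2, 9, 5, 7, 15, 22, 20, 21, 19, 10, 3, 4, 1, 14, 12, 13, 11, 0]

/-- The table of the permutation of `y`. -/
def yTbl : List ℕ := [12, 18, 2, 17, 10, 6, 14, 7, 0, 13, 22, 1, 8, 16, 5, 15, 9, 19, 11, 3, 20, 21, 4, 23]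

/-- Words for the three standard generators, in product order. -/
def sgenWords : List (List ℕ) := [[2, 0, 3, 0, 3, 0, 3, 0, 3, 0, 3, 0, 2, 0, 2, 0, 3, 0, 3, 0, 2, 0, 3, 0, 3, 0, 2, 0, 2, 0, 2, 0, 3, 0, 3, 0, 3, 0, 2, 0, 3, 0, 3, 0, 2, 0, 2, 0, 2, 0, 2, 0], [3, 0, 3, 0, 3, 0, 3, 0, 2, 0, 3, 0, 3, 0, 3, 0, 2, 0, 2, 0, 2, 0, 3, 0, 2, 0, 2, 0, 2, 0, 2], [0, 2, 0, 2, 0, 2, 0, 2, 0, 2, 0, 3, 0, 3, 0, 2, 0, 2, 0, 3, 0, 3, 0, 2, 0, 3, 0, 3, 0, 2, 0, 2, 0, 2, 0, 3, 0, 3, 0, 3, 0, 2, 0, 2, 0, 2, 0, 3, 0, 2, 0, 2, 0, 2, 0, 3, 0, 3]]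

end CfsgLib.Sporadic.CosetCert.J4M24
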