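import Cfsg.Prelude.Def_Spor_J4
import Cfsg.Agent.Lib.Sporadic.J4Rep
import Cfsg.Agent.Lib.Sporadic.J4M24.Index
import Cfsg.Agent.Lib.Sporadic.J4M24.PermData
import Cfsg.Agent.Lib.Sporadic.MathieuMultiplierTrivial

/-!
# In the presented fourth Janko group `x` and `y` generate M₂₄
-/

set_option autoImplicit false
set_option maxRecDepth 100000

namespace CfsgLib.Sporadic.CosetCert.J4M24

open Cfsg Cfsg.Spor CfsgLib.SmallGroups.Golay CfsgLib.SmallGroups.M24Group
  CfsgLib.Sporadic.MathieuMultiplier

/-- The presented fourth Janko group. -/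
abbrev J4P : Type := PresentedGroup (coxRelators J4.edges ∪ {r | r ∈ J4.extra})

theorem tbls_ok : IsTbl xTbl ∧ IsTbl yTbl := by decide +kernel

/-- The permutation of `x`. -/
def px : M24 := ⟨tperm xTbl tbls_ok.1, tperm_mem _ _⟩

/-- The permutation of `y`. -/
def py : M24 := ⟨tperm yTbl tbls_ok.2, tperm_mem _ _⟩

/-- The letters in the presented group and in `M₂₄`. -/
def sBoth (k : ℕ) : J4P × M24 :=
  if k = 0 then (PresentedGroup.of .x, px) else (PresentedGroup.of .y, py)

/-- The generator of a letter in the free group. -/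
def sFree (k : ℕ) : FreeGroup J4.Gen := if k = 0 then J4.x else J4.y

theorem rel7_extra : rel7.length = 7 ∧
    ∀ i < 7, ev sFree (rel7.getD i []) = J4.extra.getD i 1 := by
  refine ⟨rfl, ?_⟩
  decide +kernel

/-- A word acts on positions. -/
def actW (L : List ℕ) (i : ℕ) : ℕ :=
  L.foldr (fun a j =>
    let T := if a / 2 = 0 then xTbl else yTbl
    if a % 2 = 0 then T.getD j 0 else (invTbl T).getD j 0) i

theorem val_idx (a : ℕ) (p : GolayPt) :
    idx ((((val (fun k => (sBoth k).2) a) : M24) : Equiv.Perm GolayPt) p) =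
      let T := if a / 2 = 0 then xTbl else yTbl
      if a % 2 = 0 then T.getD (idx p) 0 else (invTbl T).getD (idx p) 0 := by
  have ht : ∀ (T : List ℕ) (_ : IsTbl T), (∀ i < 24, T.getD i 0 < 24 ∧ (invTbl T).getD i 0 < 24) →
      ∀ q, idx (tfun T q) = T.getD (idx q) 0 ∧ idx (tfun (invTbl T) q) = (invTbl T).getD (idx q) 0 := by
    intro T _ hb q
    obtain ⟨h1, h2⟩ := hb (idx q) (idx_lt q)
    exact ⟨CfsgLib.SmallGroups.Golay.idx_pt h1, CfsgLib.SmallGroups.Golay.idx_pt h2⟩
  have hbx : ∀ i < 24, xTbl.getD i 0 < 24 ∧ (invTbl xTbl).getD i 0 < 24 := by decide +kernel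
  have hby : ∀ i < 24, yTbl.getD i 0 < 24 ∧ (invTbl yTbl).getD i 0 < 24 := by decide +kernel
  rcases Nat.eq_zero_or_pos (a / 2) with hk | hk
  · simp only [val, sBoth, hk, if_true]
    split
    · exact (ht xTbl tbls_ok.1 hbx p).1
    · exact (ht xTbl tbls_ok.1 hbx p).2
  · simp only [val, sBoth, Nat.ne_of_gt hk, if_false]
    split
    · exact (ht yTbl tbls_ok.2 hby p).1
    · exact (ht yTbl tbls_ok.2 hby p).2

theorem ev_idx : ∀ (L : List ℕ) (p : GolayPt),
    idx (((ev (fun k => (sBoth k).2) L : M24) : Equiv.Perm GolayPt) p) = actW L (idx p) := by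
  intro L
  induction L with
  | nil => intro p; simp [ev, actW]
  | cons a t ih =>
    intro p
    rw [show ev (fun k => (sBoth k).2) (a :: t) = val (fun k => (sBoth k).2) a * ev (fun k => (sBoth k).2) t by
      simp [ev], Subgroup.coe_mul, Equiv.Perm.mul_apply, val_idx, ih]
    rfl

theorem rel7_act : ∀ i < 7, ∀ j < 24, actW (rel7.getD i []) j = j := by decide +kernel

theorem sgen_act : ∀ k < 3, ∀ j < 24, actW (sgenWords.getD k []) j = (sgenTbl k).getD j 0 := by decide +kernel

theorem ev_map {G H : Type*} [Group G] [Group H] (φ : G →* H) (s : ℕ → G) (L : List ℕ) :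
    φ (ev s L) = ev (fun k => φ (s k)) L := by
  rw [ev, map_list_prod, List.map_map, ev]
  refine congrArg _ (List.map_congr_left fun a _ => ?_)
  simp only [Function.comp_apply, val]
  split
  · rfl
  · rw [map_inv]

theorem rels_both : ∀ r ∈ rel7, ev sBoth r = 1 := by
  intro r hr
  obtain ⟨i, hi, rfl⟩ := List.mem_iff_getElem.1 hr
  rw [← List.getD_eq_getElem rel7 [] hi]
  have hi7 : i < 7 := by rw [← rel7_extra.1]; exact hi
  refine Prod.ext ?_ ?_
  · have h1 := ev_map (MonoidHom.fst J4P M24) sBoth (rel7.getD i [])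
    refine h1.trans ?_
    have h2 : (fun k => (MonoidHom.fst J4P M24) (sBoth k)) =
        fun k => PresentedGroup.mk (coxRelators J4.edges ∪ {r | r ∈ J4.extra}) (sFree k) := by
      funext k
      simp only [sBoth, sFree, MonoidHom.coe_fst]
      split <;> rfl
    rw [h2, ← ev_map, rel7_extra.2 i hi7]
    have hl : J4.extra.length = 12 := rfl
    exact PresentedGroup.one_of_mem (Or.inr (by
      rw [List.getD_eq_getElem _ _ (by omega)]
      exact List.getElem_mem _))
  · refine (ev_map (MonoidHom.snd J4P M24) sBoth (rel7.getD i [])).trans ?_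
    refine Subtype.ext (Equiv.ext fun p => idx_injective ?_)
    show idx (((ev (fun k => (sBoth k).2) (rel7.getD i []) : M24) : Equiv.Perm GolayPt) p) = idx p
    rw [ev_idx, rel7_act i hi7 _ (idx_lt p)]

theorem ev_mem {G : Type*} [Group G] {S : Subgroup G} {s : ℕ → G} (h : ∀ k, s k ∈ S) (L : List ℕ) :
    ev s L ∈ S := by
  refine list_prod_mem fun g hg => ?_
  obtain ⟨a, -, rfl⟩ := List.mem_map.1 hg
  rw [val]
  split
  · exact h _
  · exact inv_mem (h _)

theorem eq_top_of_mem {K : Subgroup M24} (hx : px ∈ K) (hy : py ∈ K) : K = ⊤ := by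
  have hs : ∀ k, (sBoth k).2 ∈ K := fun k => by
    simp only [sBoth]; split
    · exact hx
    · exact hy
  set K' : Subgroup (Equiv.Perm GolayPt) := K.map M24.subtype with hK'
  have hle : K' ≤ M24 := by
    rintro _ ⟨g, -, rfl⟩; exact g.2
  have hgen : ∀ k < 3, sgen k ∈ K' := by
    intro k hk
    refine ⟨ev (fun k => (sBoth k).2) (sgenWords.getD k []), ev_mem hs _, Equiv.ext fun p => idx_injective ?_⟩
    rw [Subgroup.coe_subtype, ev_idx, sgen_act k hk _ (idx_lt p), sgenTbl_spec]
  have hall : ∀ k, sgen k ∈ K' := fun k => by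
    match k with
    | 0 => exact hgen 0 (by norm_num)
    | 1 => exact hgen 1 (by norm_num)
    | j + 2 => exact (hgen 2 (by norm_num) : sgen 2 ∈ K')
  have hc := card_lev hall hle 0 (by norm_num)
  rw [show lev K' 0 = K' from rfl, hK', Subgroup.card_map_of_injective M24.subtype_injective] at hc
  refine Subgroup.eq_top_of_card_eq K ?_
  rw [hc, card_M24]
  rfl

theorem perfect {G : Type*} [Group G] {s : ℕ → G} (h : ∀ r ∈ rel7, ev s r = 1)
    (hgen : Subgroup.closure {s 0, s 1} = ⊤) : commutator G = ⊤ := by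
  have hx : s 0 ^ 2 = 1 := by
    have := h [0, 0] (by decide +kernel)
    simpa [ev, val, pow_two] using this
  have hy : s 1 ^ 3 = 1 := by
    have := h [2, 2, 2] (by decide +kernel)
    simpa [ev, val, pow_succ, mul_assoc] using this
  have hxy : (s 0 * s 1) ^ 23 = 1 := by
    have := h ((List.replicate 23 [0, 2]).flatten) (by decide +kernel)
    simpa [ev, val, pow_succ, mul_assoc] using this
  let φ := Abelianization.of (G := G)
  have h1 : φ (s 0) ^ 2 = 1 := by rw [← map_pow, hx, map_one]
  have h2 : φ (s 1) ^ 3 = 1 := by rw [← map_pow, hy, map_one]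
  have h3 : φ (s 0) ^ 23 * φ (s 1) ^ 23 = 1 := by rw [← mul_pow, ← map_mul, ← map_pow, hxy, map_one]
  rw [pow_eq_pow_mod 23 h1, pow_eq_pow_mod 23 h2] at h3
  norm_num at h3
  have e1 : φ (s 0) = φ (s 1) := by
    calc φ (s 0) = φ (s 0) * φ (s 1) ^ 3 := by rw [h2, mul_one]
      _ = φ (s 0) * φ (s 1) ^ 2 * φ (s 1) := by rw [pow_succ, mul_assoc]
      _ = φ (s 1) := by rw [h3, one_mul]
  have e0 : φ (s 0) = 1 := by
    calc φ (s 0) = φ (s 0) ^ 3 := by rw [pow_succ, h1, one_mul]
      _ = 1 := by rw [e1, h2]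
  rw [← Abelianization.ker_of G, eq_top_iff, ← hgen, Subgroup.closure_le]
  rintro g (rfl | rfl)
  · exact MonoidHom.mem_ker.2 e0
  · exact MonoidHom.mem_ker.2 (e1 ▸ e0)

theorem aut_comm_of_card_le_three {N : Type*} [Group N] [Finite N] (h : Nat.card N ≤ 3) :
    ∀ σ τ : MulAut N, σ * τ = τ * σ := by
  let f : MulAut N → Equiv.Perm {n : N // n ≠ 1} := fun σ =>
    σ.toEquiv.subtypeEquiv fun n => not_congr (map_eq_one_iff σ σ.injective).symm
  have hf : Function.Injective f := by
    intro σ τ e
    ext n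
    by_cases hn : n = 1
    · rw [hn, map_one, map_one]
    · exact congrArg Subtype.val (Equiv.congr_fun e ⟨n, hn⟩)
  have hsub : Nat.card {n : N // n ≠ 1} < Nat.card N := Finite.card_subtype_lt (x := (1 : N)) (fun e => e rfl)
  have hle : Nat.card (MulAut N) ≤ 2 := by
    refine (Nat.card_le_card_of_injective f hf).trans ?_
    rw [Nat.card_perm]
    exact (Nat.factorial_le (show Nat.card {n : N // n ≠ 1} ≤ 2 by omega)).trans (by decide)
  intro σ τ
  haveI : Finite (MulAut N) := Finite.of_injective f hf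
  have hc : IsCyclic (MulAut N) := by
    rcases Nat.lt_or_ge (Nat.card (MulAut N)) 2 with h1 | h1
    · haveI : Subsingleton (MulAut N) := by
        rw [← Finite.card_le_one_iff_subsingleton]; omega
      exact ⟨⟨1, fun x => by rw [Subsingleton.elim x 1]; exact Subgroup.mem_zpowers 1⟩⟩
    · haveI : Fact (Nat.Prime 2) := ⟨Nat.prime_two⟩
      exact isCyclic_of_prime_card (p := 2) (by omega)
  exact hc.isMulCommutative.is_comm.comm σ τ

/-- The pairs of an element of the presented group and its permutation. -/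
def pairs : Subgroup (J4P × M24) := Subgroup.closure (sBoth '' Set.Iio 2)

theorem sBoth_mem (k : ℕ) : sBoth k ∈ pairs := Subgroup.subset_closure (by
  rcases Nat.eq_zero_or_pos k with rfl | hk
  · exact ⟨0, by norm_num, rfl⟩
  · exact ⟨1, by norm_num, by simp [sBoth, Nat.ne_of_gt hk]⟩)

/-- An element is determined by its permutation; every permutation of `M₂₄` occurs. -/
theorem pairs_bij : Function.Bijective fun z : pairs => (z : J4P × M24).2 := by
  set E := Subgroup.closure (sBoth '' Set.Iio 2) with hEdef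
  obtain ⟨hE, hE0⟩ := card_XY rels_both
  have : Finite E := Nat.finite_of_card_ne_zero hE0
  have hmem : ∀ k, sBoth k ∈ E := fun k => Subgroup.subset_closure (by
    rcases Nat.eq_zero_or_pos k with rfl | hk
    · exact ⟨0, by norm_num, rfl⟩
    · exact ⟨1, by norm_num, by simp [sBoth, Nat.ne_of_gt hk]⟩)
  let π : E →* M24 := (MonoidHom.snd J4P M24).comp E.subtype
  let sE : ℕ → E := fun k => ⟨sBoth k, hmem k⟩
  have hgen : Subgroup.closure {sE 0, sE 1} = ⊤ := by
    apply Subgroup.map_injective E.subtype_injective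
    rw [MonoidHom.map_closure, ← MonoidHom.range_eq_map, Subgroup.range_subtype]
    show Subgroup.closure _ = Subgroup.closure (sBoth '' Set.Iio 2)
    congr 1
    ext g
    simp only [Set.image_insert_eq, Set.image_singleton, Set.mem_insert_iff, Set.mem_singleton_iff, Set.mem_image]
    constructor
    · rintro (rfl | rfl)
      · exact ⟨0, by norm_num, rfl⟩
      · exact ⟨1, by norm_num, rfl⟩
    · rintro ⟨k, hk, rfl⟩
      have hk' : k = 0 ∨ k = 1 := by have : k < 2 := hk; omega
      rcases hk' with rfl | rfl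
      · exact Or.inl rfl
      · exact Or.inr rfl
  have hπs : Function.Surjective π := by
    rw [← MonoidHom.range_eq_top]
    refine eq_top_of_mem ⟨sE 0, rfl⟩ ⟨sE 1, rfl⟩
  have hperf : commutator E = ⊤ := by
    refine perfect (s := sE) (fun r hr => ?_) hgen
    apply E.subtype_injective
    rw [ev_map, map_one]
    exact rels_both r hr
  have hker : Nat.card π.ker ≤ 3 := by
    have h1 := Subgroup.card_mul_index π.ker
    rw [Subgroup.index_ker, MonoidHom.range_eq_top.2 hπs, Subgroup.card_top, card_M24] at h1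
    by_contra hlt
    have h2 := Nat.mul_le_mul_right 244823040 (show 4 ≤ Nat.card π.ker by omega)
    rw [h1] at h2
    have h3 := le_trans h2 hE
    norm_num at h3
  have hcen : π.ker ≤ Subgroup.center E := by
    have hab : ∀ (σ τ : MulAut π.ker), σ * τ = τ * σ := aut_comm_of_card_le_three hker
    let c : E →* MulAut π.ker := MulAut.conjNormal
    have hc : commutator E ≤ c.ker := by
      rw [commutator_def, Subgroup.commutator_le]
      intro g _ h _
      rw [MonoidHom.mem_ker, commutatorElement_def, map_mul, map_mul, map_mul, map_inv, map_inv, hab (c g)]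
      group
    intro z hz
    rw [Subgroup.mem_center_iff]
    intro g
    have hg : c g = 1 := MonoidHom.mem_ker.1 (hc (by rw [hperf]; exact Subgroup.mem_top g))
    have := congrArg (fun σ : MulAut π.ker => ((σ ⟨z, hz⟩ : π.ker) : E)) hg
    simp only [c, MulAut.conjNormal_apply, MulAut.one_apply] at this
    exact mul_inv_eq_iff_eq_mul.1 this
  have hbot : π.ker = ⊥ :=
    by
    obtain ⟨q, hq⟩ := multiplier_M24.2 E π ⟨hπs, hcen, by rw [hperf]; exact le_top⟩
    haveI : Subsingleton π.ker := hq.subsingleton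
    exact (Subgroup.eq_bot_of_subsingleton _)
  exact ⟨(MonoidHom.ker_eq_bot_iff π).1 hbot, hπs⟩

theorem main : Nonempty
    ((Subgroup.closure ({J4.x, J4.y} : Set (FreeGroup J4.Gen))).map
        (PresentedGroup.mk (coxRelators J4.edges ∪ {r | r ∈ J4.extra})) ≃* M24) := by
  set E := Subgroup.closure (sBoth '' Set.Iio 2) with hEdef
  obtain ⟨hE, hE0⟩ := card_XY rels_both
  have : Finite E := Nat.finite_of_card_ne_zero hE0
  have hmem : ∀ k, sBoth k ∈ E := fun k => Subgroup.subset_closure (by
    rcases Nat.eq_zero_or_pos k with rfl | hk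
    · exact ⟨0, by norm_num, rfl⟩
    · exact ⟨1, by norm_num, by simp [sBoth, Nat.ne_of_gt hk]⟩)
  let π : E →* M24 := (MonoidHom.snd J4P M24).comp E.subtype
  let ρ : E →* J4P := (MonoidHom.fst J4P M24).comp E.subtype
  let sE : ℕ → E := fun k => ⟨sBoth k, hmem k⟩
  have hgen : Subgroup.closure {sE 0, sE 1} = ⊤ := by
    apply Subgroup.map_injective E.subtype_injective
    rw [MonoidHom.map_closure, ← MonoidHom.range_eq_map, Subgroup.range_subtype]
    show Subgroup.closure _ = Subgroup.closure (sBoth '' Set.Iio 2)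
    congr 1
    ext g
    simp only [Set.image_insert_eq, Set.image_singleton, Set.mem_insert_iff, Set.mem_singleton_iff, Set.mem_image]
    constructor
    · rintro (rfl | rfl)
      · exact ⟨0, by norm_num, rfl⟩
      · exact ⟨1, by norm_num, rfl⟩
    · rintro ⟨k, hk, rfl⟩
      have hk' : k = 0 ∨ k = 1 := by have : k < 2 := hk; omega
      rcases hk' with rfl | rfl
      · exact Or.inl rfl
      · exact Or.inr rfl
  have hπs : Function.Surjective π := by
    rw [← MonoidHom.range_eq_top]
    refine eq_top_of_mem ⟨sE 0, rfl⟩ ⟨sE 1, rfl⟩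
  have hπ : Function.Bijective π := pairs_bij
  let φ : M24 →* J4P := ρ.comp (MulEquiv.ofBijective π hπ).symm.toMonoidHom
  have : IsSimpleGroup M24 := CfsgLib.SmallGroups.MathieuSimple.isSimple_M24
  have hk : φ.ker ≠ ⊤ := by
    intro hk
    have hx : π (sE 0) ∈ φ.ker := by rw [hk]; exact Subgroup.mem_top _
    rw [MonoidHom.mem_ker] at hx
    have hx2 : ρ (sE 0) = 1 := by
      have e : (MulEquiv.ofBijective π hπ).symm (π (sE 0)) = sE 0 :=
        (MulEquiv.ofBijective π hπ).symm_apply_apply (sE 0)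
      simpa [φ, e] using hx
    exact CfsgLib.Sporadic.J4Rep.x_ne_one hx2
  have hinj : Function.Injective φ := by
    rw [← MonoidHom.ker_eq_bot_iff]
    exact (Subgroup.Normal.eq_bot_or_eq_top (MonoidHom.normal_ker φ)).resolve_right hk
  have hr : φ.range = (Subgroup.closure ({J4.x, J4.y} : Set (FreeGroup J4.Gen))).map
      (PresentedGroup.mk (coxRelators J4.edges ∪ {r | r ∈ J4.extra})) := by
    rw [MonoidHom.range_comp, MonoidHom.range_eq_top.2 (MulEquiv.surjective _), ← MonoidHom.range_eq_map,
      MonoidHom.range_eq_map, ← hgen, MonoidHom.map_closure, MonoidHom.map_closure]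
    congr 1
    rw [Set.image_insert_eq, Set.image_singleton, Set.image_insert_eq, Set.image_singleton]
    rfl
  exact ⟨(MulEquiv.subgroupCongr hr.symm).trans (MonoidHom.ofInjective hinj).symm⟩

end CfsgLib.Sporadic.CosetCert.J4M24
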