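import Cfsg.Agent.Lib.Sporadic.J4M24.CertHData

/-!
# Coset enumeration certificate J4M24.certH, checks 3

Machine-generated data and the kernel checks on it.
-/

set_option maxRecDepth 100000

namespace CfsgLib.Sporadic.CosetCert.J4M24

theorem certH_closed2 : certH.closedFrom 23041 4000 1760 = true := by decide +kernel

end CfsgLib.Sporadic.CosetCert.J4M24
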