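import Cfsg.Agent.Lib.Sporadic.J4M24.CertHCheck0
import Cfsg.Agent.Lib.Sporadic.J4M24.CertHCheck1
import Cfsg.Agent.Lib.Sporadic.J4M24.CertHCheck2
import Cfsg.Agent.Lib.Sporadic.J4M24.CertHCheck3

/-!
# Coset enumeration certificate J4M24.certH

Machine-generated data and the kernel checks on it.
-/

set_option maxRecDepth 100000

namespace CfsgLib.Sporadic.CosetCert.J4M24


theorem certH_valid : certH.Valid :=
  valid_of
    (fun k hk => (range_split (range_split (range_split (range_split (range_split (range_split (range_split (range_split (range_split (keysOK_spec certH_keys0) (keysOK_spec certH_keys1)) (keysOK_spec certH_keys2)) (keysOK_spec certH_keys3)) (keysOK_spec certH_keys4)) (keysOK_spec certH_keys5)) (keysOK_spec certH_keys6)) (keysOK_spec certH_keys7)) (keysOK_spec certH_keys8)) (keysOK_spec certH_keys9)) k (Nat.zero_le _) hk)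
    (fun u hu => ⟨23041, (range_split (range_split (closedFrom_spec certH_closed0) (closedFrom_spec certH_closed1)) (closedFrom_spec certH_closed2)) u (Nat.zero_le _) hu⟩)
    (by decide +kernel) (by decide +kernel)

end CfsgLib.Sporadic.CosetCert.J4M24
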