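import Cfsg.Agent.Lib.Sporadic.J4M24.CertKData

/-!
# Coset enumeration certificate J4M24.certK, checks 2

Machine-generated data and the kernel checks on it.
-/

set_option maxRecDepth 100000

namespace CfsgLib.Sporadic.CosetCert.J4M24

theorem certK_keys8 : certK.keysOK 24000 3000 = true := by decide +kernel
theorem certK_keys9 : certK.keysOK 27000 2832 = true := by decide +kernel
theorem certK_closed0 : certK.closedFrom 22006 0 1771 = true := by decide +kernel

end CfsgLib.Sporadic.CosetCert.J4M24
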