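import Cfsg.Agent.Lib.Sporadic.J4M24.CertKCheck0
import Cfsg.Agent.Lib.Sporadic.J4M24.CertKCheck1
import Cfsg.Agent.Lib.Sporadic.J4M24.CertKCheck2

/-!
# Coset enumeration certificate J4M24.certK

Machine-generated data and the kernel checks on it.
-/

set_option maxRecDepth 100000

namespace CfsgLib.Sporadic.CosetCert.J4M24


theorem certK_valid : certK.Valid :=
  valid_of
    (fun k hk => (range_split (range_split (range_split (range_split (range_split (range_split (range_split (range_split (range_split (keysOK_spec certK_keys0) (keysOK_spec certK_keys1)) (keysOK_spec certK_keys2)) (keysOK_spec certK_keys3)) (keysOK_spec certK_keys4)) (keysOK_spec certK_keys5)) (keysOK_spec certK_keys6)) (keysOK_spec certK_keys7)) (keysOK_spec certK_keys8)) (keysOK_spec certK_keys9)) k (Nat.zero_le _) hk)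
    (fun u hu => ⟨22006, (closedFrom_spec certK_closed0) u (Nat.zero_le _) hu⟩)
    (by decide +kernel) (by decide +kernel)

end CfsgLib.Sporadic.CosetCert.J4M24
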