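import Mathlib.Data.Nat.Notation

/-!
# The relations of a point stabiliser in the presented Mathieu group as consequences of the relators

Letters `0, 1, 2, 3` stand for `x, x⁻¹, y, y⁻¹`; words are in product order.
-/

set_option autoImplicit false
set_option maxRecDepth 100000

namespace CfsgLib.Sporadic.CosetCert.J4M24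

/-- The seven relators. -/
def rel7 : List (List ℕ) := [[0, 0], [2, 2, 2], [0, 2, 0, 2, 0, 2, 0, 2, 0, 2, 0, 2, 0, 2, 0, 2, 0, 2, 0, 2, 0, 2, 0, 2, 0, 2, 0, 2, 0, 2, 0, 2, 0, 2, 0, 2, 0, 2, 0, 2, 0, 2, 0, 2, 0, 2], [1, 3, 0, 2, 1, 3, 0, 2, 1, 3, 0, 2, 1, 3, 0, 2, 1, 3, 0, 2, 1, 3, 0, 2, 1, 3, 0, 2, 1, 3, 0, 2, 1, 3, 0, 2, 1, 3, 0, 2, 1, 3, 0, 2, 1, 3, 0, 2], [1, 3, 1, 3, 0, 2, 0, 2, 1, 3, 1, 3, 0, 2, 0, 2, 1, 3, 1, 3, 0, 2, 0, 2, 1, 3, 1, 3, 0, 2, 0, 2, 1, 3, 1, 3, 0, 2, 0, 2], [0, 2, 0, 2, 0, 3, 0, 2, 0, 3, 0, 2, 0, 3, 0, 2, 0, 2, 0, 3, 0, 2, 0, 3, 0, 2, 0, 3, 0, 2, 0, 2, 0, 3, 0, 2, 0, 3, 0, 2, 0, 3, 0, 2, 0, 2, 0, 3, 0, 2, 0,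 3, 0, 2, 0, 3], [0, 2, 0, 2, 0, 3, 0, 2, 0, 2, 0, 3, 0, 2, 0, 2, 0, 3, 0, 2, 0, 3, 0, 3, 0, 2, 0, 3, 0, 3, 0, 2, 0, 3, 0, 3]]

/-- The five generators of the stabiliser. -/
def sWords : List (List ℕ) := [[0, 3, 0, 2, 1, 2, 1], [2], [0, 2, 0, 2, 0, 3, 0, 3, 0, 2, 1, 2, 1, 2, 1, 3, 1, 3, 1], [0, 2, 0, 3, 0, 2, 1, 2, 1, 3, 1], [0, 2, 0, 2, 0, 2, 0, 2, 0, 2, 0, 2, 1, 3, 1, 3, 1, 3, 1, 3, 1]]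

/-- The relations in the five generators. -/
def kRels : List (List ℕ) := [[2, 2, 2], [0, 0, 0], [6, 6, 6], [5, 2, 7, 1, 5, 2, 7, 1, 5, 2, 7, 1], [4, 4, 4], [8, 5, 2, 7, 1, 2, 1, 2, 0, 3, 4, 6, 0, 2], [9, 9, 9, 9, 9, 9, 9, 9, 9, 9, 9, 9, 9, 9, 9, 9, 9, 9, 9, 9, 9, 9, 9], [0, 2, 1, 3, 0, 3, 5, 9, 9, 0, 6, 3, 4, 7, 2], [1, 2, 1, 2, 1, 2, 1, 2, 1, 2], [7, 9, 5, 2, 7, 1, 9, 9, 9, 2, 1, 3, 0, 3], [5, 2, 1, 2, 0, 3, 5, 2, 1, 2, 0, 3, 5, 2, 1, 2, 0, 3, 5, 2, 1, 2, 0, 3, 5, 2, 1, 2, 0, 3], [1, 3, 0, 3, 5, 1, 1, 3, 0, 3, 5, 1], [2, 6, 5, 2, 7, 1, 7, 2, 6, 5, 2, 7, 1, 7], [5, 2, 7, 1, 8, 8, 0, 6, 3, 4, 7, 1, 3, 6, 2, 0], [0, 3, 6, 9, 9, 0,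 6, 3, 4, 4, 2, 1, 2, 0, 3, 7, 2], [0, 2, 1, 3, 0, 3, 4, 2, 1, 2, 0, 3, 0, 2, 1, 3, 0, 3, 4, 2, 1, 2, 0, 3], [2, 0, 2, 1, 2, 0, 3, 1, 2, 0, 2, 1, 2, 0, 3, 1], [6, 5, 2, 7, 1, 8, 4, 2, 1, 2, 0, 3, 5, 9, 9, 9, 0, 6, 3, 4], [8, 8, 4, 9, 9, 5, 2, 7, 1, 8, 8, 2, 1, 3, 0, 3, 5], [1, 2, 0, 3, 7, 3, 7], [5, 2, 7, 1, 6, 0, 6, 3, 4, 1], [9, 9, 9, 5, 2, 7, 1, 8, 8, 8, 7], [8, 8, 0, 6, 3, 4, 4, 2, 1, 3, 0, 3, 5, 2, 1, 2, 0, 3], [2, 1, 2, 0, 3, 7, 1, 3, 0, 6], [8, 2, 1, 3, 0, 3, 4, 2, 1, 2, 0, 3, 9, 0, 6, 3, 4], [5, 2, 7, 1, 6, 9, 9, 5], [2, 1, 2, 0, 3, 5, 0, 4, 2, 1, 3, 0, 3, 5], [4, 8, 8, 0, 6, 3, 4, 1], [8, 0, 6, 3, 4, 4, 9, 0, 6, 3, 4, 8, 8]]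

/-- The conjugates of relators for relation 0. -/
def conj0 : List (List ℕ × ℕ × Bool) :=
  [([], 1, true)]

/-- The conjugates of relators for relation 1. -/
def conj1 : List (List ℕ × ℕ × Bool) :=
  [([0, 3, 0], 1, true)]

/-- The conjugates of relators for relation 2. -/
def conj2 : List (List ℕ × ℕ × Bool) :=
  [([0, 2, 0, 3, 0], 1, true)]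

/-- The conjugates of relators for relation 3. -/
def conj3 : List (List ℕ × ℕ × Bool) :=
  [([0, 2, 0, 2, 0, 3, 0, 3, 0, 3, 1, 2, 1, 2, 1, 3, 1, 3, 1, 2, 0, 2, 0, 3, 0, 3, 1, 2, 1, 3, 3, 0, 3, 1, 2, 2, 0, 2, 0, 3, 0, 3, 0, 3, 1, 2, 1, 2, 1, 3, 1, 3, 1, 2, 0, 2, 0, 3, 0, 3, 1, 2, 1, 3, 3, 0, 3, 1, 2, 2, 0, 2, 0, 3, 0, 3, 0, 3, 1, 2, 1, 2, 1, 3, 1, 3, 1, 2, 0, 2, 0, 3, 0, 3, 1, 2, 1, 3, 3, 0, 3, 1, 2, 2, 0, 2, 0, 2, 0, 3], 0, true),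
    ([0, 2, 0, 2, 0, 3, 0, 3, 0, 3, 1, 2, 1, 2, 1, 3, 1, 3, 1, 2, 0, 2, 0, 3, 0, 3, 1, 2, 1, 3, 3, 0, 3, 1, 2, 2, 0, 2, 0, 3, 0, 3, 0, 3, 1, 2, 1, 2, 1, 3, 1, 3, 1, 2, 0, 2, 0, 3, 0, 3, 1, 2, 1, 3, 3, 0, 3, 1, 2, 2, 0, 2, 0, 3, 0, 3, 0, 3, 1, 2, 1, 2, 1, 3, 1, 3, 1, 2, 0, 2, 0, 3, 0, 3, 1, 2, 1, 3, 3, 0, 3, 1, 2, 2, 0, 2, 0, 2], 0, true),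
    ([0, 2, 0, 2, 0, 3, 0, 3, 0, 3, 1, 2, 1, 2, 1, 3, 1, 3, 1, 2, 0, 2, 0, 3, 0, 3, 1, 2, 1, 3, 3, 0, 3, 1, 2, 2, 0, 2, 0, 3, 0, 3, 0, 3, 1, 2, 1, 2, 1, 3, 1, 3, 1, 2, 0, 2, 0, 3, 0, 3, 1, 2, 1, 3, 3, 0, 3, 1, 2, 2, 0, 2, 0, 3, 0, 3, 0, 3, 1, 2, 1, 2, 1, 3, 1, 3, 1, 2, 0, 2, 0, 3, 0, 3, 1, 2, 1, 3, 3, 0, 3, 1, 2], 1, true),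
    ([0, 2, 0, 2, 0, 3, 0, 3, 0, 3, 1, 2, 1, 2, 1, 3, 1, 3, 1, 2, 0, 2, 0, 3, 0, 3, 1, 2, 1, 3, 3, 0, 3, 1, 2, 2, 0, 2, 0, 3, 0, 3, 0, 3, 1, 2, 1, 2, 1, 3, 1, 3, 1, 2, 0, 2, 0, 3, 0, 3, 1, 2, 1, 3, 3, 0, 3, 1, 2, 2, 0, 2, 0, 3, 0, 3, 0, 3, 1, 2, 1, 2, 1, 3, 1, 3, 1, 2, 0, 2, 0, 3, 0, 3, 1, 2, 1, 3, 3], 0, true),
    ([0, 2, 0, 2, 0, 3, 0, 3, 0, 3, 1, 2, 1, 2, 1, 3, 1, 3, 1, 2, 0, 2, 0, 3, 0, 3, 1, 2, 1, 3, 3, 0, 3, 1, 2, 2, 0, 2, 0, 3, 0, 3, 0, 3, 1, 2, 1, 2, 1, 3, 1, 3, 1, 2, 0, 2, 0, 3, 0, 3, 1, 2, 1, 3, 3, 0, 3, 1, 2, 2, 0, 2, 0, 3, 0, 3, 0, 3, 1, 2, 1, 2, 1, 3, 1, 3, 1, 2, 0, 2, 0, 3, 0, 3, 1, 2, 1, 3], 1, false),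
    ([0, 2, 0, 2, 0, 3, 0, 3, 0, 3, 1, 2, 1, 2, 1, 3, 1, 3, 1, 2, 0, 2, 0, 3, 0, 3, 1, 2, 1, 3, 3, 0, 3, 1, 2, 2, 0, 2, 0, 3, 0, 3, 0, 3, 1, 2, 1, 2, 1, 3, 1, 3, 1, 2, 0, 2, 0, 3, 0, 3, 1, 2, 1, 3, 3, 0, 3, 1, 2, 2, 0, 2, 0, 3, 0, 3, 0, 3, 1, 2, 1, 2, 1, 3, 1, 3, 1, 2, 0, 2, 0, 3, 0, 3, 1, 2, 1], 0, false),
    ([0, 2, 0, 2, 0, 3, 0, 3, 0, 3, 1, 2, 1, 2, 1, 3, 1, 3, 1, 2, 0, 2, 0, 3, 0, 3, 1, 2, 1, 3, 3, 0, 3, 1, 2, 2, 0, 2, 0, 3, 0, 3, 0, 3, 1, 2, 1, 2, 1, 3, 1, 3, 1, 2, 0, 2, 0, 3, 0, 3, 1, 2, 1, 3, 3, 0, 3, 1, 2, 2, 0, 2, 0, 3, 0, 3, 0, 3, 1, 2, 1, 2, 1, 3, 1, 3, 1, 2, 0, 2, 0, 3, 0, 3, 1], 0, false),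
    ([0, 2, 0, 2, 0, 3, 0, 3, 0, 3, 1, 2, 1, 2, 1, 3, 1, 3, 1, 2, 0, 2, 0, 3, 0, 3, 1, 2, 1, 3, 3, 0, 3, 1, 2, 2, 0, 2, 0, 3, 0, 3, 0, 3, 1, 2, 1, 2, 1, 3, 1, 3, 1, 2, 0, 2, 0, 3, 0, 3, 1, 2, 1, 3, 3, 0, 3, 1, 2, 2, 0, 2, 0, 3, 0, 3, 0, 3, 1, 2, 1, 2, 1, 3, 1, 3, 1, 2, 0, 2, 0, 3], 0, true),
    ([0, 2, 0, 2, 0, 3, 0, 3, 0, 3, 1, 2, 1, 2, 1, 3, 1, 3, 1, 2, 0, 2, 0, 3, 0, 3, 1, 2, 1, 3, 3, 0, 3, 1, 2, 2, 0, 2, 0, 3, 0, 3, 0, 3, 1, 2, 1, 2, 1, 3, 1, 3, 1, 2, 0, 2, 0, 3, 0, 3, 1, 2, 1, 3, 3, 0, 3, 1, 2, 2, 0, 2, 0, 3, 0, 3, 0, 3, 1, 2, 1, 2, 1, 3, 1, 3, 1, 2, 0, 2], 0, true),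
    ([0, 2, 0, 2, 0, 3, 0, 3, 0, 3, 1, 2, 1, 2, 1, 3, 1, 3, 1, 2, 0, 2, 0, 3, 0, 3, 1, 2, 1, 3, 3, 0, 3, 1, 2, 2, 0, 2, 0, 3, 0, 3, 0, 3, 1, 2, 1, 2, 1, 3, 1, 3, 1, 2, 0, 2, 0, 3, 0, 3, 1, 2, 1, 3, 3, 0, 3, 1, 2, 2, 0, 2, 0, 3, 0, 3, 0, 3, 1, 2, 1, 2, 1, 3, 1, 3, 1, 2, 0, 2], 4, true),
    ([0, 2, 0, 2, 0, 3, 0, 3, 0, 3, 1, 2, 1, 2, 1, 3, 1, 3, 1, 2, 0, 2, 0, 3, 0, 3, 1, 2, 1, 3, 3, 0, 3, 1, 2, 2, 0, 2, 0, 3, 0, 3, 0, 3, 1, 2, 1, 2, 1, 3, 1, 3, 1, 2, 0, 2, 0, 3, 0, 3, 1, 2, 1, 3, 3, 0, 3, 1, 2, 2, 0, 2, 0, 3, 0, 3, 0, 3, 1, 2, 1, 2, 1, 3, 1, 3, 1], 0, false),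
    ([0, 2, 0, 2, 0, 3, 0, 3, 0, 3, 1, 2, 1, 2, 1, 3, 1, 3, 1, 2, 0, 2, 0, 3, 0, 3, 1, 2, 1, 3, 3, 0, 3, 1, 2, 2, 0, 2, 0, 3, 0, 3, 0, 3, 1, 2, 1, 2, 1, 3, 1, 3, 1, 2, 0, 2, 0, 3, 0, 3, 1, 2, 1, 3, 3, 0, 3, 1, 2, 2, 0, 2, 0, 3, 0, 3, 0, 3, 1, 2, 1], 0, false),
    ([0, 2, 0, 2, 0, 3, 0, 3, 0, 3, 1, 2, 1, 2, 1, 3, 1, 3, 1, 2, 0, 2, 0, 3, 0, 3, 1, 2, 1, 3, 3, 0, 3, 1, 2, 2, 0, 2, 0, 3, 0, 3, 0, 3, 1, 2, 1, 2, 1, 3, 1, 3, 1, 2, 0, 2, 0, 3, 0, 3, 1, 2, 1, 3, 3, 0, 3, 1, 2, 2, 0, 2, 0, 3, 0, 3, 0, 3, 1], 0, false),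
    ([0, 2, 0, 2, 0, 3, 0, 3, 0, 3, 1, 2, 1, 2, 1, 3, 1, 3, 1, 2, 0, 2, 0, 3, 0, 3, 1, 2, 1, 3, 3, 0, 3, 1, 2, 2, 0, 2, 0, 3, 0, 3, 0, 3, 1, 2, 1, 2, 1, 3, 1, 3, 1, 2, 0, 2, 0, 3, 0, 3, 1, 2, 1, 3, 3, 0, 3, 1, 2, 2, 0, 2, 0, 3, 0, 3], 0, true),
    ([0, 2, 0, 2, 0, 3, 0, 3, 0, 3, 1, 2, 1, 2, 1, 3, 1, 3, 1, 2, 0, 2, 0, 3, 0, 3, 1, 2, 1, 3, 3, 0, 3, 1, 2, 2, 0, 2, 0, 3, 0, 3, 0, 3, 1, 2, 1, 2, 1, 3, 1, 3, 1, 2, 0, 2, 0, 3, 0, 3, 1, 2, 1, 3, 3, 0, 3, 1, 2, 2, 0, 2, 0, 3], 0, true),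
    ([0, 2, 0, 2, 0, 3, 0, 3, 0, 3, 1, 2, 1, 2, 1, 3, 1, 3, 1, 2, 0, 2, 0, 3, 0, 3, 1, 2, 1, 3, 3, 0, 3, 1, 2, 2, 0, 2, 0, 3, 0, 3, 0, 3, 1, 2, 1, 2, 1, 3, 1, 3, 1, 2, 0, 2, 0, 3, 0, 3, 1, 2, 1, 3, 3, 0, 3, 1, 2, 2, 0, 2, 0], 1, false),
    ([0, 2, 0, 2, 0, 3, 0, 3, 0, 3, 1, 2, 1, 2, 1, 3, 1, 3, 1, 2, 0, 2, 0, 3, 0, 3, 1, 2, 1, 3, 3, 0, 3, 1, 2, 2, 0, 2, 0, 3, 0, 3, 0, 3, 1, 2, 1, 2, 1, 3, 1, 3, 1, 2, 0, 2, 0, 3, 0, 3, 1, 2, 1, 3, 3, 0, 3, 1, 2, 2, 0, 2, 0, 2], 0, false),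
    ([0, 2, 0, 2, 0, 3, 0, 3, 0, 3, 1, 2, 1, 2, 1, 3, 1, 3, 1, 2, 0, 2, 0, 3, 0, 3, 1, 2, 1, 3, 3, 0, 3, 1, 2, 2, 0, 2, 0, 3, 0, 3, 0, 3, 1, 2, 1, 2, 1, 3, 1, 3, 1, 2, 0, 2, 0, 3, 0, 3, 1, 2, 1, 3, 3, 0, 3, 1, 2, 2, 0, 2, 0, 2, 0, 3], 0, false),
    ([0, 2, 0, 2, 0, 3, 0, 3, 0, 3, 1, 2, 1, 2, 1, 3, 1, 3, 1, 2, 0, 2, 0, 3, 0, 3, 1, 2, 1, 3, 3, 0, 3, 1, 2, 2, 0, 2, 0, 3, 0, 3, 0, 3, 1, 2, 1, 2, 1, 3, 1, 3, 1, 2, 0, 2, 0, 3, 0, 3, 1, 2, 1, 3, 3, 0, 3, 1, 2, 2, 0, 2, 0, 2, 0, 3], 0, true),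
    ([0, 2, 0, 2, 0, 3, 0, 3, 0, 3, 1, 2, 1, 2, 1, 3, 1, 3, 1, 2, 0, 2, 0, 3, 0, 3, 1, 2, 1, 3, 3, 0, 3, 1, 2, 2, 0, 2, 0, 3, 0, 3, 0, 3, 1, 2, 1, 2, 1, 3, 1, 3, 1, 2, 0, 2, 0, 3, 0, 3, 1, 2, 1, 3, 3, 0, 3, 1, 2, 2, 0, 2, 0, 2], 0, true),
    ([0, 2, 0, 2, 0, 3, 0, 3, 0, 3, 1, 2, 1, 2, 1, 3, 1, 3, 1, 2, 0, 2, 0, 3, 0, 3, 1, 2, 1, 3, 3, 0, 3, 1, 2, 2, 0, 2, 0, 3, 0, 3, 0, 3, 1, 2, 1, 2, 1, 3, 1, 3, 1, 2, 0, 2, 0, 3, 0, 3, 1, 2, 1, 3, 3, 0, 3, 1, 2], 1, true),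
    ([0, 2, 0, 2, 0, 3, 0, 3, 0, 3, 1, 2, 1, 2, 1, 3, 1, 3, 1, 2, 0, 2, 0, 3, 0, 3, 1, 2, 1, 3, 3, 0, 3, 1, 2, 2, 0, 2, 0, 3, 0, 3, 0, 3, 1, 2, 1, 2, 1, 3, 1, 3, 1, 2, 0, 2, 0, 3, 0, 3, 1, 2, 1, 3, 3], 0, true),
    ([0, 2, 0, 2, 0, 3, 0, 3, 0, 3, 1, 2, 1, 2, 1, 3, 1, 3, 1, 2, 0, 2, 0, 3, 0, 3, 1, 2, 1, 3, 3, 0, 3, 1, 2, 2, 0, 2, 0, 3, 0, 3, 0, 3, 1, 2, 1, 2, 1, 3, 1, 3, 1, 2, 0, 2, 0, 3, 0, 3, 1, 2, 1, 3], 1, false),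
    ([0, 2, 0, 2, 0, 3, 0, 3, 0, 3, 1, 2, 1, 2, 1, 3, 1, 3, 1, 2, 0, 2, 0, 3, 0, 3, 1, 2, 1, 3, 3, 0, 3, 1, 2, 2, 0, 2, 0, 3, 0, 3, 0, 3, 1, 2, 1, 2, 1, 3, 1, 3, 1, 2, 0, 2, 0, 3, 0, 3, 1, 2, 1], 0, false),
    ([0, 2, 0, 2, 0, 3, 0, 3, 0, 3, 1, 2, 1, 2, 1, 3, 1, 3, 1, 2, 0, 2, 0, 3, 0, 3, 1, 2, 1, 3, 3, 0, 3, 1, 2, 2, 0, 2, 0, 3, 0, 3, 0, 3, 1, 2, 1, 2, 1, 3, 1, 3, 1, 2, 0, 2, 0, 3, 0, 3, 1], 0, false),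
    ([0, 2, 0, 2, 0, 3, 0, 3, 0, 3, 1, 2, 1, 2, 1, 3, 1, 3, 1, 2, 0, 2, 0, 3, 0, 3, 1, 2, 1, 3, 3, 0, 3, 1, 2, 2, 0, 2, 0, 3, 0, 3, 0, 3, 1, 2, 1, 2, 1, 3, 1, 3, 1, 2, 0, 2, 0, 3], 0, true),
    ([0, 2, 0, 2, 0, 3, 0, 3, 0, 3, 1, 2, 1, 2, 1, 3, 1, 3, 1, 2, 0, 2, 0, 3, 0, 3, 1, 2, 1, 3, 3, 0, 3, 1, 2, 2, 0, 2, 0, 3, 0, 3, 0, 3, 1, 2, 1, 2, 1, 3, 1, 3, 1, 2, 0, 2], 0, true),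
    ([0, 2, 0, 2, 0, 3, 0, 3, 0, 3, 1, 2, 1, 2, 1, 3, 1, 3, 1, 2, 0, 2, 0, 3, 0, 3, 1, 2, 1, 3, 3, 0, 3, 1, 2, 2, 0, 2, 0, 3, 0, 3, 0, 3, 1, 2, 1, 2, 1, 3, 1, 3, 1, 2, 0, 2], 4, true),
    ([0, 2, 0, 2, 0, 3, 0, 3, 0, 3, 1, 2, 1, 2, 1, 3, 1, 3, 1, 2, 0, 2, 0, 3, 0, 3, 1, 2, 1, 3, 3, 0, 3, 1, 2, 2, 0, 2, 0, 3, 0, 3, 0, 3, 1, 2, 1, 2, 1, 3, 1, 3, 1], 0, false),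
    ([0, 2, 0, 2, 0, 3, 0, 3, 0, 3, 1, 2, 1, 2, 1, 3, 1, 3, 1, 2, 0, 2, 0, 3, 0, 3, 1, 2, 1, 3, 3, 0, 3, 1, 2, 2, 0, 2, 0, 3, 0, 3, 0, 3, 1, 2, 1], 0, false),
    ([0, 2, 0, 2, 0, 3, 0, 3, 0, 3, 1, 2, 1, 2, 1, 3, 1, 3, 1, 2, 0, 2, 0, 3, 0, 3, 1, 2, 1, 3, 3, 0, 3, 1, 2, 2, 0, 2, 0, 3, 0, 3, 0, 3, 1], 0, false),
    ([0, 2, 0, 2, 0, 3, 0, 3, 0, 3, 1, 2, 1, 2, 1, 3, 1, 3, 1, 2, 0, 2, 0, 3, 0, 3, 1, 2, 1, 3, 3, 0, 3, 1, 2, 2, 0, 2, 0, 3, 0, 3], 0, true),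
    ([0, 2, 0, 2, 0, 3, 0, 3, 0, 3, 1, 2, 1, 2, 1, 3, 1, 3, 1, 2, 0, 2, 0, 3, 0, 3, 1, 2, 1, 3, 3, 0, 3, 1, 2, 2, 0, 2, 0, 3], 0, true),
    ([0, 2, 0, 2, 0, 3, 0, 3, 0, 3, 1, 2, 1, 2, 1, 3, 1, 3, 1, 2, 0, 2, 0, 3, 0, 3, 1, 2, 1, 3, 3, 0, 3, 1, 2, 2, 0, 2, 0], 1, false),
    ([0, 2, 0, 2, 0, 3, 0, 3, 0, 3, 1, 2, 1, 2, 1, 3, 1, 3, 1, 2, 0, 2, 0, 3, 0, 3, 1, 2, 1, 3, 3, 0, 3, 1, 2, 2, 0, 2, 0, 2], 0, false),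
    ([0, 2, 0, 2, 0, 3, 0, 3, 0, 3, 1, 2, 1, 2, 1, 3, 1, 3, 1, 2, 0, 2, 0, 3, 0, 3, 1, 2, 1, 3, 3, 0, 3, 1, 2, 2, 0, 2, 0, 2, 0, 3], 0, false),
    ([0, 2, 0, 2, 0, 3, 0, 3, 0, 3, 1, 2, 1, 2, 1, 3, 1, 3, 1, 2, 0, 2, 0, 3, 0, 3, 1, 2, 1, 3, 3, 0, 3, 1, 2, 2, 0, 2, 0, 2, 0, 3], 0, true),
    ([0, 2, 0, 2, 0, 3, 0, 3, 0, 3, 1, 2, 1, 2, 1, 3, 1, 3, 1, 2, 0, 2, 0, 3, 0, 3, 1, 2, 1, 3, 3, 0, 3, 1, 2, 2, 0, 2, 0, 2], 0, true),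
    ([0, 2, 0, 2, 0, 3, 0, 3, 0, 3, 1, 2, 1, 2, 1, 3, 1, 3, 1, 2, 0, 2, 0, 3, 0, 3, 1, 2, 1, 3, 3, 0, 3, 1, 2], 1, true),
    ([0, 2, 0, 2, 0, 3, 0, 3, 0, 3, 1, 2, 1, 2, 1, 3, 1, 3, 1, 2, 0, 2, 0, 3, 0, 3, 1, 2, 1, 3, 3], 0, true),
    ([0, 2, 0, 2, 0, 3, 0, 3, 0, 3, 1, 2, 1, 2, 1, 3, 1, 3, 1, 2, 0, 2, 0, 3, 0, 3, 1, 2, 1, 3], 1, false),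
    ([0, 2, 0, 2, 0, 3, 0, 3, 0, 3, 1, 2, 1, 2, 1, 3, 1, 3, 1, 2, 0, 2, 0, 3, 0, 3, 1, 2, 1], 0, false),
    ([0, 2, 0, 2, 0, 3, 0, 3, 0, 3, 1, 2, 1, 2, 1, 3, 1, 3, 1, 2, 0, 2, 0, 3, 0, 3, 1], 0, false),
    ([0, 2, 0, 2, 0, 3, 0, 3, 0, 3, 1, 2, 1, 2, 1, 3, 1, 3, 1, 2, 0, 2, 0, 3], 0, true),
    ([0, 2, 0, 2, 0, 3, 0, 3, 0, 3, 1, 2, 1, 2, 1, 3, 1, 3, 1, 2, 0, 2], 0, true),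
    ([0, 2, 0, 2, 0, 3, 0, 3, 0, 3, 1, 2, 1, 2, 1, 3, 1, 3, 1, 2, 0, 2], 4, true),
    ([0, 2, 0, 2, 0, 3, 0, 3, 0, 3, 1, 2, 1, 2, 1, 3, 1, 3, 1], 0, false),
    ([0, 2, 0, 2, 0, 3, 0, 3, 0, 3, 1, 2, 1], 0, false),
    ([0, 2, 0, 2, 0, 3, 0, 3, 0, 3, 1], 0, false),
    ([0, 2, 0, 2, 0, 3, 0, 3], 0, true),
    ([0, 2, 0, 2, 0, 3], 0, true),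
    ([0, 2, 0, 2, 0], 1, false),
    ([0, 2, 0, 2, 0, 2], 0, false),
    ([0, 2, 0, 2, 0, 2, 0, 3], 0, false),
    ([0, 2, 0, 2, 0, 2, 0, 3, 0], 1, true)]

/-- The conjugates of relators for relation 4. -/
def conj4 : List (List ℕ × ℕ × Bool) :=
  [([0, 2, 0, 2, 0, 3, 0, 3, 0], 1, true)]

/-- The conjugates of relators for relation 5. -/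
def conj5 : List (List ℕ × ℕ × Bool) :=
  [([0, 2, 0, 2, 0, 2, 0, 2, 0, 2, 0, 2, 1, 3, 1, 3, 3, 0, 3, 0, 3, 1, 2, 1, 2, 1, 3, 1, 3, 1, 2, 0, 2, 0, 3, 0, 3, 1, 2, 1, 3, 3, 0, 3, 1, 2, 1, 2, 0, 3, 0, 3, 1, 2, 1, 2, 0, 3, 0, 2, 1, 2, 1, 3, 0, 2, 0, 2, 0, 3, 0, 3, 0, 2, 1, 2, 1, 2, 1, 3, 3, 0, 2, 1, 2, 1, 3, 3, 0, 2, 1, 2, 1], 0, false),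
    ([0, 2, 0, 2, 0, 2, 0, 2, 0, 2, 0, 2, 1, 3, 1, 3, 3, 0, 3, 0, 3, 1, 2, 1, 2, 1, 3, 1, 3, 1, 2, 0, 2, 0, 3, 0, 3, 1, 2, 1, 3, 3, 0, 3, 1, 2, 1, 2, 0, 3, 0, 3, 1, 2, 1, 2, 0, 3, 0, 2, 1, 2, 1, 3, 0, 2, 0, 2, 0, 3, 0, 3, 0, 2, 1, 2, 1, 2, 1, 3, 3, 0, 2, 1, 2, 1, 3, 3, 0, 2, 1], 0, false),
    ([0, 2, 0, 2, 0, 2, 0, 2, 0, 2, 0, 2, 1, 3, 1, 3, 3, 0, 3, 0, 3, 1, 2, 1, 2, 1, 3, 1, 3, 1, 2, 0, 2, 0, 3, 0, 3, 1, 2, 1, 3, 3, 0, 3, 1, 2, 1, 2, 0, 3, 0, 3, 1, 2, 1, 2, 0, 3, 0, 2, 1, 2, 1, 3, 0, 2, 0, 2, 0, 3, 0, 3, 0, 2, 1, 2, 1, 2, 1, 3, 3, 0, 2, 1, 2, 1, 3], 1, false),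
    ([0, 2, 0, 2, 0, 2, 0, 2, 0, 2, 0, 2, 1, 3, 1, 3, 3, 0, 3, 0, 3, 1, 2, 1, 2, 1, 3, 1, 3, 1, 2, 0, 2, 0, 3, 0, 3, 1, 2, 1, 3, 3, 0, 3, 1, 2, 1, 2, 0, 3, 0, 3, 1, 2, 1, 2, 0, 3, 0, 2, 1, 2, 1, 3, 0, 2, 0, 2, 0, 3, 0, 3, 0, 2, 1, 2, 1, 2, 1, 3, 3, 0, 2, 1, 2, 1], 0, false),
    ([0, 2, 0, 2, 0, 2, 0, 2, 0, 2, 0, 2, 1, 3, 1, 3, 3, 0, 3, 0, 3, 1, 2, 1, 2, 1, 3, 1, 3, 1, 2, 0, 2, 0, 3, 0, 3, 1, 2, 1, 3, 3, 0, 3, 1, 2, 1, 2, 0, 3, 0, 3, 1, 2, 1, 2, 0, 3, 0, 2, 1, 2, 1, 3, 0, 2, 0, 2, 0, 3, 0, 3, 0, 2, 1, 2, 1, 2, 1, 3, 3, 0, 2, 1], 0, false),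
    ([0, 2, 0, 2, 0, 2, 0, 2, 0, 2, 0, 2, 1, 3, 1, 3, 3, 0, 3, 0, 3, 1, 2, 1, 2, 1, 3, 1, 3, 1, 2, 0, 2, 0, 3, 0, 3, 1, 2, 1, 3, 3, 0, 3, 1, 2, 1, 2, 0, 3, 0, 3, 1, 2, 1, 2, 0, 3, 0, 2, 1, 2, 1, 3, 0, 2, 0, 2, 0, 3, 0, 3, 0, 2, 1, 2, 1, 2, 1, 3], 1, false),
    ([0, 2, 0, 2, 0, 2, 0, 2, 0, 2, 0, 2, 1, 3, 1, 3, 3, 0, 3, 0, 3, 1, 2, 1, 2, 1, 3, 1, 3, 1, 2, 0, 2, 0, 3, 0, 3, 1, 2, 1, 3, 3, 0, 3, 1, 2, 1, 2, 0, 3, 0, 3, 1, 2, 1, 2, 0, 3, 0, 2, 1, 2, 1, 3, 0, 2, 0, 2, 0, 3, 0, 3, 0, 2, 1, 2, 1, 2, 1], 0, false),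
    ([0, 2, 0, 2, 0, 2, 0, 2, 0, 2, 0, 2, 1, 3, 1, 3, 3, 0, 3, 0, 3, 1, 2, 1, 2, 1, 3, 1, 3, 1, 2, 0, 2, 0, 3, 0, 3, 1, 2, 1, 3, 3, 0, 3, 1, 2, 1, 2, 0, 3, 0, 3, 1, 2, 1, 2, 0, 3, 0, 2, 1, 2, 1, 3, 0, 2, 0, 2, 0, 3, 0, 3, 0, 2, 1, 2, 1], 0, false),
    ([0, 2, 0, 2, 0, 2, 0, 2, 0, 2, 0, 2, 1, 3, 1, 3, 3, 0, 3, 0, 3, 1, 2, 1, 2, 1, 3, 1, 3, 1, 2, 0, 2, 0, 3, 0, 3, 1, 2, 1, 3, 3, 0, 3, 1, 2, 1, 2, 0, 3, 0, 3, 1, 2, 1, 2, 0, 3, 0, 2, 1, 2, 1, 3, 0, 2, 0, 2, 0, 3, 0, 3, 0, 2, 1], 0, false),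
    ([0, 2, 0, 2, 0, 2, 0, 2, 0, 2, 0, 2, 1, 3, 1, 3, 3, 0, 3, 0, 3, 1, 2, 1, 2, 1, 3, 1, 3, 1, 2, 0, 2, 0, 3, 0, 3, 1, 2, 1, 3, 3, 0, 3, 1, 2, 1, 2, 0, 3, 0, 3, 1, 2, 1, 2, 0, 3, 0, 2, 1, 2, 1, 3, 0, 2, 0, 2, 0, 3, 0], 1, false),
    ([0, 2, 0, 2, 0, 2, 0, 2, 0, 2, 0, 2, 1, 3, 1, 3, 3, 0, 3, 0, 3, 1, 2, 1, 2, 1, 3, 1, 3, 1, 2, 0, 2, 0, 3, 0, 3, 1, 2, 1, 3, 3, 0, 3, 1, 2, 1, 2, 0, 3, 0, 3, 1, 2, 1, 2, 0, 3, 0, 2, 1, 2, 1, 3, 0, 2, 0, 2, 0, 3, 0, 2], 0, false),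
    ([0, 2, 0, 2, 0, 2, 0, 2, 0, 2, 0, 2, 1, 3, 1, 3, 3, 0, 3, 0, 3, 1, 2, 1, 2, 1, 3, 1, 3, 1, 2, 0, 2, 0, 3, 0, 3, 1, 2, 1, 3, 3, 0, 3, 1, 2, 1, 2, 0, 3, 0, 3, 1, 2, 1, 2, 0, 3, 0, 2, 1, 2, 1, 3, 0, 2, 0, 2, 0, 3, 0, 2], 0, true),
    ([0, 2, 0, 2, 0, 2, 0, 2, 0, 2, 0, 2, 1, 3, 1, 3, 3, 0, 3, 0, 3, 1, 2, 1, 2, 1, 3, 1, 3, 1, 2, 0, 2, 0, 3, 0, 3, 1, 2, 1, 3, 3, 0, 3, 1, 2, 1, 2, 0, 3, 0, 3, 1, 2, 1, 2, 0, 3, 0, 2, 1, 2, 1, 3, 0, 2, 0, 2, 0, 3], 0, true),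
    ([0, 2, 0, 2, 0, 2, 0, 2, 0, 2, 0, 2, 1, 3, 1, 3, 3, 0, 3, 0, 3, 1, 2, 1, 2, 1, 3, 1, 3, 1, 2, 0, 2, 0, 3, 0, 3, 1, 2, 1, 3, 3, 0, 3, 1, 2, 1, 2, 0, 3, 0, 3, 1, 2, 1, 2, 0, 3, 0, 2, 1, 2, 1, 3, 0, 2, 0, 2], 0, true),
    ([0, 2, 0, 2, 0, 2, 0, 2, 0, 2, 0, 2, 1, 3, 1, 3, 3, 0, 3, 0, 3, 1, 2, 1, 2, 1, 3, 1, 3, 1, 2, 0, 2, 0, 3, 0, 3, 1, 2, 1, 3, 3, 0, 3, 1, 2, 1, 2, 0, 3, 0, 3, 1, 2, 1, 2, 0, 3, 0, 2, 1, 2, 1, 3, 0, 2], 0, true),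
    ([0, 2, 0, 2, 0, 2, 0, 2, 0, 2, 0, 2, 1, 3, 1, 3, 3, 0, 3, 0, 3, 1, 2, 1, 2, 1, 3, 1, 3, 1, 2, 0, 2, 0, 3, 0, 3, 1, 2, 1, 3, 3, 0, 3, 1, 2, 1, 2, 0, 3, 0, 3, 1, 2, 1, 2, 0, 3, 0, 2, 1, 2, 1, 3], 0, true),
    ([0, 2, 0, 2, 0, 2, 0, 2, 0, 2, 0, 2, 1, 3, 1, 3, 3, 0, 3, 0, 3, 1, 2, 1, 2, 1, 3, 1, 3, 1, 2, 0, 2, 0, 3, 0, 3, 1, 2, 1, 3, 3, 0, 3, 1, 2, 1, 2, 0, 3, 0, 3, 1, 2, 1, 2, 0, 3], 0, true),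
    ([0, 2, 0, 2, 0, 2, 0, 2, 0, 2, 0, 2, 1, 3, 1, 3, 3, 0, 3, 0, 3, 1, 2, 1, 2, 1, 3, 1, 3, 1, 2, 0, 2, 0, 3, 0, 3, 1, 2, 1, 3, 3, 0, 3, 1, 2, 1, 2, 0, 3, 0, 3, 1, 2, 1, 2], 0, true),
    ([0, 2, 0, 2, 0, 2, 0, 2, 0, 2, 0, 2, 1, 3, 1, 3, 3, 0, 3, 0, 3, 1, 2, 1, 2, 1, 3, 1, 3, 1, 2, 0, 2, 0, 3, 0, 3, 1, 2, 1, 3, 3, 0, 3, 1, 2, 1, 2, 0, 3, 0, 3, 1], 6, false),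
    ([0, 2, 0, 2, 0, 2, 0, 2, 0, 2, 0, 2, 1, 3, 1, 3, 3, 0, 3, 0, 3, 1, 2, 1, 2, 1, 3, 1, 3, 1, 2, 0, 2, 0, 3, 0, 3, 1, 2, 1, 3, 3, 0, 3, 1, 2, 1, 2, 0, 3], 0, true),
    ([0, 2, 0, 2, 0, 2, 0, 2, 0, 2, 0, 2, 1, 3, 1, 3, 3, 0, 3, 0, 3, 1, 2, 1, 2, 1, 3, 1, 3, 1, 2, 0, 2, 0, 3, 0, 3, 1, 2, 1, 3, 3, 0, 3, 1, 2, 1, 2], 0, true),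
    ([0, 2, 0, 2, 0, 2, 0, 2, 0, 2, 0, 2, 1, 3, 1, 3, 3, 0, 3, 0, 3, 1, 2, 1, 2, 1, 3, 1, 3, 1, 2, 0, 2, 0, 3, 0, 3, 1, 2, 1, 3, 3, 0, 3, 1, 2, 2, 0, 2, 0], 1, false),
    ([0, 2, 0, 2, 0, 2, 0, 2, 0, 2, 0, 2, 1, 3, 1, 3, 3, 0, 3, 0, 3, 1, 2, 1, 2, 1, 3, 1, 3, 1, 2, 0, 2, 0, 3, 0, 3, 1, 2, 1, 3, 3, 0, 3, 1, 2, 2, 0, 2, 0, 2], 0, false),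
    ([0, 2, 0, 2, 0, 2, 0, 2, 0, 2, 0, 2, 1, 3, 1, 3, 3, 0, 3, 0, 3, 1, 2, 1, 2, 1, 3, 1, 3, 1, 2, 0, 2, 0, 3, 0, 3, 1, 2, 1, 3, 3, 0, 3, 1, 2, 2, 0, 2, 0, 2, 0, 3], 0, false),
    ([0, 2, 0, 2, 0, 2, 0, 2, 0, 2, 0, 2, 1, 3, 1, 3, 3, 0, 3, 0, 3, 1, 2, 1, 2, 1, 3, 1, 3, 1, 2, 0, 2, 0, 3, 0, 3, 1, 2, 1, 3, 3, 0, 3, 1, 2, 2, 0, 2, 0, 2, 0, 3], 0, true),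
    ([0, 2, 0, 2, 0, 2, 0, 2, 0, 2, 0, 2, 1, 3, 1, 3, 3, 0, 3, 0, 3, 1, 2, 1, 2, 1, 3, 1, 3, 1, 2, 0, 2, 0, 3, 0, 3, 1, 2, 1, 3, 3, 0, 3, 1, 2, 2, 0, 2, 0, 2], 0, true),
    ([0, 2, 0, 2, 0, 2, 0, 2, 0, 2, 0, 2, 1, 3, 1, 3, 3, 0, 3, 0, 3, 1, 2, 1, 2, 1, 3, 1, 3, 1, 2, 0, 2, 0, 3, 0, 3, 1, 2, 1, 3, 3, 0, 3, 1, 2], 1, true),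
    ([0, 2, 0, 2, 0, 2, 0, 2, 0, 2, 0, 2, 1, 3, 1, 3, 3, 0, 3, 0, 3, 1, 2, 1, 2, 1, 3, 1, 3, 1, 2, 0, 2, 0, 3, 0, 3, 1, 2, 1, 3, 3], 0, true),
    ([0, 2, 0, 2, 0, 2, 0, 2, 0, 2, 0, 2, 1, 3, 1, 3, 3, 0, 3, 0, 3, 1, 2, 1, 2, 1, 3, 1, 3, 1, 2, 0, 2, 0, 3, 0, 3, 1, 2, 1, 3], 1, false),
    ([0, 2, 0, 2, 0, 2, 0, 2, 0, 2, 0, 2, 1, 3, 1, 3, 3, 0, 3, 0, 3, 1, 2, 1, 2, 1, 3, 1, 3, 1, 2, 0, 2, 0, 3, 0, 3, 1, 2, 1], 0, false),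
    ([0, 2, 0, 2, 0, 2, 0, 2, 0, 2, 0, 2, 1, 3, 1, 3, 3, 0, 3, 0, 3, 1, 2, 1, 2, 1, 3, 1, 3, 1, 2, 0, 2, 0, 3, 0, 3, 1], 0, false),
    ([0, 2, 0, 2, 0, 2, 0, 2, 0, 2, 0, 2, 1, 3, 1, 3, 3, 0, 3, 0, 3, 1, 2, 1, 2, 1, 3, 1, 3, 1, 2, 0, 2, 0, 3], 0, true),
    ([0, 2, 0, 2, 0, 2, 0, 2, 0, 2, 0, 2, 1, 3, 1, 3, 3, 0, 3, 0, 3, 1, 2, 1, 2, 1, 3, 1, 3, 1, 2, 0, 2], 0, true),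
    ([0, 2, 0, 2, 0, 2, 0, 2, 0, 2, 0, 2, 1, 3, 1, 3, 3, 0, 3, 0, 3, 1, 2, 1, 2, 1, 3, 1, 3, 1, 2, 0, 2], 4, true),
    ([0, 2, 0, 2, 0, 2, 0, 2, 0, 2, 0, 2, 1, 3, 1, 3, 3, 0, 3, 0, 3, 1, 2, 1, 2, 1, 3, 1, 3, 1], 0, false),
    ([0, 2, 0, 2, 0, 2, 0, 2, 0, 2, 0, 2, 1, 3, 1, 3, 3, 0, 3, 0, 3, 1, 2, 1], 0, false),
    ([0, 2, 0, 2, 0, 2, 0, 2, 0, 2, 0, 2, 1, 3, 1, 3, 3, 0, 3, 0, 3, 1], 0, false),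
    ([0, 2, 0, 2, 0, 2, 0, 2, 0, 2, 0, 2, 1, 3, 1, 3, 3, 0, 3], 0, true),
    ([0, 2, 0, 2, 0, 2, 0, 2, 0, 2, 0, 2, 1, 3, 1, 3, 3], 0, true),
    ([0, 2, 0, 2, 0, 2, 0, 2, 0, 2, 0, 2, 1, 3, 1, 3], 1, false),
    ([0, 2, 0, 2, 0, 2, 0, 2, 0, 2, 0, 2, 1, 3, 1], 0, false),
    ([0, 2, 0, 2, 0, 2, 0, 2, 0, 2, 0, 2, 1, 3, 3], 0, false),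
    ([0, 2, 0, 2, 0, 2, 0, 2, 0, 2, 0, 2, 1, 3], 1, false),
    ([0, 2, 0, 2, 0, 2, 0, 2, 0, 2, 0, 2, 1], 0, false),
    ([], 2, true)]

/-- The conjugates of relators for relation 6. -/
def conj6 : List (List ℕ × ℕ × Bool) :=
  [([0, 2, 0, 2, 0, 2, 0, 2, 0, 3, 1, 3, 3, 1, 3, 3, 1, 3, 3, 1, 3, 3, 1, 3, 3, 1, 3, 3, 1, 3, 3, 1, 3, 3, 1, 3, 3, 1, 3, 3, 1, 3, 3, 1, 3, 3, 1, 3, 3, 1, 3, 3, 1, 3, 3, 1, 3, 3, 1, 3, 3, 1, 3, 3, 1, 3, 3, 1, 3, 3, 1, 3, 3, 1, 3, 3, 1, 3], 1, false),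
    ([0, 2, 0, 2, 0, 2, 0, 2, 0, 3, 1, 3, 3, 1, 3, 3, 1, 3, 3, 1, 3, 3, 1, 3, 3, 1, 3, 3, 1, 3, 3, 1, 3, 3, 1, 3, 3, 1, 3, 3, 1, 3, 3, 1, 3, 3, 1, 3, 3, 1, 3, 3, 1, 3, 3, 1, 3, 3, 1, 3, 3, 1, 3, 3, 1, 3, 3, 1, 3, 3, 1, 3, 3, 1, 3, 3, 1], 0, false),
    ([0, 2, 0, 2, 0, 2, 0, 2, 0, 3, 1, 3, 3, 1, 3, 3, 1, 3, 3, 1, 3, 3, 1, 3, 3, 1, 3, 3, 1, 3, 3, 1, 3, 3, 1, 3, 3, 1, 3, 3, 1, 3, 3, 1, 3, 3, 1, 3, 3, 1, 3, 3, 1, 3, 3, 1, 3, 3, 1, 3, 3, 1, 3, 3, 1, 3, 3, 1, 3, 3, 1, 3, 3, 1, 3], 1, false),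
    ([0, 2, 0, 2, 0, 2, 0, 2, 0, 3, 1, 3, 3, 1, 3, 3, 1, 3, 3, 1, 3, 3, 1, 3, 3, 1, 3, 3, 1, 3, 3, 1, 3, 3, 1, 3, 3, 1, 3, 3, 1, 3, 3, 1, 3, 3, 1, 3, 3, 1, 3, 3, 1, 3, 3, 1, 3, 3, 1, 3, 3, 1, 3, 3, 1, 3, 3, 1, 3, 3, 1, 3, 3, 1], 0, false),
    ([0, 2, 0, 2, 0, 2, 0, 2, 0, 3, 1, 3, 3, 1, 3, 3, 1, 3, 3, 1, 3, 3, 1, 3, 3, 1, 3, 3, 1, 3, 3, 1, 3, 3, 1, 3, 3, 1, 3, 3, 1, 3, 3, 1, 3, 3, 1, 3, 3, 1, 3, 3, 1, 3, 3, 1, 3, 3, 1, 3, 3, 1, 3, 3, 1, 3, 3, 1, 3, 3, 1, 3], 1, false),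
    ([0, 2, 0, 2, 0, 2, 0, 2, 0, 3, 1, 3, 3, 1, 3, 3, 1, 3, 3, 1, 3, 3, 1, 3, 3, 1, 3, 3, 1, 3, 3, 1, 3, 3, 1, 3, 3, 1, 3, 3, 1, 3, 3, 1, 3, 3, 1, 3, 3, 1, 3, 3, 1, 3, 3, 1, 3, 3, 1, 3, 3, 1, 3, 3, 1, 3, 3, 1, 3, 3, 1], 0, false),
    ([0, 2, 0, 2, 0, 2, 0, 2, 0, 3, 1, 3, 3, 1, 3, 3, 1, 3, 3, 1, 3, 3, 1, 3, 3, 1, 3, 3, 1, 3, 3, 1, 3, 3, 1, 3, 3, 1, 3, 3, 1, 3, 3, 1, 3, 3, 1, 3, 3, 1, 3, 3, 1, 3, 3, 1, 3, 3, 1, 3, 3, 1, 3, 3, 1, 3, 3, 1, 3], 1, false),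
    ([0, 2, 0, 2, 0, 2, 0, 2, 0, 3, 1, 3, 3, 1, 3, 3, 1, 3, 3, 1, 3, 3, 1, 3, 3, 1, 3, 3, 1, 3, 3, 1, 3, 3, 1, 3, 3, 1, 3, 3, 1, 3, 3, 1, 3, 3, 1, 3, 3, 1, 3, 3, 1, 3, 3, 1, 3, 3, 1, 3, 3, 1, 3, 3, 1, 3, 3, 1], 0, false),
    ([0, 2, 0, 2, 0, 2, 0, 2, 0, 3, 1, 3, 3, 1, 3, 3, 1, 3, 3, 1, 3, 3, 1, 3, 3, 1, 3, 3, 1, 3, 3, 1, 3, 3, 1, 3, 3, 1, 3, 3, 1, 3, 3, 1, 3, 3, 1, 3, 3, 1, 3, 3, 1, 3, 3, 1, 3, 3, 1, 3, 3, 1, 3, 3, 1, 3], 1, false),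
    ([0, 2, 0, 2, 0, 2, 0, 2, 0, 3, 1, 3, 3, 1, 3, 3, 1, 3, 3, 1, 3, 3, 1, 3, 3, 1, 3, 3, 1, 3, 3, 1, 3, 3, 1, 3, 3, 1, 3, 3, 1, 3, 3, 1, 3, 3, 1, 3, 3, 1, 3, 3, 1, 3, 3, 1, 3, 3, 1, 3, 3, 1, 3, 3, 1], 0, false),
    ([0, 2, 0, 2, 0, 2, 0, 2, 0, 3, 1, 3, 3, 1, 3, 3, 1, 3, 3, 1, 3, 3, 1, 3, 3, 1, 3, 3, 1, 3, 3, 1, 3, 3, 1, 3, 3, 1, 3, 3, 1, 3, 3, 1, 3, 3, 1, 3, 3, 1, 3, 3, 1, 3, 3, 1, 3, 3, 1, 3, 3, 1, 3], 1, false),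
    ([0, 2, 0, 2, 0, 2, 0, 2, 0, 3, 1, 3, 3, 1, 3, 3, 1, 3, 3, 1, 3, 3, 1, 3, 3, 1, 3, 3, 1, 3, 3, 1, 3, 3, 1, 3, 3, 1, 3, 3, 1, 3, 3, 1, 3, 3, 1, 3, 3, 1, 3, 3, 1, 3, 3, 1, 3, 3, 1, 3, 3, 1], 0, false),
    ([0, 2, 0, 2, 0, 2, 0, 2, 0, 3, 1, 3, 3, 1, 3, 3, 1, 3, 3, 1, 3, 3, 1, 3, 3, 1, 3, 3, 1, 3, 3, 1, 3, 3, 1, 3, 3, 1, 3, 3, 1, 3, 3, 1, 3, 3, 1, 3, 3, 1, 3, 3, 1, 3, 3, 1, 3, 3, 1, 3], 1, false),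
    ([0, 2, 0, 2, 0, 2, 0, 2, 0, 3, 1, 3, 3, 1, 3, 3, 1, 3, 3, 1, 3, 3, 1, 3, 3, 1, 3, 3, 1, 3, 3, 1, 3, 3, 1, 3, 3, 1, 3, 3, 1, 3, 3, 1, 3, 3, 1, 3, 3, 1, 3, 3, 1, 3, 3, 1, 3, 3, 1], 0, false),
    ([0, 2, 0, 2, 0, 2, 0, 2, 0, 3, 1, 3, 3, 1, 3, 3, 1, 3, 3, 1, 3, 3, 1, 3, 3, 1, 3, 3, 1, 3, 3, 1, 3, 3, 1, 3, 3, 1, 3, 3, 1, 3, 3, 1, 3, 3, 1, 3, 3, 1, 3, 3, 1, 3, 3, 1, 3], 1, false),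
    ([0, 2, 0, 2, 0, 2, 0, 2, 0, 3, 1, 3, 3, 1, 3, 3, 1, 3, 3, 1, 3, 3, 1, 3, 3, 1, 3, 3, 1, 3, 3, 1, 3, 3, 1, 3, 3, 1, 3, 3, 1, 3, 3, 1, 3, 3, 1, 3, 3, 1, 3, 3, 1, 3, 3, 1], 0, false),
    ([0, 2, 0, 2, 0, 2, 0, 2, 0, 3, 1, 3, 3, 1, 3, 3, 1, 3, 3, 1, 3, 3, 1, 3, 3, 1, 3, 3, 1, 3, 3, 1, 3, 3, 1, 3, 3, 1, 3, 3, 1, 3, 3, 1, 3, 3, 1, 3, 3, 1, 3, 3, 1, 3], 1, false),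
    ([0, 2, 0, 2, 0, 2, 0, 2, 0, 3, 1, 3, 3, 1, 3, 3, 1, 3, 3, 1, 3, 3, 1, 3, 3, 1, 3, 3, 1, 3, 3, 1, 3, 3, 1, 3, 3, 1, 3, 3, 1, 3, 3, 1, 3, 3, 1, 3, 3, 1, 3, 3, 1], 0, false),
    ([0, 2, 0, 2, 0, 2, 0, 2, 0, 3, 1, 3, 3, 1, 3, 3, 1, 3, 3, 1, 3, 3, 1, 3, 3, 1, 3, 3, 1, 3, 3, 1, 3, 3, 1, 3, 3, 1, 3, 3, 1, 3, 3, 1, 3, 3, 1, 3, 3, 1, 3], 1, false),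
    ([0, 2, 0, 2, 0, 2, 0, 2, 0, 3, 1, 3, 3, 1, 3, 3, 1, 3, 3, 1, 3, 3, 1, 3, 3, 1, 3, 3, 1, 3, 3, 1, 3, 3, 1, 3, 3, 1, 3, 3, 1, 3, 3, 1, 3, 3, 1, 3, 3, 1], 0, false),
    ([0, 2, 0, 2, 0, 2, 0, 2, 0, 3, 1, 3, 3, 1, 3, 3, 1, 3, 3, 1, 3, 3, 1, 3, 3, 1, 3, 3, 1, 3, 3, 1, 3, 3, 1, 3, 3, 1, 3, 3, 1, 3, 3, 1, 3, 3, 1, 3], 1, false),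
    ([0, 2, 0, 2, 0, 2, 0, 2, 0, 3, 1, 3, 3, 1, 3, 3, 1, 3, 3, 1, 3, 3, 1, 3, 3, 1, 3, 3, 1, 3, 3, 1, 3, 3, 1, 3, 3, 1, 3, 3, 1, 3, 3, 1, 3, 3, 1], 0, false),
    ([0, 2, 0, 2, 0, 2, 0, 2, 0, 3, 1, 3, 3, 1, 3, 3, 1, 3, 3, 1, 3, 3, 1, 3, 3, 1, 3, 3, 1, 3, 3, 1, 3, 3, 1, 3, 3, 1, 3, 3, 1, 3, 3, 1, 3], 1, false),
    ([0, 2, 0, 2, 0, 2, 0, 2, 0, 3, 1, 3, 3, 1, 3, 3, 1, 3, 3, 1, 3, 3, 1, 3, 3, 1, 3, 3, 1, 3, 3, 1, 3, 3, 1, 3, 3, 1, 3, 3, 1, 3, 3, 1], 0, false),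
    ([0, 2, 0, 2, 0, 2, 0, 2, 0, 3, 1, 3, 3, 1, 3, 3, 1, 3, 3, 1, 3, 3, 1, 3, 3, 1, 3, 3, 1, 3, 3, 1, 3, 3, 1, 3, 3, 1, 3, 3, 1, 3], 1, false),
    ([0, 2, 0, 2, 0, 2, 0, 2, 0, 3, 1, 3, 3, 1, 3, 3, 1, 3, 3, 1, 3, 3, 1, 3, 3, 1, 3, 3, 1, 3, 3, 1, 3, 3, 1, 3, 3, 1, 3, 3, 1], 0, false),
    ([0, 2, 0, 2, 0, 2, 0, 2, 0, 3, 1, 3, 3, 1, 3, 3, 1, 3, 3, 1, 3, 3, 1, 3, 3, 1, 3, 3, 1, 3, 3, 1, 3, 3, 1, 3, 3, 1, 3], 1, false),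
    ([0, 2, 0, 2, 0, 2, 0, 2, 0, 3, 1, 3, 3, 1, 3, 3, 1, 3, 3, 1, 3, 3, 1, 3, 3, 1, 3, 3, 1, 3, 3, 1, 3, 3, 1, 3, 3, 1], 0, false),
    ([0, 2, 0, 2, 0, 2, 0, 2, 0, 3, 1, 3, 3, 1, 3, 3, 1, 3, 3, 1, 3, 3, 1, 3, 3, 1, 3, 3, 1, 3, 3, 1, 3, 3, 1, 3], 1, false),
    ([0, 2, 0, 2, 0, 2, 0, 2, 0, 3, 1, 3, 3, 1, 3, 3, 1, 3, 3, 1, 3, 3, 1, 3, 3, 1, 3, 3, 1, 3, 3, 1, 3, 3, 1], 0, false),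
    ([0, 2, 0, 2, 0, 2, 0, 2, 0, 3, 1, 3, 3, 1, 3, 3, 1, 3, 3, 1, 3, 3, 1, 3, 3, 1, 3, 3, 1, 3, 3, 1, 3], 1, false),
    ([0, 2, 0, 2, 0, 2, 0, 2, 0, 3, 1, 3, 3, 1, 3, 3, 1, 3, 3, 1, 3, 3, 1, 3, 3, 1, 3, 3, 1, 3, 3, 1], 0, false),
    ([0, 2, 0, 2, 0, 2, 0, 2, 0, 3, 1, 3, 3, 1, 3, 3, 1, 3, 3, 1, 3, 3, 1, 3, 3, 1, 3, 3, 1, 3], 1, false),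
    ([0, 2, 0, 2, 0, 2, 0, 2, 0, 3, 1, 3, 3, 1, 3, 3, 1, 3, 3, 1, 3, 3, 1, 3, 3, 1, 3, 3, 1], 0, false),
    ([0, 2, 0, 2, 0, 2, 0, 2, 0, 3, 1, 3, 3, 1, 3, 3, 1, 3, 3, 1, 3, 3, 1, 3, 3, 1, 3], 1, false),
    ([0, 2, 0, 2, 0, 2, 0, 2, 0, 3, 1, 3, 3, 1, 3, 3, 1, 3, 3, 1, 3, 3, 1, 3, 3, 1], 0, false),
    ([0, 2, 0, 2, 0, 2, 0, 2, 0, 3, 1, 3, 3, 1, 3, 3, 1, 3, 3, 1, 3, 3, 1, 3], 1, false),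
    ([0, 2, 0, 2, 0, 2, 0, 2, 0, 3, 1, 3, 3, 1, 3, 3, 1, 3, 3, 1, 3, 3, 1], 0, false),
    ([0, 2, 0, 2, 0, 2, 0, 2, 0, 3, 1, 3, 3, 1, 3, 3, 1, 3, 3, 1, 3], 1, false),
    ([0, 2, 0, 2, 0, 2, 0, 2, 0, 3, 1, 3, 3, 1, 3, 3, 1, 3, 3, 1], 0, false),
    ([0, 2, 0, 2, 0, 2, 0, 2, 0, 3, 1, 3, 3, 1, 3, 3, 1, 3], 1, false),
    ([0, 2, 0, 2, 0, 2, 0, 2, 0, 3, 1, 3, 3, 1, 3, 3, 1], 0, false),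
    ([0, 2, 0, 2, 0, 2, 0, 2, 0, 3, 1, 3, 3, 1, 3], 1, false),
    ([0, 2, 0, 2, 0, 2, 0, 2, 0, 3, 1, 3, 3, 1], 0, false),
    ([0, 2, 0, 2, 0, 2, 0, 2, 0, 3, 1, 3], 1, false),
    ([0, 2, 0, 2, 0, 2, 0, 2, 0, 3, 1], 0, false),
    ([0, 2, 0, 2, 0, 2, 0, 2, 0, 3], 2, true)]

/-- The conjugates of relators for relation 7. -/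
def conj7 : List (List ℕ × ℕ × Bool) :=
  [([0, 3, 0, 2, 1, 2, 1, 2, 0, 3, 0, 3, 1, 2, 1, 3, 0, 3, 0, 2, 1, 2, 1, 3, 0, 2, 0, 2, 0, 3, 0, 3, 0, 3, 1, 2, 1, 2, 2, 0, 2, 0, 3, 1, 3, 3, 1, 3, 1, 3, 1, 3, 1, 3, 1, 3, 3, 0, 2, 1, 2, 2, 0, 3, 0, 2, 1, 2, 1, 3, 1, 3, 0, 2, 0, 2, 0, 3, 0, 3, 0, 2, 1, 2, 1, 2, 1, 3, 3, 0, 3, 1, 2, 1, 3, 1], 0, false),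
    ([0, 3, 0, 2, 1, 2, 1, 2, 0, 3, 0, 3, 1, 2, 1, 3, 0, 3, 0, 2, 1, 2, 1, 3, 0, 2, 0, 2, 0, 3, 0, 3, 0, 3, 1, 2, 1, 2, 2, 0, 2, 0, 3, 1, 3, 3, 1, 3, 1, 3, 1, 3, 1, 3, 1, 3, 3, 0, 2, 1, 2, 2, 0, 3, 0, 2, 1, 2, 1, 3, 1, 3, 0, 2, 0, 2, 0, 3, 0, 3, 0, 2, 1, 2, 1, 2, 1, 3, 3, 0, 3, 1], 0, false),
    ([0, 3, 0, 2, 1, 2, 1, 2, 0, 3, 0, 3, 1, 2, 1, 3, 0, 3, 0, 2, 1, 2, 1, 3, 0, 2, 0, 2, 0, 3, 0, 3, 0, 3, 1, 2, 1, 2, 2, 0, 2, 0, 3, 1, 3, 3, 1, 3, 1, 3, 1, 3, 1, 3, 1, 3, 3, 0, 2, 1, 2, 2, 0, 3, 0, 2, 1, 2, 1, 3, 1, 3, 0, 2, 0, 2, 0, 3, 0, 3, 0, 2, 1, 2, 1, 2, 1, 3, 3], 0, true),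
    ([0, 3, 0, 2, 1, 2, 1, 2, 0, 3, 0, 3, 1, 2, 1, 3, 0, 3, 0, 2, 1, 2, 1, 3, 0, 2, 0, 2, 0, 3, 0, 3, 0, 3, 1, 2, 1, 2, 2, 0, 2, 0, 3, 1, 3, 3, 1, 3, 1, 3, 1, 3, 1, 3, 1, 3, 3, 0, 2, 1, 2, 2, 0, 3, 0, 2, 1, 2, 1, 3, 1, 3, 0, 2, 0, 2, 0, 3, 0, 3, 0, 2, 1, 2, 1, 2, 1, 3], 1, false),
    ([0, 3, 0, 2, 1, 2, 1, 2, 0, 3, 0, 3, 1, 2, 1, 3, 0, 3, 0, 2, 1, 2, 1, 3, 0, 2, 0, 2, 0, 3, 0, 3, 0, 3, 1, 2, 1, 2, 2, 0, 2, 0, 3, 1, 3, 3, 1, 3, 1, 3, 1, 3, 1, 3, 1, 3, 3, 0, 2, 1, 2, 2, 0, 3, 0, 2, 1, 2, 1, 3, 1, 3, 0, 2, 0, 2, 0, 3, 0, 3, 0, 2, 1, 2, 1, 2, 1], 0, false),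
    ([0, 3, 0, 2, 1, 2, 1, 2, 0, 3, 0, 3, 1, 2, 1, 3, 0, 3, 0, 2, 1, 2, 1, 3, 0, 2, 0, 2, 0, 3, 0, 3, 0, 3, 1, 2, 1, 2, 2, 0, 2, 0, 3, 1, 3, 3, 1, 3, 1, 3, 1, 3, 1, 3, 1, 3, 3, 0, 2, 1, 2, 2, 0, 3, 0, 2, 1, 2, 1, 3, 1, 3, 0, 2, 0, 2, 0, 3, 0, 3, 0, 2, 1, 2, 1, 2, 2, 0, 3], 0, false),
    ([0, 3, 0, 2, 1, 2, 1, 2, 0, 3, 0, 3, 1, 2, 1, 3, 0, 3, 0, 2, 1, 2, 1, 3, 0, 2, 0, 2, 0, 3, 0, 3, 0, 3, 1, 2, 1, 2, 2, 0, 2, 0, 3, 1, 3, 3, 1, 3, 1, 3, 1, 3, 1, 3, 1, 3, 3, 0, 2, 1, 2, 2, 0, 3, 0, 2, 1, 2, 1, 3, 1, 3, 0, 2, 0, 2, 0, 3, 0, 3, 0, 2, 1, 2, 1, 2, 2, 0, 3], 0, true),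
    ([0, 3, 0, 2, 1, 2, 1, 2, 0, 3, 0, 3, 1, 2, 1, 3, 0, 3, 0, 2, 1, 2, 1, 3, 0, 2, 0, 2, 0, 3, 0, 3, 0, 3, 1, 2, 1, 2, 2, 0, 2, 0, 3, 1, 3, 3, 1, 3, 1, 3, 1, 3, 1, 3, 1, 3, 3, 0, 2, 1, 2, 2, 0, 3, 0, 2, 1, 2, 1, 3, 1, 3, 0, 2, 0, 2, 0, 3, 0, 3, 0, 2, 1, 2, 1, 2, 2], 0, true),
    ([0, 3, 0, 2, 1, 2, 1, 2, 0, 3, 0, 3, 1, 2, 1, 3, 0, 3, 0, 2, 1, 2, 1, 3, 0, 2, 0, 2, 0, 3, 0, 3, 0, 3, 1, 2, 1, 2, 2, 0, 2, 0, 3, 1, 3, 3, 1, 3, 1, 3, 1, 3, 1, 3, 1, 3, 3, 0, 2, 1, 2, 2, 0, 3, 0, 2, 1, 2, 1, 3, 1, 3, 0, 2, 0, 2, 0, 3, 0, 3, 0, 2, 1, 2, 1, 2], 1, true),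
    ([0, 3, 0, 2, 1, 2, 1, 2, 0, 3, 0, 3, 1, 2, 1, 3, 0, 3, 0, 2, 1, 2, 1, 3, 0, 2, 0, 2, 0, 3, 0, 3, 0, 3, 1, 2, 1, 2, 2, 0, 2, 0, 3, 1, 3, 3, 1, 3, 1, 3, 1, 3, 1, 3, 1, 3, 3, 0, 2, 1, 2, 2, 0, 3, 0, 2, 1, 2, 1, 3, 1, 3, 0, 2, 0, 2, 0, 3, 0, 3, 0, 2, 1, 2, 1], 0, false),
    ([0, 3, 0, 2, 1, 2, 1, 2, 0, 3, 0, 3, 1, 2, 1, 3, 0, 3, 0, 2, 1, 2, 1, 3, 0, 2, 0, 2, 0, 3, 0, 3, 0, 3, 1, 2, 1, 2, 2, 0, 2, 0, 3, 1, 3, 3, 1, 3, 1, 3, 1, 3, 1, 3, 1, 3, 3, 0, 2, 1, 2, 2, 0, 3, 0, 2, 1, 2, 1, 3, 1, 3, 0, 2, 0, 2, 0, 3, 0, 3, 0, 2, 1], 0, false),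
    ([0, 3, 0, 2, 1, 2, 1, 2, 0, 3, 0, 3, 1, 2, 1, 3, 0, 3, 0, 2, 1, 2, 1, 3, 0, 2, 0, 2, 0, 3, 0, 3, 0, 3, 1, 2, 1, 2, 2, 0, 2, 0, 3, 1, 3, 3, 1, 3, 1, 3, 1, 3, 1, 3, 1, 3, 3, 0, 2, 1, 2, 2, 0, 3, 0, 2, 1, 2, 1, 3, 1, 3, 0, 2, 0, 2, 0, 3, 0, 3], 0, true),
    ([0, 3, 0, 2, 1, 2, 1, 2, 0, 3, 0, 3, 1, 2, 1, 3, 0, 3, 0, 2, 1, 2, 1, 3, 0, 2, 0, 2, 0, 3, 0, 3, 0, 3, 1, 2, 1, 2, 2, 0, 2, 0, 3, 1, 3, 3, 1, 3, 1, 3, 1, 3, 1, 3, 1, 3, 3, 0, 2, 1, 2, 2, 0, 3, 0, 2, 1, 2, 1, 3, 1, 3, 0, 2, 0, 2, 0, 3], 0, true),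
    ([0, 3, 0, 2, 1, 2, 1, 2, 0, 3, 0, 3, 1, 2, 1, 3, 0, 3, 0, 2, 1, 2, 1, 3, 0, 2, 0, 2, 0, 3, 0, 3, 0, 3, 1, 2, 1, 2, 2, 0, 2, 0, 3, 1, 3, 3, 1, 3, 1, 3, 1, 3, 1, 3, 1, 3, 3, 0, 2, 1, 2, 2, 0, 3, 0, 2, 1, 2, 1, 3, 1, 3], 0, true),
    ([0, 3, 0, 2, 1, 2, 1, 2, 0, 3, 0, 3, 1, 2, 1, 3, 0, 3, 0, 2, 1, 2, 1, 3, 0, 2, 0, 2, 0, 3, 0, 3, 0, 3, 1, 2, 1, 2, 2, 0, 2, 0, 3, 1, 3, 3, 1, 3, 1, 3, 1, 3, 1, 3, 1, 3, 3, 0, 2, 1, 2, 2, 0, 3, 0, 2, 1, 2, 1], 4, false),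
    ([0, 3, 0, 2, 1, 2, 1, 2, 0, 3, 0, 3, 1, 2, 1, 3, 0, 3, 0, 2, 1, 2, 1, 3, 0, 2, 0, 2, 0, 3, 0, 3, 0, 3, 1, 2, 1, 2, 2, 0, 2, 0, 3, 1, 3, 3, 1, 3, 1, 3, 1, 3, 1, 3, 1, 3, 3, 0, 2, 1, 2, 2, 0, 3, 0, 2, 1, 2, 1], 0, false),
    ([0, 3, 0, 2, 1, 2, 1, 2, 0, 3, 0, 3, 1, 2, 1, 3, 0, 3, 0, 2, 1, 2, 1, 3, 0, 2, 0, 2, 0, 3, 0, 3, 0, 3, 1, 2, 1, 2, 2, 0, 2, 0, 3, 1, 3, 3, 1, 3, 1, 3, 1, 3, 1, 3, 1, 3, 3, 0, 2, 1, 2, 2, 0, 3, 0, 2, 1], 0, false),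
    ([0, 3, 0, 2, 1, 2, 1, 2, 0, 3, 0, 3, 1, 2, 1, 3, 0, 3, 0, 2, 1, 2, 1, 3, 0, 2, 0, 2, 0, 3, 0, 3, 0, 3, 1, 2, 1, 2, 2, 0, 2, 0, 3, 1, 3, 3, 1, 3, 1, 3, 1, 3, 1, 3, 1, 3, 3, 0, 2, 1, 2, 2, 0, 3], 0, true),
    ([0, 3, 0, 2, 1, 2, 1, 2, 0, 3, 0, 3, 1, 2, 1, 3, 0, 3, 0, 2, 1, 2, 1, 3, 0, 2, 0, 2, 0, 3, 0, 3, 0, 3, 1, 2, 1, 2, 2, 0, 2, 0, 3, 1, 3, 3, 1, 3, 1, 3, 1, 3, 1, 3, 1, 3, 3, 0, 2, 1, 2, 2], 0, true),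
    ([0, 3, 0, 2, 1, 2, 1, 2, 0, 3, 0, 3, 1, 2, 1, 3, 0, 3, 0, 2, 1, 2, 1, 3, 0, 2, 0, 2, 0, 3, 0, 3, 0, 3, 1, 2, 1, 2, 2, 0, 2, 0, 3, 1, 3, 3, 1, 3, 1, 3, 1, 3, 1, 3, 1, 3, 3, 0, 2, 1, 2], 1, true),
    ([0, 3, 0, 2, 1, 2, 1, 2, 0, 3, 0, 3, 1, 2, 1, 3, 0, 3, 0, 2, 1, 2, 1, 3, 0, 2, 0, 2, 0, 3, 0, 3, 0, 3, 1, 2, 1, 2, 2, 0, 2, 0, 3, 1, 3, 3, 1, 3, 1, 3, 1, 3, 1, 3, 1, 3, 3, 0, 2, 1], 0, false),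
    ([0, 3, 0, 2, 1, 2, 1, 2, 0, 3, 0, 3, 1, 2, 1, 3, 0, 3, 0, 2, 1, 2, 1, 3, 0, 2, 0, 2, 0, 3, 0, 3, 0, 3, 1, 2, 1, 2, 2, 0, 2, 0, 3, 1, 3, 3, 1, 3, 1, 3, 1, 3, 1, 3, 1, 3], 1, false),
    ([0, 3, 0, 2, 1, 2, 1, 2, 0, 3, 0, 3, 1, 2, 1, 3, 0, 3, 0, 2, 1, 2, 1, 3, 0, 2, 0, 2, 0, 3, 0, 3, 0, 3, 1, 2, 1, 2, 2, 0, 2, 0, 3, 1, 3, 3, 1, 3, 1, 3, 1], 0, false),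
    ([0, 3, 0, 2, 1, 2, 1, 2, 0, 3, 0, 3, 1, 2, 1, 3, 0, 3, 0, 2, 1, 2, 1, 3, 0, 2, 0, 2, 0, 3, 0, 3, 0, 3, 1, 2, 1, 2, 2, 0, 2, 0, 3, 1, 3, 3, 1, 3, 1, 3, 3], 0, false),
    ([0, 3, 0, 2, 1, 2, 1, 2, 0, 3, 0, 3, 1, 2, 1, 3, 0, 3, 0, 2, 1, 2, 1, 3, 0, 2, 0, 2, 0, 3, 0, 3, 0, 3, 1, 2, 1, 2, 2, 0, 2, 0, 3, 1, 3, 3, 1, 3, 1, 3, 3], 0, true),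
    ([0, 3, 0, 2, 1, 2, 1, 2, 0, 3, 0, 3, 1, 2, 1, 3, 0, 3, 0, 2, 1, 2, 1, 3, 0, 2, 0, 2, 0, 3, 0, 3, 0, 3, 1, 2, 1, 2, 2, 0, 2, 0, 3, 1, 3, 3, 1, 3, 1, 3], 1, false),
    ([0, 3, 0, 2, 1, 2, 1, 2, 0, 3, 0, 3, 1, 2, 1, 3, 0, 3, 0, 2, 1, 2, 1, 3, 0, 2, 0, 2, 0, 3, 0, 3, 0, 3, 1, 2, 1, 2, 2, 0, 2, 0, 3, 1, 3, 3, 1, 3, 1], 0, false),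
    ([0, 3, 0, 2, 1, 2, 1, 2, 0, 3, 0, 3, 1, 2, 1, 3, 0, 3, 0, 2, 1, 2, 1, 3, 0, 2, 0, 2, 0, 3, 0, 3, 0, 3, 1, 2, 1, 2, 2, 0, 2, 0, 3, 1, 3], 1, false),
    ([0, 3, 0, 2, 1, 2, 1, 2, 0, 3, 0, 3, 1, 2, 1, 3, 0, 3, 0, 2, 1, 2, 1, 3, 0, 2, 0, 2, 0, 3, 0, 3, 0, 3, 1, 2, 1, 2, 2, 0, 2, 0, 3, 1], 0, false),
    ([0, 3, 0, 2, 1, 2, 1, 2, 0, 3, 0, 3, 1, 2, 1, 3, 0, 3, 0, 2, 1, 2, 1, 3, 0, 2, 0, 2, 0, 3, 0, 3, 0, 3, 1, 2, 1, 2, 2, 0, 2], 0, true),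
    ([0, 3, 0, 2, 1, 2, 1, 2, 0, 3, 0, 3, 1, 2, 1, 3, 0, 3, 0, 2, 1, 2, 1, 3, 0, 2, 0, 2, 0, 3, 0, 3, 0, 3, 1, 2, 1, 2], 1, true),
    ([0, 3, 0, 2, 1, 2, 1, 2, 0, 3, 0, 3, 1, 2, 1, 3, 0, 3, 0, 2, 1, 2, 1, 3, 0, 2, 0, 2, 0, 3, 0, 3, 0, 3, 1], 0, false),
    ([0, 3, 0, 2, 1, 2, 1, 2, 0, 3, 0, 3, 1, 2, 1, 3, 0, 3, 0, 2, 1, 2, 1, 3, 0, 2, 0, 2, 0, 3, 0, 3], 0, true),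
    ([0, 3, 0, 2, 1, 2, 1, 2, 0, 3, 0, 3, 1, 2, 1, 3, 0, 3, 0, 2, 1, 2, 1, 3, 0, 2, 0, 2, 0, 3, 0], 1, false),
    ([0, 3, 0, 2, 1, 2, 1, 2, 0, 3, 0, 3, 1, 2, 1, 3, 0, 3, 0, 2, 1, 2, 1, 3, 0, 2, 0, 2, 0, 3, 0, 2], 0, false),
    ([0, 3, 0, 2, 1, 2, 1, 2, 0, 3, 0, 3, 1, 2, 1, 3, 0, 3, 0, 2, 1, 2, 1], 0, false),
    ([0, 3, 0, 2, 1, 2, 1, 2, 0, 3, 0, 3, 1, 2, 1, 3, 0, 3, 0, 2, 1], 0, false),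
    ([0, 3, 0, 2, 1, 2, 1, 2, 0, 3, 0, 3, 1, 2, 1, 3, 0, 3], 6, true),
    ([0, 3, 0, 2, 1, 2, 1, 2, 0, 3, 0, 3, 1, 2, 1], 0, false),
    ([0, 3, 0, 2, 1, 2, 1, 2, 0, 3, 0, 3, 1], 0, false),
    ([0, 3, 0, 2, 1, 2, 1], 0, false),
    ([0, 3, 0, 2, 1, 2, 2], 0, false),
    ([0, 3, 0, 2, 1, 2, 2, 0, 2], 0, false),
    ([0, 3, 0, 2, 1, 2, 2, 0, 2, 0, 3], 0, false),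
    ([0, 3, 0, 2, 1, 2, 2, 0, 2, 0, 3, 0, 2], 0, false),
    ([0, 3, 0, 2, 1, 2, 2, 0, 2, 0, 3, 0, 2], 0, true),
    ([0, 3, 0, 2, 1, 2, 2, 0, 2], 0, true),
    ([0, 3, 0, 2, 1, 2], 1, true),
    ([], 0, true),
    ([], 3, true)]

/-- The conjugates of relators for relation 8. -/
def conj8 : List (List ℕ × ℕ × Bool) :=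
  [([0, 3, 0, 3, 1, 2, 1, 2, 0, 3, 0, 3, 1, 2, 1, 2, 0, 3, 0, 3, 1, 2, 1, 2, 0, 3, 0, 3, 1, 2, 1, 2, 0, 3, 0, 3, 1, 2, 1], 0, false),
    ([0, 3, 0, 3, 1, 2, 1, 2, 0, 3, 0, 3, 1, 2, 1, 2, 0, 3, 0, 3, 1, 2, 1, 2, 0, 3, 0, 3, 1, 2, 1, 2, 0, 3, 0, 3, 1], 0, false),
    ([0, 3, 0, 3, 1, 2, 1, 2, 0, 3, 0, 3, 1, 2, 1, 2, 0, 3, 0, 3, 1, 2, 1, 2, 0, 3, 0, 3, 1, 2, 1, 2, 0, 3], 0, true),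
    ([0, 3, 0, 3, 1, 2, 1, 2, 0, 3, 0, 3, 1, 2, 1, 2, 0, 3, 0, 3, 1, 2, 1, 2, 0, 3, 0, 3, 1, 2, 1, 2], 0, true),
    ([0, 3, 0, 3, 1, 2, 1, 2, 0, 3, 0, 3, 1, 2, 1, 2, 0, 3, 0, 3, 1, 2, 1, 2, 0, 3, 0, 3, 1, 2, 1], 0, false),
    ([0, 3, 0, 3, 1, 2, 1, 2, 0, 3, 0, 3, 1, 2, 1, 2, 0, 3, 0, 3, 1, 2, 1, 2, 0, 3, 0, 3, 1], 0, false),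
    ([0, 3, 0, 3, 1, 2, 1, 2, 0, 3, 0, 3, 1, 2, 1, 2, 0, 3, 0, 3, 1, 2, 1, 2, 0, 3], 0, true),
    ([0, 3, 0, 3, 1, 2, 1, 2, 0, 3, 0, 3, 1, 2, 1, 2, 0, 3, 0, 3, 1, 2, 1, 2], 0, true),
    ([0, 3, 0, 3, 1, 2, 1, 2, 0, 3, 0, 3, 1, 2, 1, 2, 0, 3, 0, 3, 1, 2, 1], 0, false),
    ([0, 3, 0, 3, 1, 2, 1, 2, 0, 3, 0, 3, 1, 2, 1, 2, 0, 3, 0, 3, 1], 0, false),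
    ([0, 3, 0, 3, 1, 2, 1, 2, 0, 3, 0, 3, 1, 2, 1, 2, 0, 3], 0, true),
    ([0, 3, 0, 3, 1, 2, 1, 2, 0, 3, 0, 3, 1, 2, 1, 2], 0, true),
    ([0, 3, 0, 3, 1, 2, 1, 2, 0, 3, 0, 3, 1, 2, 1], 0, false),
    ([0, 3, 0, 3, 1, 2, 1, 2, 0, 3, 0, 3, 1], 0, false),
    ([0, 3, 0, 3, 1, 2, 1, 2, 0, 3], 0, true),
    ([0, 3, 0, 3, 1, 2, 1, 2], 0, true),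
    ([0, 3, 0, 3, 1, 2, 1], 0, false),
    ([0, 3, 0, 3, 1], 0, false),
    ([0, 3], 0, true),
    ([], 0, true),
    ([], 4, true)]

/-- The conjugates of relators for relation 9. -/
def conj9 : List (List ℕ × ℕ × Bool) :=
  [([0, 2, 0, 3, 0, 3, 1, 2, 2, 0, 2, 0, 2, 0, 3, 1, 3, 1, 3, 1, 3, 3, 0, 3, 0, 3, 1, 2, 1, 2, 1, 3, 1, 3, 1, 2, 0, 2, 0, 3, 0, 3, 1, 2, 1, 3, 3, 0, 3, 1, 2, 2, 0, 2, 0, 2, 0, 2, 0, 3, 1, 3, 3, 1, 3, 3, 1, 3, 1, 3, 1, 3, 1, 3, 1, 3, 1, 2, 0, 3, 0, 3, 1, 2, 1, 3, 0, 3, 0, 2, 1, 2, 1, 3, 0, 2, 0], 1, false),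
    ([0, 2, 0, 3, 0, 3, 1, 2, 2, 0, 2, 0, 2, 0, 3, 1, 3, 1, 3, 1, 3, 3, 0, 3, 0, 3, 1, 2, 1, 2, 1, 3, 1, 3, 1, 2, 0, 2, 0, 3, 0, 3, 1, 2, 1, 3, 3, 0, 3, 1, 2, 2, 0, 2, 0, 2, 0, 2, 0, 3, 1, 3, 3, 1, 3, 3, 1, 3, 1, 3, 1, 3, 1, 3, 1, 3, 1, 2, 0, 3, 0, 3, 1, 2, 1, 3, 0, 3, 0, 2, 1, 2, 1, 3, 0, 2, 0, 2], 0, false),
    ([0, 2, 0, 3, 0, 3, 1, 2, 2, 0, 2, 0, 2, 0, 3, 1, 3, 1, 3, 1, 3, 3, 0, 3, 0, 3, 1, 2, 1, 2, 1, 3, 1, 3, 1, 2, 0, 2, 0, 3, 0, 3, 1, 2, 1, 3, 3, 0, 3, 1, 2, 2, 0, 2, 0, 2, 0, 2, 0, 3, 1, 3, 3, 1, 3, 3, 1, 3, 1, 3, 1, 3, 1, 3, 1, 3, 1, 2, 0, 3, 0, 3, 1, 2, 1, 3, 0, 3, 0, 2, 1, 2, 1, 3, 0, 2, 0, 2, 0, 3], 0, false),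
    ([0, 2, 0, 3, 0, 3, 1, 2, 2, 0, 2, 0, 2, 0, 3, 1, 3, 1, 3, 1, 3, 3, 0, 3, 0, 3, 1, 2, 1, 2, 1, 3, 1, 3, 1, 2, 0, 2, 0, 3, 0, 3, 1, 2, 1, 3, 3, 0, 3, 1, 2, 2, 0, 2, 0, 2, 0, 2, 0, 3, 1, 3, 3, 1, 3, 3, 1, 3, 1, 3, 1, 3, 1, 3, 1, 3, 1, 2, 0, 3, 0, 3, 1, 2, 1, 3, 0, 3, 0, 2, 1, 2, 1], 0, false),
    ([0, 2, 0, 3, 0, 3, 1, 2, 2, 0, 2, 0, 2, 0, 3, 1, 3, 1, 3, 1, 3, 3, 0, 3, 0, 3, 1, 2, 1, 2, 1, 3, 1, 3, 1, 2, 0, 2, 0, 3, 0, 3, 1, 2, 1, 3, 3, 0, 3, 1, 2, 2, 0, 2, 0, 2, 0, 2, 0, 3, 1, 3, 3, 1, 3, 3, 1, 3, 1, 3, 1, 3, 1, 3, 1, 3, 1, 2, 0, 3, 0, 3, 1, 2, 1, 3, 0, 3, 0, 2, 1], 0, false),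
    ([0, 2, 0, 3, 0, 3, 1, 2, 2, 0, 2, 0, 2, 0, 3, 1, 3, 1, 3, 1, 3, 3, 0, 3, 0, 3, 1, 2, 1, 2, 1, 3, 1, 3, 1, 2, 0, 2, 0, 3, 0, 3, 1, 2, 1, 3, 3, 0, 3, 1, 2, 2, 0, 2, 0, 2, 0, 2, 0, 3, 1, 3, 3, 1, 3, 3, 1, 3, 1, 3, 1, 3, 1, 3, 1, 3, 1, 2, 0, 3, 0, 3, 1, 2, 1, 3, 0, 3], 6, true),
    ([0, 2, 0, 3, 0, 3, 1, 2, 2, 0, 2, 0, 2, 0, 3, 1, 3, 1, 3, 1, 3, 3, 0, 3, 0, 3, 1, 2, 1, 2, 1, 3, 1, 3, 1, 2, 0, 2, 0, 3, 0, 3, 1, 2, 1, 3, 3, 0, 3, 1, 2, 2, 0, 2, 0, 2, 0, 2, 0, 3, 1, 3, 3, 1, 3, 3, 1, 3, 1, 3, 1, 3, 1, 3, 1, 3, 1, 2, 0, 3, 0, 3, 1, 2, 1], 0, false),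
    ([0, 2, 0, 3, 0, 3, 1, 2, 2, 0, 2, 0, 2, 0, 3, 1, 3, 1, 3, 1, 3, 3, 0, 3, 0, 3, 1, 2, 1, 2, 1, 3, 1, 3, 1, 2, 0, 2, 0, 3, 0, 3, 1, 2, 1, 3, 3, 0, 3, 1, 2, 2, 0, 2, 0, 2, 0, 2, 0, 3, 1, 3, 3, 1, 3, 3, 1, 3, 1, 3, 1, 3, 1, 3, 1, 3, 1, 2, 0, 3, 0, 3, 1], 0, false),
    ([0, 2, 0, 3, 0, 3, 1, 2, 2, 0, 2, 0, 2, 0, 3, 1, 3, 1, 3, 1, 3, 3, 0, 3, 0, 3, 1, 2, 1, 2, 1, 3, 1, 3, 1, 2, 0, 2, 0, 3, 0, 3, 1, 2, 1, 3, 3, 0, 3, 1, 2, 2, 0, 2, 0, 2, 0, 2, 0, 3, 1, 3, 3, 1, 3, 3, 1, 3, 1, 3, 1, 3, 1, 3, 1, 3, 1], 0, false),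
    ([0, 2, 0, 3, 0, 3, 1, 2, 2, 0, 2, 0, 2, 0, 3, 1, 3, 1, 3, 1, 3, 3, 0, 3, 0, 3, 1, 2, 1, 2, 1, 3, 1, 3, 1, 2, 0, 2, 0, 3, 0, 3, 1, 2, 1, 3, 3, 0, 3, 1, 2, 2, 0, 2, 0, 2, 0, 2, 0, 3, 1, 3, 3, 1, 3, 3, 1, 3, 1, 3, 1, 3, 1, 3, 1], 0, false),
    ([0, 2, 0, 3, 0, 3, 1, 2, 2, 0, 2, 0, 2, 0, 3, 1, 3, 1, 3, 1, 3, 3, 0, 3, 0, 3, 1, 2, 1, 2, 1, 3, 1, 3, 1, 2, 0, 2, 0, 3, 0, 3, 1, 2, 1, 3, 3, 0, 3, 1, 2, 2, 0, 2, 0, 2, 0, 2, 0, 3, 1, 3, 3, 1, 3, 3, 1, 3, 1, 3, 1, 3, 1], 0, false),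
    ([0, 2, 0, 3, 0, 3, 1, 2, 2, 0, 2, 0, 2, 0, 3, 1, 3, 1, 3, 1, 3, 3, 0, 3, 0, 3, 1, 2, 1, 2, 1, 3, 1, 3, 1, 2, 0, 2, 0, 3, 0, 3, 1, 2, 1, 3, 3, 0, 3, 1, 2, 2, 0, 2, 0, 2, 0, 2, 0, 3, 1, 3, 3, 1, 3, 3, 1, 3, 1, 3, 1, 3, 3], 0, false),
    ([0, 2, 0, 3, 0, 3, 1, 2, 2, 0, 2, 0, 2, 0, 3, 1, 3, 1, 3, 1, 3, 3, 0, 3, 0, 3, 1, 2, 1, 2, 1, 3, 1, 3, 1, 2, 0, 2, 0, 3, 0, 3, 1, 2, 1, 3, 3, 0, 3, 1, 2, 2, 0, 2, 0, 2, 0, 2, 0, 3, 1, 3, 3, 1, 3, 3, 1, 3, 1, 3, 1, 3, 3, 0, 2], 0, false),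
    ([0, 2, 0, 3, 0, 3, 1, 2, 2, 0, 2, 0, 2, 0, 3, 1, 3, 1, 3, 1, 3, 3, 0, 3, 0, 3, 1, 2, 1, 2, 1, 3, 1, 3, 1, 2, 0, 2, 0, 3, 0, 3, 1, 2, 1, 3, 3, 0, 3, 1, 2, 2, 0, 2, 0, 2, 0, 2, 0, 3, 1, 3, 3, 1, 3, 3, 1, 3, 1, 3, 1, 3, 3, 0, 2], 0, true),
    ([0, 2, 0, 3, 0, 3, 1, 2, 2, 0, 2, 0, 2, 0, 3, 1, 3, 1, 3, 1, 3, 3, 0, 3, 0, 3, 1, 2, 1, 2, 1, 3, 1, 3, 1, 2, 0, 2, 0, 3, 0, 3, 1, 2, 1, 3, 3, 0, 3, 1, 2, 2, 0, 2, 0, 2, 0, 2, 0, 3, 1, 3, 3, 1, 3, 3, 1, 3, 1, 3, 1, 3], 1, false),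
    ([0, 2, 0, 3, 0, 3, 1, 2, 2, 0, 2, 0, 2, 0, 3, 1, 3, 1, 3, 1, 3, 3, 0, 3, 0, 3, 1, 2, 1, 2, 1, 3, 1, 3, 1, 2, 0, 2, 0, 3, 0, 3, 1, 2, 1, 3, 3, 0, 3, 1, 2, 2, 0, 2, 0, 2, 0, 2, 0, 3, 1, 3, 3, 1, 3, 3, 1, 3, 1, 3, 1], 0, false),
    ([0, 2, 0, 3, 0, 3, 1, 2, 2, 0, 2, 0, 2, 0, 3, 1, 3, 1, 3, 1, 3, 3, 0, 3, 0, 3, 1, 2, 1, 2, 1, 3, 1, 3, 1, 2, 0, 2, 0, 3, 0, 3, 1, 2, 1, 3, 3, 0, 3, 1, 2, 2, 0, 2, 0, 2, 0, 2, 0, 3, 1, 3, 3, 1, 3], 1, false),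
    ([0, 2, 0, 3, 0, 3, 1, 2, 2, 0, 2, 0, 2, 0, 3, 1, 3, 1, 3, 1, 3, 3, 0, 3, 0, 3, 1, 2, 1, 2, 1, 3, 1, 3, 1, 2, 0, 2, 0, 3, 0, 3, 1, 2, 1, 3, 3, 0, 3, 1, 2, 2, 0, 2, 0, 2, 0, 2, 0, 3, 1, 3, 3, 1], 0, false),
    ([0, 2, 0, 3, 0, 3, 1, 2, 2, 0, 2, 0, 2, 0, 3, 1, 3, 1, 3, 1, 3, 3, 0, 3, 0, 3, 1, 2, 1, 2, 1, 3, 1, 3, 1, 2, 0, 2, 0, 3, 0, 3, 1, 2, 1, 3, 3, 0, 3, 1, 2, 2, 0, 2, 0, 2, 0, 2, 0, 3, 1, 3], 1, false),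
    ([0, 2, 0, 3, 0, 3, 1, 2, 2, 0, 2, 0, 2, 0, 3, 1, 3, 1, 3, 1, 3, 3, 0, 3, 0, 3, 1, 2, 1, 2, 1, 3, 1, 3, 1, 2, 0, 2, 0, 3, 0, 3, 1, 2, 1, 3, 3, 0, 3, 1, 2, 2, 0, 2, 0, 2, 0, 2, 0, 3, 1], 0, false),
    ([0, 2, 0, 3, 0, 3, 1, 2, 2, 0, 2, 0, 2, 0, 3, 1, 3, 1, 3, 1, 3, 3, 0, 3, 0, 3, 1, 2, 1, 2, 1, 3, 1, 3, 1, 2, 0, 2, 0, 3, 0, 3, 1, 2, 1, 3, 3, 0, 3, 1, 2, 2, 0, 2, 0, 2, 0, 2], 0, true),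
    ([0, 2, 0, 3, 0, 3, 1, 2, 2, 0, 2, 0, 2, 0, 3, 1, 3, 1, 3, 1, 3, 3, 0, 3, 0, 3, 1, 2, 1, 2, 1, 3, 1, 3, 1, 2, 0, 2, 0, 3, 0, 3, 1, 2, 1, 3, 3, 0, 3, 1, 2, 2, 0, 2, 0, 2, 0], 1, true),
    ([0, 2, 0, 3, 0, 3, 1, 2, 2, 0, 2, 0, 2, 0, 3, 1, 3, 1, 3, 1, 3, 3, 0, 3, 0, 3, 1, 2, 1, 2, 1, 3, 1, 3, 1, 2, 0, 2, 0, 3, 0, 3, 1, 2, 1, 3, 3, 0, 3, 1, 2, 2, 0, 2, 0, 2, 0, 3], 0, true),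
    ([0, 2, 0, 3, 0, 3, 1, 2, 2, 0, 2, 0, 2, 0, 3, 1, 3, 1, 3, 1, 3, 3, 0, 3, 0, 3, 1, 2, 1, 2, 1, 3, 1, 3, 1, 2, 0, 2, 0, 3, 0, 3, 1, 2, 1, 3, 3, 0, 3, 1, 2, 2, 0, 2, 0, 2], 0, true),
    ([0, 2, 0, 3, 0, 3, 1, 2, 2, 0, 2, 0, 2, 0, 3, 1, 3, 1, 3, 1, 3, 3, 0, 3, 0, 3, 1, 2, 1, 2, 1, 3, 1, 3, 1, 2, 0, 2, 0, 3, 0, 3, 1, 2, 1, 3, 3, 0, 3, 1, 2], 1, true),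
    ([0, 2, 0, 3, 0, 3, 1, 2, 2, 0, 2, 0, 2, 0, 3, 1, 3, 1, 3, 1, 3, 3, 0, 3, 0, 3, 1, 2, 1, 2, 1, 3, 1, 3, 1, 2, 0, 2, 0, 3, 0, 3, 1, 2, 1, 3, 3], 0, true),
    ([0, 2, 0, 3, 0, 3, 1, 2, 2, 0, 2, 0, 2, 0, 3, 1, 3, 1, 3, 1, 3, 3, 0, 3, 0, 3, 1, 2, 1, 2, 1, 3, 1, 3, 1, 2, 0, 2, 0, 3, 0, 3, 1, 2, 1, 3], 1, false),
    ([0, 2, 0, 3, 0, 3, 1, 2, 2, 0, 2, 0, 2, 0, 3, 1, 3, 1, 3, 1, 3, 3, 0, 3, 0, 3, 1, 2, 1, 2, 1, 3, 1, 3, 1, 2, 0, 2, 0, 3, 0, 3, 1, 2, 1], 0, false),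
    ([0, 2, 0, 3, 0, 3, 1, 2, 2, 0, 2, 0, 2, 0, 3, 1, 3, 1, 3, 1, 3, 3, 0, 3, 0, 3, 1, 2, 1, 2, 1, 3, 1, 3, 1, 2, 0, 2, 0, 3, 0, 3, 1], 0, false),
    ([0, 2, 0, 3, 0, 3, 1, 2, 2, 0, 2, 0, 2, 0, 3, 1, 3, 1, 3, 1, 3, 3, 0, 3, 0, 3, 1, 2, 1, 2, 1, 3, 1, 3, 1, 2, 0, 2, 0, 3], 0, true),
    ([0, 2, 0, 3, 0, 3, 1, 2, 2, 0, 2, 0, 2, 0, 3, 1, 3, 1, 3, 1, 3, 3, 0, 3, 0, 3, 1, 2, 1, 2, 1, 3, 1, 3, 1, 2, 0, 2], 0, true),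
    ([0, 2, 0, 3, 0, 3, 1, 2, 2, 0, 2, 0, 2, 0, 3, 1, 3, 1, 3, 1, 3, 3, 0, 3, 0, 3, 1, 2, 1, 2, 1, 3, 1, 3, 1, 2, 0, 2], 4, true),
    ([0, 2, 0, 3, 0, 3, 1, 2, 2, 0, 2, 0, 2, 0, 3, 1, 3, 1, 3, 1, 3, 3, 0, 3, 0, 3, 1, 2, 1, 2, 1, 3, 1, 3, 1], 0, false),
    ([0, 2, 0, 3, 0, 3, 1, 2, 2, 0, 2, 0, 2, 0, 3, 1, 3, 1, 3, 1, 3, 3, 0, 3, 0, 3, 1, 2, 1], 0, false),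
    ([0, 2, 0, 3, 0, 3, 1, 2, 2, 0, 2, 0, 2, 0, 3, 1, 3, 1, 3, 1, 3, 3, 0, 3, 0, 3, 1], 0, false),
    ([0, 2, 0, 3, 0, 3, 1, 2, 2, 0, 2, 0, 2, 0, 3, 1, 3, 1, 3, 1, 3, 3, 0, 3], 0, true),
    ([0, 2, 0, 3, 0, 3, 1, 2, 2, 0, 2, 0, 2, 0, 3, 1, 3, 1, 3, 1, 3, 3], 0, true),
    ([0, 2, 0, 3, 0, 3, 1, 2, 2, 0, 2, 0, 2, 0, 3, 1, 3, 1, 3, 1, 3], 1, false),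
    ([0, 2, 0, 3, 0, 3, 1, 2, 2, 0, 2, 0, 2, 0, 3, 1, 3, 1, 3, 1], 0, false),
    ([0, 2, 0, 3, 0, 3, 1, 2, 2, 0, 2, 0, 2, 0, 3, 1, 3, 1, 3, 3], 0, false),
    ([0, 2, 0, 3, 0, 3, 1, 2, 2, 0, 2, 0, 2, 0, 3, 1, 3, 1, 3], 1, false),
    ([0, 2, 0, 3, 0, 3, 1, 2, 2, 0, 2, 0, 2, 0, 3, 1, 3, 1], 0, false),
    ([0, 2, 0, 3, 0, 3, 1, 2, 2, 0, 2, 0, 2], 0, true),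
    ([0, 2, 0, 3, 0, 3, 1, 2], 1, true),
    ([0, 2, 0, 3], 0, true),
    ([0, 2, 0, 3], 4, true)]

/-- The conjugates of relators for relation 10. -/
def conj10 : List (List ℕ × ℕ × Bool) :=
  [([0, 2, 0, 2, 0, 3, 0, 3, 0, 3, 1, 2, 1, 2, 1, 3, 1, 3, 1, 2, 0, 3, 0, 3, 1, 2, 1, 2, 0, 3, 0, 2, 1, 2, 1, 3, 0, 2, 0, 2, 0, 3, 0, 3, 0, 3, 1, 2, 1, 2, 1, 3, 1, 3, 1, 2, 0, 3, 0, 3, 1, 2, 1, 2, 0, 3, 0, 2, 1, 2, 1, 3, 0, 2, 0, 2, 0, 3, 0, 3, 0, 3, 1, 2, 1, 2, 1, 3, 1, 3, 1, 2, 0, 3, 0, 3, 1, 2, 1, 2, 0, 3, 0, 2, 1, 2, 1, 3, 0, 2, 0, 2, 0, 3, 0, 3, 0, 3, 1, 2, 1, 2, 1, 3, 1, 3, 1, 2, 0, 3, 0, 3, 1, 2, 1, 2, 0, 3, 0, 2, 1, 2, 1, 3, 0, 2, 0,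 2, 0, 3, 0, 3, 0, 3, 1, 2, 1, 2, 1, 3, 1, 3, 1, 2, 0, 3, 0, 3, 1, 2, 1, 2, 0, 3, 0, 2, 1, 2, 1, 3, 0, 2, 0, 2, 0, 3, 0], 1, false),
    ([0, 2, 0, 2, 0, 3, 0, 3, 0, 3, 1, 2, 1, 2, 1, 3, 1, 3, 1, 2, 0, 3, 0, 3, 1, 2, 1, 2, 0, 3, 0, 2, 1, 2, 1, 3, 0, 2, 0, 2, 0, 3, 0, 3, 0, 3, 1, 2, 1, 2, 1, 3, 1, 3, 1, 2, 0, 3, 0, 3, 1, 2, 1, 2, 0, 3, 0, 2, 1, 2, 1, 3, 0, 2, 0, 2, 0, 3, 0, 3, 0, 3, 1, 2, 1, 2, 1, 3, 1, 3, 1, 2, 0, 3, 0, 3, 1, 2, 1, 2, 0, 3, 0, 2, 1, 2, 1, 3, 0, 2, 0, 2, 0, 3, 0, 3, 0, 3, 1, 2, 1, 2, 1, 3, 1, 3, 1, 2, 0, 3, 0, 3, 1, 2, 1, 2, 0, 3, 0, 2, 1, 2, 1, 3, 0, 2, 0, 2, 0, 3, 0, 3, 0, 3, 1, 2, 1, 2, 1, 3, 1, 3, 1, 2, 0, 3, 0,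 3, 1, 2, 1, 2, 0, 3, 0, 2, 1, 2, 1, 3, 0, 2, 0, 2, 0, 3, 0, 2], 0, false),
    ([0, 2, 0, 2, 0, 3, 0, 3, 0, 3, 1, 2, 1, 2, 1, 3, 1, 3, 1, 2, 0, 3, 0, 3, 1, 2, 1, 2, 0, 3, 0, 2, 1, 2, 1, 3, 0, 2, 0, 2, 0, 3, 0, 3, 0, 3, 1, 2, 1, 2, 1, 3, 1, 3, 1, 2, 0, 3, 0, 3, 1, 2, 1, 2, 0, 3, 0, 2, 1, 2, 1, 3, 0, 2, 0, 2, 0, 3, 0, 3, 0, 3, 1, 2, 1, 2, 1, 3, 1, 3, 1, 2, 0, 3, 0, 3, 1, 2, 1, 2, 0, 3, 0, 2, 1, 2, 1, 3, 0, 2, 0, 2, 0, 3, 0, 3, 0, 3, 1, 2, 1, 2, 1, 3, 1, 3, 1, 2, 0, 3, 0, 3, 1, 2, 1, 2, 0, 3, 0, 2, 1, 2, 1, 3, 0, 2, 0, 2, 0, 3, 0, 3, 0, 3, 1, 2, 1, 2, 1, 3, 1, 3, 1, 2, 0, 3, 0, 3, 1, 2, 1, 2, 0, 3, 0, 2, 1, 2, 1, 3, 0, 2, 0, 2, 0, 3,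 0, 2], 0, true),
    ([0, 2, 0, 2, 0, 3, 0, 3, 0, 3, 1, 2, 1, 2, 1, 3, 1, 3, 1, 2, 0, 3, 0, 3, 1, 2, 1, 2, 0, 3, 0, 2, 1, 2, 1, 3, 0, 2, 0, 2, 0, 3, 0, 3, 0, 3, 1, 2, 1, 2, 1, 3, 1, 3, 1, 2, 0, 3, 0, 3, 1, 2, 1, 2, 0, 3, 0, 2, 1, 2, 1, 3, 0, 2, 0, 2, 0, 3, 0, 3, 0, 3, 1, 2, 1, 2, 1, 3, 1, 3, 1, 2, 0, 3, 0, 3, 1, 2, 1, 2, 0, 3, 0, 2, 1, 2, 1, 3, 0, 2, 0, 2, 0, 3, 0, 3, 0, 3, 1, 2, 1, 2, 1, 3, 1, 3, 1, 2, 0, 3, 0, 3, 1, 2, 1, 2, 0, 3, 0, 2, 1, 2, 1, 3, 0, 2, 0, 2, 0, 3, 0, 3, 0, 3, 1, 2, 1, 2, 1, 3, 1, 3, 1, 2, 0, 3, 0, 3, 1, 2, 1, 2, 0, 3, 0, 2, 1, 2, 1, 3, 0, 2, 0, 2, 0, 3], 0, true),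
    ([0, 2, 0, 2, 0, 3, 0, 3, 0, 3, 1, 2, 1, 2, 1, 3, 1, 3, 1, 2, 0, 3, 0, 3, 1, 2, 1, 2, 0, 3, 0, 2, 1, 2, 1, 3, 0, 2, 0, 2, 0, 3, 0, 3, 0, 3, 1, 2, 1, 2, 1, 3, 1, 3, 1, 2, 0, 3, 0, 3, 1, 2, 1, 2, 0, 3, 0, 2, 1, 2, 1, 3, 0, 2, 0, 2, 0, 3, 0, 3, 0, 3, 1, 2, 1, 2, 1, 3, 1, 3, 1, 2, 0, 3, 0, 3, 1, 2, 1, 2, 0, 3, 0, 2, 1, 2, 1, 3, 0, 2, 0, 2, 0, 3, 0, 3, 0, 3, 1, 2, 1, 2, 1, 3, 1, 3, 1, 2, 0, 3, 0, 3, 1, 2, 1, 2, 0, 3, 0, 2, 1, 2, 1, 3, 0, 2, 0, 2, 0, 3, 0, 3, 0, 3, 1, 2, 1, 2, 1, 3, 1, 3, 1, 2, 0, 3, 0, 3, 1, 2, 1, 2, 0, 3, 0, 2, 1, 2, 1, 3, 0, 2, 0, 2], 0, true),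
    ([0, 2, 0, 2, 0, 3, 0, 3, 0, 3, 1, 2, 1, 2, 1, 3, 1, 3, 1, 2, 0, 3, 0, 3, 1, 2, 1, 2, 0, 3, 0, 2, 1, 2, 1, 3, 0, 2, 0, 2, 0, 3, 0, 3, 0, 3, 1, 2, 1, 2, 1, 3, 1, 3, 1, 2, 0, 3, 0, 3, 1, 2, 1, 2, 0, 3, 0, 2, 1, 2, 1, 3, 0, 2, 0, 2, 0, 3, 0, 3, 0, 3, 1, 2, 1, 2, 1, 3, 1, 3, 1, 2, 0, 3, 0, 3, 1, 2, 1, 2, 0, 3, 0, 2, 1, 2, 1, 3, 0, 2, 0, 2, 0, 3, 0, 3, 0, 3, 1, 2, 1, 2, 1, 3, 1, 3, 1, 2, 0, 3, 0, 3, 1, 2, 1, 2, 0, 3, 0, 2, 1, 2, 1, 3, 0, 2, 0, 2, 0, 3, 0, 3, 0, 3, 1, 2, 1, 2, 1, 3, 1, 3, 1, 2, 0, 3, 0, 3, 1, 2, 1, 2, 0, 3, 0, 2, 1, 2, 1, 3, 0, 2], 0, true),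
    ([0, 2, 0, 2, 0, 3, 0, 3, 0, 3, 1, 2, 1, 2, 1, 3, 1, 3, 1, 2, 0, 3, 0, 3, 1, 2, 1, 2, 0, 3, 0, 2, 1, 2, 1, 3, 0, 2, 0, 2, 0, 3, 0, 3, 0, 3, 1, 2, 1, 2, 1, 3, 1, 3, 1, 2, 0, 3, 0, 3, 1, 2, 1, 2, 0, 3, 0, 2, 1, 2, 1, 3, 0, 2, 0, 2, 0, 3, 0, 3, 0, 3, 1, 2, 1, 2, 1, 3, 1, 3, 1, 2, 0, 3, 0, 3, 1, 2, 1, 2, 0, 3, 0, 2, 1, 2, 1, 3, 0, 2, 0, 2, 0, 3, 0, 3, 0, 3, 1, 2, 1, 2, 1, 3, 1, 3, 1, 2, 0, 3, 0, 3, 1, 2, 1, 2, 0, 3, 0, 2, 1, 2, 1, 3, 0, 2, 0, 2, 0, 3, 0, 3, 0, 3, 1, 2, 1, 2, 1, 3, 1, 3, 1, 2, 0, 3, 0, 3, 1, 2, 1, 2, 0, 3, 0, 2, 1, 2, 1, 3], 0, true),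
    ([0, 2, 0, 2, 0, 3, 0, 3, 0, 3, 1, 2, 1, 2, 1, 3, 1, 3, 1, 2, 0, 3, 0, 3, 1, 2, 1, 2, 0, 3, 0, 2, 1, 2, 1, 3, 0, 2, 0, 2, 0, 3, 0, 3, 0, 3, 1, 2, 1, 2, 1, 3, 1, 3, 1, 2, 0, 3, 0, 3, 1, 2, 1, 2, 0, 3, 0, 2, 1, 2, 1, 3, 0, 2, 0, 2, 0, 3, 0, 3, 0, 3, 1, 2, 1, 2, 1, 3, 1, 3, 1, 2, 0, 3, 0, 3, 1, 2, 1, 2, 0, 3, 0, 2, 1, 2, 1, 3, 0, 2, 0, 2, 0, 3, 0, 3, 0, 3, 1, 2, 1, 2, 1, 3, 1, 3, 1, 2, 0, 3, 0, 3, 1, 2, 1, 2, 0, 3, 0, 2, 1, 2, 1, 3, 0, 2, 0, 2, 0, 3, 0, 3, 0, 3, 1, 2, 1, 2, 1, 3, 1, 3, 1, 2, 0, 3, 0, 3, 1, 2, 1, 2, 0, 3], 0, true),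
    ([0, 2, 0, 2, 0, 3, 0, 3, 0, 3, 1, 2, 1, 2, 1, 3, 1, 3, 1, 2, 0, 3, 0, 3, 1, 2, 1, 2, 0, 3, 0, 2, 1, 2, 1, 3, 0, 2, 0, 2, 0, 3, 0, 3, 0, 3, 1, 2, 1, 2, 1, 3, 1, 3, 1, 2, 0, 3, 0, 3, 1, 2, 1, 2, 0, 3, 0, 2, 1, 2, 1, 3, 0, 2, 0, 2, 0, 3, 0, 3, 0, 3, 1, 2, 1, 2, 1, 3, 1, 3, 1, 2, 0, 3, 0, 3, 1, 2, 1, 2, 0, 3, 0, 2, 1, 2, 1, 3, 0, 2, 0, 2, 0, 3, 0, 3, 0, 3, 1, 2, 1, 2, 1, 3, 1, 3, 1, 2, 0, 3, 0, 3, 1, 2, 1, 2, 0, 3, 0, 2, 1, 2, 1, 3, 0, 2, 0, 2, 0, 3, 0, 3, 0, 3, 1, 2, 1, 2, 1, 3, 1, 3, 1, 2, 0, 3, 0, 3, 1, 2, 1, 2], 0, true),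
    ([0, 2, 0, 2, 0, 3, 0, 3, 0, 3, 1, 2, 1, 2, 1, 3, 1, 3, 1, 2, 0, 3, 0, 3, 1, 2, 1, 2, 0, 3, 0, 2, 1, 2, 1, 3, 0, 2, 0, 2, 0, 3, 0, 3, 0, 3, 1, 2, 1, 2, 1, 3, 1, 3, 1, 2, 0, 3, 0, 3, 1, 2, 1, 2, 0, 3, 0, 2, 1, 2, 1, 3, 0, 2, 0, 2, 0, 3, 0, 3, 0, 3, 1, 2, 1, 2, 1, 3, 1, 3, 1, 2, 0, 3, 0, 3, 1, 2, 1, 2, 0, 3, 0, 2, 1, 2, 1, 3, 0, 2, 0, 2, 0, 3, 0, 3, 0, 3, 1, 2, 1, 2, 1, 3, 1, 3, 1, 2, 0, 3, 0, 3, 1, 2, 1, 2, 0, 3, 0, 2, 1, 2, 1, 3, 0, 2, 0, 2, 0, 3, 0, 3, 0, 3, 1, 2, 1, 2, 1, 3, 1, 3, 1, 2, 0, 3, 0, 3, 1], 6, false),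
    ([0, 2, 0, 2, 0, 3, 0, 3, 0, 3, 1, 2, 1, 2, 1, 3, 1, 3, 1, 2, 0, 3, 0, 3, 1, 2, 1, 2, 0, 3, 0, 2, 1, 2, 1, 3, 0, 2, 0, 2, 0, 3, 0, 3, 0, 3, 1, 2, 1, 2, 1, 3, 1, 3, 1, 2, 0, 3, 0, 3, 1, 2, 1, 2, 0, 3, 0, 2, 1, 2, 1, 3, 0, 2, 0, 2, 0, 3, 0, 3, 0, 3, 1, 2, 1, 2, 1, 3, 1, 3, 1, 2, 0, 3, 0, 3, 1, 2, 1, 2, 0, 3, 0, 2, 1, 2, 1, 3, 0, 2, 0, 2, 0, 3, 0, 3, 0, 3, 1, 2, 1, 2, 1, 3, 1, 3, 1, 2, 0, 3, 0, 3, 1, 2, 1, 2, 0, 3, 0, 2, 1, 2, 1, 3, 0, 2, 0, 2, 0, 3, 0, 3, 0, 3, 1, 2, 1, 2, 1, 3, 1, 3, 1, 2, 0, 3], 0, true),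
    ([0, 2, 0, 2, 0, 3, 0, 3, 0, 3, 1, 2, 1, 2, 1, 3, 1, 3, 1, 2, 0, 3, 0, 3, 1, 2, 1, 2, 0, 3, 0, 2, 1, 2, 1, 3, 0, 2, 0, 2, 0, 3, 0, 3, 0, 3, 1, 2, 1, 2, 1, 3, 1, 3, 1, 2, 0, 3, 0, 3, 1, 2, 1, 2, 0, 3, 0, 2, 1, 2, 1, 3, 0, 2, 0, 2, 0, 3, 0, 3, 0, 3, 1, 2, 1, 2, 1, 3, 1, 3, 1, 2, 0, 3, 0, 3, 1, 2, 1, 2, 0, 3, 0, 2, 1, 2, 1, 3, 0, 2, 0, 2, 0, 3, 0, 3, 0, 3, 1, 2, 1, 2, 1, 3, 1, 3, 1, 2, 0, 3, 0, 3, 1, 2, 1, 2, 0, 3, 0, 2, 1, 2, 1, 3, 0, 2, 0, 2, 0, 3, 0, 3, 0, 3, 1, 2, 1, 2, 1, 3, 1, 3, 1, 2], 0, true),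
    ([0, 2, 0, 2, 0, 3, 0, 3, 0, 3, 1, 2, 1, 2, 1, 3, 1, 3, 1, 2, 0, 3, 0, 3, 1, 2, 1, 2, 0, 3, 0, 2, 1, 2, 1, 3, 0, 2, 0, 2, 0, 3, 0, 3, 0, 3, 1, 2, 1, 2, 1, 3, 1, 3, 1, 2, 0, 3, 0, 3, 1, 2, 1, 2, 0, 3, 0, 2, 1, 2, 1, 3, 0, 2, 0, 2, 0, 3, 0, 3, 0, 3, 1, 2, 1, 2, 1, 3, 1, 3, 1, 2, 0, 3, 0, 3, 1, 2, 1, 2, 0, 3, 0, 2, 1, 2, 1, 3, 0, 2, 0, 2, 0, 3, 0, 3, 0, 3, 1, 2, 1, 2, 1, 3, 1, 3, 1, 2, 0, 3, 0, 3, 1, 2, 1, 2, 0, 3, 0, 2, 1, 2, 1, 3, 0, 2, 0, 2, 0, 3, 0, 3, 0, 3, 1, 2], 1, true),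
    ([0, 2, 0, 2, 0, 3, 0, 3, 0, 3, 1, 2, 1, 2, 1, 3, 1, 3, 1, 2, 0, 3, 0, 3, 1, 2, 1, 2, 0, 3, 0, 2, 1, 2, 1, 3, 0, 2, 0, 2, 0, 3, 0, 3, 0, 3, 1, 2, 1, 2, 1, 3, 1, 3, 1, 2, 0, 3, 0, 3, 1, 2, 1, 2, 0, 3, 0, 2, 1, 2, 1, 3, 0, 2, 0, 2, 0, 3, 0, 3, 0, 3, 1, 2, 1, 2, 1, 3, 1, 3, 1, 2, 0, 3, 0, 3, 1, 2, 1, 2, 0, 3, 0, 2, 1, 2, 1, 3, 0, 2, 0, 2, 0, 3, 0, 3, 0, 3, 1, 2, 1, 2, 1, 3, 1, 3, 1, 2, 0, 3, 0, 3, 1, 2, 1, 2, 0, 3, 0, 2, 1, 2, 1, 3, 0, 2, 0, 2, 0, 3, 0, 3], 0, true),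
    ([0, 2, 0, 2, 0, 3, 0, 3, 0, 3, 1, 2, 1, 2, 1, 3, 1, 3, 1, 2, 0, 3, 0, 3, 1, 2, 1, 2, 0, 3, 0, 2, 1, 2, 1, 3, 0, 2, 0, 2, 0, 3, 0, 3, 0, 3, 1, 2, 1, 2, 1, 3, 1, 3, 1, 2, 0, 3, 0, 3, 1, 2, 1, 2, 0, 3, 0, 2, 1, 2, 1, 3, 0, 2, 0, 2, 0, 3, 0, 3, 0, 3, 1, 2, 1, 2, 1, 3, 1, 3, 1, 2, 0, 3, 0, 3, 1, 2, 1, 2, 0, 3, 0, 2, 1, 2, 1, 3, 0, 2, 0, 2, 0, 3, 0, 3, 0, 3, 1, 2, 1, 2, 1, 3, 1, 3, 1, 2, 0, 3, 0, 3, 1, 2, 1, 2, 0, 3, 0, 2, 1, 2, 1, 3, 0, 2, 0, 2, 0, 3, 0], 1, false),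
    ([0, 2, 0, 2, 0, 3, 0, 3, 0, 3, 1, 2, 1, 2, 1, 3, 1, 3, 1, 2, 0, 3, 0, 3, 1, 2, 1, 2, 0, 3, 0, 2, 1, 2, 1, 3, 0, 2, 0, 2, 0, 3, 0, 3, 0, 3, 1, 2, 1, 2, 1, 3, 1, 3, 1, 2, 0, 3, 0, 3, 1, 2, 1, 2, 0, 3, 0, 2, 1, 2, 1, 3, 0, 2, 0, 2, 0, 3, 0, 3, 0, 3, 1, 2, 1, 2, 1, 3, 1, 3, 1, 2, 0, 3, 0, 3, 1, 2, 1, 2, 0, 3, 0, 2, 1, 2, 1, 3, 0, 2, 0, 2, 0, 3, 0, 3, 0, 3, 1, 2, 1, 2, 1, 3, 1, 3, 1, 2, 0, 3, 0, 3, 1, 2, 1, 2, 0, 3, 0, 2, 1, 2, 1, 3, 0, 2, 0, 2, 0, 3, 0, 2], 0, false),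
    ([0, 2, 0, 2, 0, 3, 0, 3, 0, 3, 1, 2, 1, 2, 1, 3, 1, 3, 1, 2, 0, 3, 0, 3, 1, 2, 1, 2, 0, 3, 0, 2, 1, 2, 1, 3, 0, 2, 0, 2, 0, 3, 0, 3, 0, 3, 1, 2, 1, 2, 1, 3, 1, 3, 1, 2, 0, 3, 0, 3, 1, 2, 1, 2, 0, 3, 0, 2, 1, 2, 1, 3, 0, 2, 0, 2, 0, 3, 0, 3, 0, 3, 1, 2, 1, 2, 1, 3, 1, 3, 1, 2, 0, 3, 0, 3, 1, 2, 1, 2, 0, 3, 0, 2, 1, 2, 1, 3, 0, 2, 0, 2, 0, 3, 0, 3, 0, 3, 1, 2, 1, 2, 1, 3, 1, 3, 1, 2, 0, 3, 0, 3, 1, 2, 1, 2, 0, 3, 0, 2, 1, 2, 1, 3, 0, 2, 0, 2, 0, 3, 0, 2], 0, true),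
    ([0, 2, 0, 2, 0, 3, 0, 3, 0, 3, 1, 2, 1, 2, 1, 3, 1, 3, 1, 2, 0, 3, 0, 3, 1, 2, 1, 2, 0, 3, 0, 2, 1, 2, 1, 3, 0, 2, 0, 2, 0, 3, 0, 3, 0, 3, 1, 2, 1, 2, 1, 3, 1, 3, 1, 2, 0, 3, 0, 3, 1, 2, 1, 2, 0, 3, 0, 2, 1, 2, 1, 3, 0, 2, 0, 2, 0, 3, 0, 3, 0, 3, 1, 2, 1, 2, 1, 3, 1, 3, 1, 2, 0, 3, 0, 3, 1, 2, 1, 2, 0, 3, 0, 2, 1, 2, 1, 3, 0, 2, 0, 2, 0, 3, 0, 3, 0, 3, 1, 2, 1, 2, 1, 3, 1, 3, 1, 2, 0, 3, 0, 3, 1, 2, 1, 2, 0, 3, 0, 2, 1, 2, 1, 3, 0, 2, 0, 2, 0, 3], 0, true),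
    ([0, 2, 0, 2, 0, 3, 0, 3, 0, 3, 1, 2, 1, 2, 1, 3, 1, 3, 1, 2, 0, 3, 0, 3, 1, 2, 1, 2, 0, 3, 0, 2, 1, 2, 1, 3, 0, 2, 0, 2, 0, 3, 0, 3, 0, 3, 1, 2, 1, 2, 1, 3, 1, 3, 1, 2, 0, 3, 0, 3, 1, 2, 1, 2, 0, 3, 0, 2, 1, 2, 1, 3, 0, 2, 0, 2, 0, 3, 0, 3, 0, 3, 1, 2, 1, 2, 1, 3, 1, 3, 1, 2, 0, 3, 0, 3, 1, 2, 1, 2, 0, 3, 0, 2, 1, 2, 1, 3, 0, 2, 0, 2, 0, 3, 0, 3, 0, 3, 1, 2, 1, 2, 1, 3, 1, 3, 1, 2, 0, 3, 0, 3, 1, 2, 1, 2, 0, 3, 0, 2, 1, 2, 1, 3, 0, 2, 0, 2], 0, true),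
    ([0, 2, 0, 2, 0, 3, 0, 3, 0, 3, 1, 2, 1, 2, 1, 3, 1, 3, 1, 2, 0, 3, 0, 3, 1, 2, 1, 2, 0, 3, 0, 2, 1, 2, 1, 3, 0, 2, 0, 2, 0, 3, 0, 3, 0, 3, 1, 2, 1, 2, 1, 3, 1, 3, 1, 2, 0, 3, 0, 3, 1, 2, 1, 2, 0, 3, 0, 2, 1, 2, 1, 3, 0, 2, 0, 2, 0, 3, 0, 3, 0, 3, 1, 2, 1, 2, 1, 3, 1, 3, 1, 2, 0, 3, 0, 3, 1, 2, 1, 2, 0, 3, 0, 2, 1, 2, 1, 3, 0, 2, 0, 2, 0, 3, 0, 3, 0, 3, 1, 2, 1, 2, 1, 3, 1, 3, 1, 2, 0, 3, 0, 3, 1, 2, 1, 2, 0, 3, 0, 2, 1, 2, 1, 3, 0, 2], 0, true),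
    ([0, 2, 0, 2, 0, 3, 0, 3, 0, 3, 1, 2, 1, 2, 1, 3, 1, 3, 1, 2, 0, 3, 0, 3, 1, 2, 1, 2, 0, 3, 0, 2, 1, 2, 1, 3, 0, 2, 0, 2, 0, 3, 0, 3, 0, 3, 1, 2, 1, 2, 1, 3, 1, 3, 1, 2, 0, 3, 0, 3, 1, 2, 1, 2, 0, 3, 0, 2, 1, 2, 1, 3, 0, 2, 0, 2, 0, 3, 0, 3, 0, 3, 1, 2, 1, 2, 1, 3, 1, 3, 1, 2, 0, 3, 0, 3, 1, 2, 1, 2, 0, 3, 0, 2, 1, 2, 1, 3, 0, 2, 0, 2, 0, 3, 0, 3, 0, 3, 1, 2, 1, 2, 1, 3, 1, 3, 1, 2, 0, 3, 0, 3, 1, 2, 1, 2, 0, 3, 0, 2, 1, 2, 1, 3], 0, true),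
    ([0, 2, 0, 2, 0, 3, 0, 3, 0, 3, 1, 2, 1, 2, 1, 3, 1, 3, 1, 2, 0, 3, 0, 3, 1, 2, 1, 2, 0, 3, 0, 2, 1, 2, 1, 3, 0, 2, 0, 2, 0, 3, 0, 3, 0, 3, 1, 2, 1, 2, 1, 3, 1, 3, 1, 2, 0, 3, 0, 3, 1, 2, 1, 2, 0, 3, 0, 2, 1, 2, 1, 3, 0, 2, 0, 2, 0, 3, 0, 3, 0, 3, 1, 2, 1, 2, 1, 3, 1, 3, 1, 2, 0, 3, 0, 3, 1, 2, 1, 2, 0, 3, 0, 2, 1, 2, 1, 3, 0, 2, 0, 2, 0, 3, 0, 3, 0, 3, 1, 2, 1, 2, 1, 3, 1, 3, 1, 2, 0, 3, 0, 3, 1, 2, 1, 2, 0, 3], 0, true),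
    ([0, 2, 0, 2, 0, 3, 0, 3, 0, 3, 1, 2, 1, 2, 1, 3, 1, 3, 1, 2, 0, 3, 0, 3, 1, 2, 1, 2, 0, 3, 0, 2, 1, 2, 1, 3, 0, 2, 0, 2, 0, 3, 0, 3, 0, 3, 1, 2, 1, 2, 1, 3, 1, 3, 1, 2, 0, 3, 0, 3, 1, 2, 1, 2, 0, 3, 0, 2, 1, 2, 1, 3, 0, 2, 0, 2, 0, 3, 0, 3, 0, 3, 1, 2, 1, 2, 1, 3, 1, 3, 1, 2, 0, 3, 0, 3, 1, 2, 1, 2, 0, 3, 0, 2, 1, 2, 1, 3, 0, 2, 0, 2, 0, 3, 0, 3, 0, 3, 1, 2, 1, 2, 1, 3, 1, 3, 1, 2, 0, 3, 0, 3, 1, 2, 1, 2], 0, true),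
    ([0, 2, 0, 2, 0, 3, 0, 3, 0, 3, 1, 2, 1, 2, 1, 3, 1, 3, 1, 2, 0, 3, 0, 3, 1, 2, 1, 2, 0, 3, 0, 2, 1, 2, 1, 3, 0, 2, 0, 2, 0, 3, 0, 3, 0, 3, 1, 2, 1, 2, 1, 3, 1, 3, 1, 2, 0, 3, 0, 3, 1, 2, 1, 2, 0, 3, 0, 2, 1, 2, 1, 3, 0, 2, 0, 2, 0, 3, 0, 3, 0, 3, 1, 2, 1, 2, 1, 3, 1, 3, 1, 2, 0, 3, 0, 3, 1, 2, 1, 2, 0, 3, 0, 2, 1, 2, 1, 3, 0, 2, 0, 2, 0, 3, 0, 3, 0, 3, 1, 2, 1, 2, 1, 3, 1, 3, 1, 2, 0, 3, 0, 3, 1], 6, false),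
    ([0, 2, 0, 2, 0, 3, 0, 3, 0, 3, 1, 2, 1, 2, 1, 3, 1, 3, 1, 2, 0, 3, 0, 3, 1, 2, 1, 2, 0, 3, 0, 2, 1, 2, 1, 3, 0, 2, 0, 2, 0, 3, 0, 3, 0, 3, 1, 2, 1, 2, 1, 3, 1, 3, 1, 2, 0, 3, 0, 3, 1, 2, 1, 2, 0, 3, 0, 2, 1, 2, 1, 3, 0, 2, 0, 2, 0, 3, 0, 3, 0, 3, 1, 2, 1, 2, 1, 3, 1, 3, 1, 2, 0, 3, 0, 3, 1, 2, 1, 2, 0, 3, 0, 2, 1, 2, 1, 3, 0, 2, 0, 2, 0, 3, 0, 3, 0, 3, 1, 2, 1, 2, 1, 3, 1, 3, 1, 2, 0, 3], 0, true),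
    ([0, 2, 0, 2, 0, 3, 0, 3, 0, 3, 1, 2, 1, 2, 1, 3, 1, 3, 1, 2, 0, 3, 0, 3, 1, 2, 1, 2, 0, 3, 0, 2, 1, 2, 1, 3, 0, 2, 0, 2, 0, 3, 0, 3, 0, 3, 1, 2, 1, 2, 1, 3, 1, 3, 1, 2, 0, 3, 0, 3, 1, 2, 1, 2, 0, 3, 0, 2, 1, 2, 1, 3, 0, 2, 0, 2, 0, 3, 0, 3, 0, 3, 1, 2, 1, 2, 1, 3, 1, 3, 1, 2, 0, 3, 0, 3, 1, 2, 1, 2, 0, 3, 0, 2, 1, 2, 1, 3, 0, 2, 0, 2, 0, 3, 0, 3, 0, 3, 1, 2, 1, 2, 1, 3, 1, 3, 1, 2], 0, true),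
    ([0, 2, 0, 2, 0, 3, 0, 3, 0, 3, 1, 2, 1, 2, 1, 3, 1, 3, 1, 2, 0, 3, 0, 3, 1, 2, 1, 2, 0, 3, 0, 2, 1, 2, 1, 3, 0, 2, 0, 2, 0, 3, 0, 3, 0, 3, 1, 2, 1, 2, 1, 3, 1, 3, 1, 2, 0, 3, 0, 3, 1, 2, 1, 2, 0, 3, 0, 2, 1, 2, 1, 3, 0, 2, 0, 2, 0, 3, 0, 3, 0, 3, 1, 2, 1, 2, 1, 3, 1, 3, 1, 2, 0, 3, 0, 3, 1, 2, 1, 2, 0, 3, 0, 2, 1, 2, 1, 3, 0, 2, 0, 2, 0, 3, 0, 3, 0, 3, 1, 2], 1, true),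
    ([0, 2, 0, 2, 0, 3, 0, 3, 0, 3, 1, 2, 1, 2, 1, 3, 1, 3, 1, 2, 0, 3, 0, 3, 1, 2, 1, 2, 0, 3, 0, 2, 1, 2, 1, 3, 0, 2, 0, 2, 0, 3, 0, 3, 0, 3, 1, 2, 1, 2, 1, 3, 1, 3, 1, 2, 0, 3, 0, 3, 1, 2, 1, 2, 0, 3, 0, 2, 1, 2, 1, 3, 0, 2, 0, 2, 0, 3, 0, 3, 0, 3, 1, 2, 1, 2, 1, 3, 1, 3, 1, 2, 0, 3, 0, 3, 1, 2, 1, 2, 0, 3, 0, 2, 1, 2, 1, 3, 0, 2, 0, 2, 0, 3, 0, 3], 0, true),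
    ([0, 2, 0, 2, 0, 3, 0, 3, 0, 3, 1, 2, 1, 2, 1, 3, 1, 3, 1, 2, 0, 3, 0, 3, 1, 2, 1, 2, 0, 3, 0, 2, 1, 2, 1, 3, 0, 2, 0, 2, 0, 3, 0, 3, 0, 3, 1, 2, 1, 2, 1, 3, 1, 3, 1, 2, 0, 3, 0, 3, 1, 2, 1, 2, 0, 3, 0, 2, 1, 2, 1, 3, 0, 2, 0, 2, 0, 3, 0, 3, 0, 3, 1, 2, 1, 2, 1, 3, 1, 3, 1, 2, 0, 3, 0, 3, 1, 2, 1, 2, 0, 3, 0, 2, 1, 2, 1, 3, 0, 2, 0, 2, 0, 3, 0], 1, false),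
    ([0, 2, 0, 2, 0, 3, 0, 3, 0, 3, 1, 2, 1, 2, 1, 3, 1, 3, 1, 2, 0, 3, 0, 3, 1, 2, 1, 2, 0, 3, 0, 2, 1, 2, 1, 3, 0, 2, 0, 2, 0, 3, 0, 3, 0, 3, 1, 2, 1, 2, 1, 3, 1, 3, 1, 2, 0, 3, 0, 3, 1, 2, 1, 2, 0, 3, 0, 2, 1, 2, 1, 3, 0, 2, 0, 2, 0, 3, 0, 3, 0, 3, 1, 2, 1, 2, 1, 3, 1, 3, 1, 2, 0, 3, 0, 3, 1, 2, 1, 2, 0, 3, 0, 2, 1, 2, 1, 3, 0, 2, 0, 2, 0, 3, 0, 2], 0, false),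
    ([0, 2, 0, 2, 0, 3, 0, 3, 0, 3, 1, 2, 1, 2, 1, 3, 1, 3, 1, 2, 0, 3, 0, 3, 1, 2, 1, 2, 0, 3, 0, 2, 1, 2, 1, 3, 0, 2, 0, 2, 0, 3, 0, 3, 0, 3, 1, 2, 1, 2, 1, 3, 1, 3, 1, 2, 0, 3, 0, 3, 1, 2, 1, 2, 0, 3, 0, 2, 1, 2, 1, 3, 0, 2, 0, 2, 0, 3, 0, 3, 0, 3, 1, 2, 1, 2, 1, 3, 1, 3, 1, 2, 0, 3, 0, 3, 1, 2, 1, 2, 0, 3, 0, 2, 1, 2, 1, 3, 0, 2, 0, 2, 0, 3, 0, 2], 0, true),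
    ([0, 2, 0, 2, 0, 3, 0, 3, 0, 3, 1, 2, 1, 2, 1, 3, 1, 3, 1, 2, 0, 3, 0, 3, 1, 2, 1, 2, 0, 3, 0, 2, 1, 2, 1, 3, 0, 2, 0, 2, 0, 3, 0, 3, 0, 3, 1, 2, 1, 2, 1, 3, 1, 3, 1, 2, 0, 3, 0, 3, 1, 2, 1, 2, 0, 3, 0, 2, 1, 2, 1, 3, 0, 2, 0, 2, 0, 3, 0, 3, 0, 3, 1, 2, 1, 2, 1, 3, 1, 3, 1, 2, 0, 3, 0, 3, 1, 2, 1, 2, 0, 3, 0, 2, 1, 2, 1, 3, 0, 2, 0, 2, 0, 3], 0, true),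
    ([0, 2, 0, 2, 0, 3, 0, 3, 0, 3, 1, 2, 1, 2, 1, 3, 1, 3, 1, 2, 0, 3, 0, 3, 1, 2, 1, 2, 0, 3, 0, 2, 1, 2, 1, 3, 0, 2, 0, 2, 0, 3, 0, 3, 0, 3, 1, 2, 1, 2, 1, 3, 1, 3, 1, 2, 0, 3, 0, 3, 1, 2, 1, 2, 0, 3, 0, 2, 1, 2, 1, 3, 0, 2, 0, 2, 0, 3, 0, 3, 0, 3, 1, 2, 1, 2, 1, 3, 1, 3, 1, 2, 0, 3, 0, 3, 1, 2, 1, 2, 0, 3, 0, 2, 1, 2, 1, 3, 0, 2, 0, 2], 0, true),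
    ([0, 2, 0, 2, 0, 3, 0, 3, 0, 3, 1, 2, 1, 2, 1, 3, 1, 3, 1, 2, 0, 3, 0, 3, 1, 2, 1, 2, 0, 3, 0, 2, 1, 2, 1, 3, 0, 2, 0, 2, 0, 3, 0, 3, 0, 3, 1, 2, 1, 2, 1, 3, 1, 3, 1, 2, 0, 3, 0, 3, 1, 2, 1, 2, 0, 3, 0, 2, 1, 2, 1, 3, 0, 2, 0, 2, 0, 3, 0, 3, 0, 3, 1, 2, 1, 2, 1, 3, 1, 3, 1, 2, 0, 3, 0, 3, 1, 2, 1, 2, 0, 3, 0, 2, 1, 2, 1, 3, 0, 2], 0, true),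
    ([0, 2, 0, 2, 0, 3, 0, 3, 0, 3, 1, 2, 1, 2, 1, 3, 1, 3, 1, 2, 0, 3, 0, 3, 1, 2, 1, 2, 0, 3, 0, 2, 1, 2, 1, 3, 0, 2, 0, 2, 0, 3, 0, 3, 0, 3, 1, 2, 1, 2, 1, 3, 1, 3, 1, 2, 0, 3, 0, 3, 1, 2, 1, 2, 0, 3, 0, 2, 1, 2, 1, 3, 0, 2, 0, 2, 0, 3, 0, 3, 0, 3, 1, 2, 1, 2, 1, 3, 1, 3, 1, 2, 0, 3, 0, 3, 1, 2, 1, 2, 0, 3, 0, 2, 1, 2, 1, 3], 0, true),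
    ([0, 2, 0, 2, 0, 3, 0, 3, 0, 3, 1, 2, 1, 2, 1, 3, 1, 3, 1, 2, 0, 3, 0, 3, 1, 2, 1, 2, 0, 3, 0, 2, 1, 2, 1, 3, 0, 2, 0, 2, 0, 3, 0, 3, 0, 3, 1, 2, 1, 2, 1, 3, 1, 3, 1, 2, 0, 3, 0, 3, 1, 2, 1, 2, 0, 3, 0, 2, 1, 2, 1, 3, 0, 2, 0, 2, 0, 3, 0, 3, 0, 3, 1, 2, 1, 2, 1, 3, 1, 3, 1, 2, 0, 3, 0, 3, 1, 2, 1, 2, 0, 3], 0, true),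
    ([0, 2, 0, 2, 0, 3, 0, 3, 0, 3, 1, 2, 1, 2, 1, 3, 1, 3, 1, 2, 0, 3, 0, 3, 1, 2, 1, 2, 0, 3, 0, 2, 1, 2, 1, 3, 0, 2, 0, 2, 0, 3, 0, 3, 0, 3, 1, 2, 1, 2, 1, 3, 1, 3, 1, 2, 0, 3, 0, 3, 1, 2, 1, 2, 0, 3, 0, 2, 1, 2, 1, 3, 0, 2, 0, 2, 0, 3, 0, 3, 0, 3, 1, 2, 1, 2, 1, 3, 1, 3, 1, 2, 0, 3, 0, 3, 1, 2, 1, 2], 0, true),
    ([0, 2, 0, 2, 0, 3, 0, 3, 0, 3, 1, 2, 1, 2, 1, 3, 1, 3, 1, 2, 0, 3, 0, 3, 1, 2, 1, 2, 0, 3, 0, 2, 1, 2, 1, 3, 0, 2, 0, 2, 0, 3, 0, 3, 0, 3, 1, 2, 1, 2, 1, 3, 1, 3, 1, 2, 0, 3, 0, 3, 1, 2, 1, 2, 0, 3, 0, 2, 1, 2, 1, 3, 0, 2, 0, 2, 0, 3, 0, 3, 0, 3, 1, 2, 1, 2, 1, 3, 1, 3, 1, 2, 0, 3, 0, 3, 1], 6, false),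
    ([0, 2, 0, 2, 0, 3, 0, 3, 0, 3, 1, 2, 1, 2, 1, 3, 1, 3, 1, 2, 0, 3, 0, 3, 1, 2, 1, 2, 0, 3, 0, 2, 1, 2, 1, 3, 0, 2, 0, 2, 0, 3, 0, 3, 0, 3, 1, 2, 1, 2, 1, 3, 1, 3, 1, 2, 0, 3, 0, 3, 1, 2, 1, 2, 0, 3, 0, 2, 1, 2, 1, 3, 0, 2, 0, 2, 0, 3, 0, 3, 0, 3, 1, 2, 1, 2, 1, 3, 1, 3, 1, 2, 0, 3], 0, true),
    ([0, 2, 0, 2, 0, 3, 0, 3, 0, 3, 1, 2, 1, 2, 1, 3, 1, 3, 1, 2, 0, 3, 0, 3, 1, 2, 1, 2, 0, 3, 0, 2, 1, 2, 1, 3, 0, 2, 0, 2, 0, 3, 0, 3, 0, 3, 1, 2, 1, 2, 1, 3, 1, 3, 1, 2, 0, 3, 0, 3, 1, 2, 1, 2, 0, 3, 0, 2, 1, 2, 1, 3, 0, 2, 0, 2, 0, 3, 0, 3, 0, 3, 1, 2, 1, 2, 1, 3, 1, 3, 1, 2], 0, true),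
    ([0, 2, 0, 2, 0, 3, 0, 3, 0, 3, 1, 2, 1, 2, 1, 3, 1, 3, 1, 2, 0, 3, 0, 3, 1, 2, 1, 2, 0, 3, 0, 2, 1, 2, 1, 3, 0, 2, 0, 2, 0, 3, 0, 3, 0, 3, 1, 2, 1, 2, 1, 3, 1, 3, 1, 2, 0, 3, 0, 3, 1, 2, 1, 2, 0, 3, 0, 2, 1, 2, 1, 3, 0, 2, 0, 2, 0, 3, 0, 3, 0, 3, 1, 2], 1, true),
    ([0, 2, 0, 2, 0, 3, 0, 3, 0, 3, 1, 2, 1, 2, 1, 3, 1, 3, 1, 2, 0, 3, 0, 3, 1, 2, 1, 2, 0, 3, 0, 2, 1, 2, 1, 3, 0, 2, 0, 2, 0, 3, 0, 3, 0, 3, 1, 2, 1, 2, 1, 3, 1, 3, 1, 2, 0, 3, 0, 3, 1, 2, 1, 2, 0, 3, 0, 2, 1, 2, 1, 3, 0, 2, 0, 2, 0, 3, 0, 3], 0, true),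
    ([0, 2, 0, 2, 0, 3, 0, 3, 0, 3, 1, 2, 1, 2, 1, 3, 1, 3, 1, 2, 0, 3, 0, 3, 1, 2, 1, 2, 0, 3, 0, 2, 1, 2, 1, 3, 0, 2, 0, 2, 0, 3, 0, 3, 0, 3, 1, 2, 1, 2, 1, 3, 1, 3, 1, 2, 0, 3, 0, 3, 1, 2, 1, 2, 0, 3, 0, 2, 1, 2, 1, 3, 0, 2, 0, 2, 0, 3, 0], 1, false),
    ([0, 2, 0, 2, 0, 3, 0, 3, 0, 3, 1, 2, 1, 2, 1, 3, 1, 3, 1, 2, 0, 3, 0, 3, 1, 2, 1, 2, 0, 3, 0, 2, 1, 2, 1, 3, 0, 2, 0, 2, 0, 3, 0, 3, 0, 3, 1, 2, 1, 2, 1, 3, 1, 3, 1, 2, 0, 3, 0, 3, 1, 2, 1, 2, 0, 3, 0, 2, 1, 2, 1, 3, 0, 2, 0, 2, 0, 3, 0, 2], 0, false),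
    ([0, 2, 0, 2, 0, 3, 0, 3, 0, 3, 1, 2, 1, 2, 1, 3, 1, 3, 1, 2, 0, 3, 0, 3, 1, 2, 1, 2, 0, 3, 0, 2, 1, 2, 1, 3, 0, 2, 0, 2, 0, 3, 0, 3, 0, 3, 1, 2, 1, 2, 1, 3, 1, 3, 1, 2, 0, 3, 0, 3, 1, 2, 1, 2, 0, 3, 0, 2, 1, 2, 1, 3, 0, 2, 0, 2, 0, 3, 0, 2], 0, true),
    ([0, 2, 0, 2, 0, 3, 0, 3, 0, 3, 1, 2, 1, 2, 1, 3, 1, 3, 1, 2, 0, 3, 0, 3, 1, 2, 1, 2, 0, 3, 0, 2, 1, 2, 1, 3, 0, 2, 0, 2, 0, 3, 0, 3, 0, 3, 1, 2, 1, 2, 1, 3, 1, 3, 1, 2, 0, 3, 0, 3, 1, 2, 1, 2, 0, 3, 0, 2, 1, 2, 1, 3, 0, 2, 0, 2, 0, 3], 0, true),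
    ([0, 2, 0, 2, 0, 3, 0, 3, 0, 3, 1, 2, 1, 2, 1, 3, 1, 3, 1, 2, 0, 3, 0, 3, 1, 2, 1, 2, 0, 3, 0, 2, 1, 2, 1, 3, 0, 2, 0, 2, 0, 3, 0, 3, 0, 3, 1, 2, 1, 2, 1, 3, 1, 3, 1, 2, 0, 3, 0, 3, 1, 2, 1, 2, 0, 3, 0, 2, 1, 2, 1, 3, 0, 2, 0, 2], 0, true),
    ([0, 2, 0, 2, 0, 3, 0, 3, 0, 3, 1, 2, 1, 2, 1, 3, 1, 3, 1, 2, 0, 3, 0, 3, 1, 2, 1, 2, 0, 3, 0, 2, 1, 2, 1, 3, 0, 2, 0, 2, 0, 3, 0, 3, 0, 3, 1, 2, 1, 2, 1, 3, 1, 3, 1, 2, 0, 3, 0, 3, 1, 2, 1, 2, 0, 3, 0, 2, 1, 2, 1, 3, 0, 2], 0, true),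
    ([0, 2, 0, 2, 0, 3, 0, 3, 0, 3, 1, 2, 1, 2, 1, 3, 1, 3, 1, 2, 0, 3, 0, 3, 1, 2, 1, 2, 0, 3, 0, 2, 1, 2, 1, 3, 0, 2, 0, 2, 0, 3, 0, 3, 0, 3, 1, 2, 1, 2, 1, 3, 1, 3, 1, 2, 0, 3, 0, 3, 1, 2, 1, 2, 0, 3, 0, 2, 1, 2, 1, 3], 0, true),
    ([0, 2, 0, 2, 0, 3, 0, 3, 0, 3, 1, 2, 1, 2, 1, 3, 1, 3, 1, 2, 0, 3, 0, 3, 1, 2, 1, 2, 0, 3, 0, 2, 1, 2, 1, 3, 0, 2, 0, 2, 0, 3, 0, 3, 0, 3, 1, 2, 1, 2, 1, 3, 1, 3, 1, 2, 0, 3, 0, 3, 1, 2, 1, 2, 0, 3], 0, true),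
    ([0, 2, 0, 2, 0, 3, 0, 3, 0, 3, 1, 2, 1, 2, 1, 3, 1, 3, 1, 2, 0, 3, 0, 3, 1, 2, 1, 2, 0, 3, 0, 2, 1, 2, 1, 3, 0, 2, 0, 2, 0, 3, 0, 3, 0, 3, 1, 2, 1, 2, 1, 3, 1, 3, 1, 2, 0, 3, 0, 3, 1, 2, 1, 2], 0, true),
    ([0, 2, 0, 2, 0, 3, 0, 3, 0, 3, 1, 2, 1, 2, 1, 3, 1, 3, 1, 2, 0, 3, 0, 3, 1, 2, 1, 2, 0, 3, 0, 2, 1, 2, 1, 3, 0, 2, 0, 2, 0, 3, 0, 3, 0, 3, 1, 2, 1, 2, 1, 3, 1, 3, 1, 2, 0, 3, 0, 3, 1], 6, false),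
    ([0, 2, 0, 2, 0, 3, 0, 3, 0, 3, 1, 2, 1, 2, 1, 3, 1, 3, 1, 2, 0, 3, 0, 3, 1, 2, 1, 2, 0, 3, 0, 2, 1, 2, 1, 3, 0, 2, 0, 2, 0, 3, 0, 3, 0, 3, 1, 2, 1, 2, 1, 3, 1, 3, 1, 2, 0, 3], 0, true),
    ([0, 2, 0, 2, 0, 3, 0, 3, 0, 3, 1, 2, 1, 2, 1, 3, 1, 3, 1, 2, 0, 3, 0, 3, 1, 2, 1, 2, 0, 3, 0, 2, 1, 2, 1, 3, 0, 2, 0, 2, 0, 3, 0, 3, 0, 3, 1, 2, 1, 2, 1, 3, 1, 3, 1, 2], 0, true),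
    ([0, 2, 0, 2, 0, 3, 0, 3, 0, 3, 1, 2, 1, 2, 1, 3, 1, 3, 1, 2, 0, 3, 0, 3, 1, 2, 1, 2, 0, 3, 0, 2, 1, 2, 1, 3, 0, 2, 0, 2, 0, 3, 0, 3, 0, 3, 1, 2], 1, true),
    ([0, 2, 0, 2, 0, 3, 0, 3, 0, 3, 1, 2, 1, 2, 1, 3, 1, 3, 1, 2, 0, 3, 0, 3, 1, 2, 1, 2, 0, 3, 0, 2, 1, 2, 1, 3, 0, 2, 0, 2, 0, 3, 0, 3], 0, true),
    ([0, 2, 0, 2, 0, 3, 0, 3, 0, 3, 1, 2, 1, 2, 1, 3, 1, 3, 1, 2, 0, 3, 0, 3, 1, 2, 1, 2, 0, 3, 0, 2, 1, 2, 1, 3, 0, 2, 0, 2, 0, 3, 0], 1, false),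
    ([0, 2, 0, 2, 0, 3, 0, 3, 0, 3, 1, 2, 1, 2, 1, 3, 1, 3, 1, 2, 0, 3, 0, 3, 1, 2, 1, 2, 0, 3, 0, 2, 1, 2, 1, 3, 0, 2, 0, 2, 0, 3, 0, 2], 0, false),
    ([0, 2, 0, 2, 0, 3, 0, 3, 0, 3, 1, 2, 1, 2, 1, 3, 1, 3, 1, 2, 0, 3, 0, 3, 1, 2, 1, 2, 0, 3, 0, 2, 1, 2, 1, 3, 0, 2, 0, 2, 0, 3, 0, 2], 0, true),
    ([0, 2, 0, 2, 0, 3, 0, 3, 0, 3, 1, 2, 1, 2, 1, 3, 1, 3, 1, 2, 0, 3, 0, 3, 1, 2, 1, 2, 0, 3, 0, 2, 1, 2, 1, 3, 0, 2, 0, 2, 0, 3], 0, true),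
    ([0, 2, 0, 2, 0, 3, 0, 3, 0, 3, 1, 2, 1, 2, 1, 3, 1, 3, 1, 2, 0, 3, 0, 3, 1, 2, 1, 2, 0, 3, 0, 2, 1, 2, 1, 3, 0, 2, 0, 2], 0, true),
    ([0, 2, 0, 2, 0, 3, 0, 3, 0, 3, 1, 2, 1, 2, 1, 3, 1, 3, 1, 2, 0, 3, 0, 3, 1, 2, 1, 2, 0, 3, 0, 2, 1, 2, 1, 3, 0, 2], 0, true),
    ([0, 2, 0, 2, 0, 3, 0, 3, 0, 3, 1, 2, 1, 2, 1, 3, 1, 3, 1, 2, 0, 3, 0, 3, 1, 2, 1, 2, 0, 3, 0, 2, 1, 2, 1, 3], 0, true),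
    ([0, 2, 0, 2, 0, 3, 0, 3, 0, 3, 1, 2, 1, 2, 1, 3, 1, 3, 1, 2, 0, 3, 0, 3, 1, 2, 1, 2, 0, 3], 0, true),
    ([0, 2, 0, 2, 0, 3, 0, 3, 0, 3, 1, 2, 1, 2, 1, 3, 1, 3, 1, 2, 0, 3, 0, 3, 1, 2, 1, 2], 0, true),
    ([0, 2, 0, 2, 0, 3, 0, 3, 0, 3, 1, 2, 1, 2, 1, 3, 1, 3, 1, 2, 0, 3, 0, 3, 1], 6, false),
    ([0, 2, 0, 2, 0, 3, 0, 3, 0, 3, 1, 2, 1, 2, 1, 3, 1, 3, 1, 2, 0, 3], 0, true),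
    ([0, 2, 0, 2, 0, 3, 0, 3, 0, 3, 1, 2, 1, 2, 1, 3, 1, 3, 1, 2], 0, true),
    ([0, 2, 0, 2, 0, 3, 0, 3, 0, 3, 1, 2], 1, true),
    ([0, 2, 0, 2, 0, 3, 0, 3], 0, true),
    ([0, 2, 0, 2, 0, 3, 0, 3], 4, true)]

/-- The conjugates of relators for relation 11. -/
def conj11 : List (List ℕ × ℕ × Bool) :=
  [([0, 3, 0, 3, 1, 2, 1, 3, 0, 3, 0, 2, 1, 2, 1, 3, 0, 2, 0, 2, 0, 3, 0, 3, 0, 3, 1, 2, 1, 2, 1, 3, 1, 3, 3, 0, 3, 3, 1, 2, 1, 3, 0, 3, 0, 2, 1, 2, 1, 3, 0, 2, 0, 2, 0, 3, 0, 3, 0, 3, 1, 2, 1, 2, 1, 3, 1, 3, 3, 0, 3, 1, 2, 1], 0, false),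
    ([0, 3, 0, 3, 1, 2, 1, 3, 0, 3, 0, 2, 1, 2, 1, 3, 0, 2, 0, 2, 0, 3, 0, 3, 0, 3, 1, 2, 1, 2, 1, 3, 1, 3, 3, 0, 3, 3, 1, 2, 1, 3, 0, 3, 0, 2, 1, 2, 1, 3, 0, 2, 0, 2, 0, 3, 0, 3, 0, 3, 1, 2, 1, 2, 1, 3, 1, 3, 3, 0, 3, 1], 0, false),
    ([0, 3, 0, 3, 1, 2, 1, 3, 0, 3, 0, 2, 1, 2, 1, 3, 0, 2, 0, 2, 0, 3, 0, 3, 0, 3, 1, 2, 1, 2, 1, 3, 1, 3, 3, 0, 3, 3, 1, 2, 1, 3, 0, 3, 0, 2, 1, 2, 1, 3, 0, 2, 0, 2, 0, 3, 0, 3, 0, 3, 1, 2, 1, 2, 1, 3, 1, 3], 1, false),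
    ([0, 3, 0, 3, 1, 2, 1, 3, 0, 3, 0, 2, 1, 2, 1, 3, 0, 2, 0, 2, 0, 3, 0, 3, 0, 3, 1, 2, 1, 2, 1, 3, 1, 3, 3, 0, 3, 3, 1, 2, 1, 3, 0, 3, 0, 2, 1, 2, 1, 3, 0, 2, 0, 2, 0, 3, 0, 3, 0, 3, 1, 2, 1, 2, 1, 3, 1], 0, false),
    ([0, 3, 0, 3, 1, 2, 1, 3, 0, 3, 0, 2, 1, 2, 1, 3, 0, 2, 0, 2, 0, 3, 0, 3, 0, 3, 1, 2, 1, 2, 1, 3, 1, 3, 3, 0, 3, 3, 1, 2, 1, 3, 0, 3, 0, 2, 1, 2, 1, 3, 0, 2, 0, 2, 0, 3, 0, 3, 0, 3, 1, 2, 1, 2, 1], 0, false),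
    ([0, 3, 0, 3, 1, 2, 1, 3, 0, 3, 0, 2, 1, 2, 1, 3, 0, 2, 0, 2, 0, 3, 0, 3, 0, 3, 1, 2, 1, 2, 1, 3, 1, 3, 3, 0, 3, 3, 1, 2, 1, 3, 0, 3, 0, 2, 1, 2, 1, 3, 0, 2, 0, 2, 0, 3, 0, 3, 0, 3, 1, 2, 1], 0, false),
    ([0, 3, 0, 3, 1, 2, 1, 3, 0, 3, 0, 2, 1, 2, 1, 3, 0, 2, 0, 2, 0, 3, 0, 3, 0, 3, 1, 2, 1, 2, 1, 3, 1, 3, 3, 0, 3, 3, 1, 2, 1, 3, 0, 3, 0, 2, 1, 2, 1, 3, 0, 2, 0, 2, 0, 3, 0, 3, 0, 3, 1], 0, false),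
    ([0, 3, 0, 3, 1, 2, 1, 3, 0, 3, 0, 2, 1, 2, 1, 3, 0, 2, 0, 2, 0, 3, 0, 3, 0, 3, 1, 2, 1, 2, 1, 3, 1, 3, 3, 0, 3, 3, 1, 2, 1, 3, 0, 3, 0, 2, 1, 2, 1, 3, 0, 2, 0, 2, 0, 3, 0], 1, false),
    ([0, 3, 0, 3, 1, 2, 1, 3, 0, 3, 0, 2, 1, 2, 1, 3, 0, 2, 0, 2, 0, 3, 0, 3, 0, 3, 1, 2, 1, 2, 1, 3, 1, 3, 3, 0, 3, 3, 1, 2, 1, 3, 0, 3, 0, 2, 1, 2, 1, 3, 0, 2, 0, 2, 0, 3, 0, 2], 0, false),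
    ([0, 3, 0, 3, 1, 2, 1, 3, 0, 3, 0, 2, 1, 2, 1, 3, 0, 2, 0, 2, 0, 3, 0, 3, 0, 3, 1, 2, 1, 2, 1, 3, 1, 3, 3, 0, 3, 3, 1, 2, 1, 3, 0, 3, 0, 2, 1, 2, 1], 0, false),
    ([0, 3, 0, 3, 1, 2, 1, 3, 0, 3, 0, 2, 1, 2, 1, 3, 0, 2, 0, 2, 0, 3, 0, 3, 0, 3, 1, 2, 1, 2, 1, 3, 1, 3, 3, 0, 3, 3, 1, 2, 1, 3, 0, 3, 0, 2, 1], 0, false),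
    ([0, 3, 0, 3, 1, 2, 1, 3, 0, 3, 0, 2, 1, 2, 1, 3, 0, 2, 0, 2, 0, 3, 0, 3, 0, 3, 1, 2, 1, 2, 1, 3, 1, 3, 3, 0, 3, 3, 1, 2, 1, 3, 0, 3], 6, true),
    ([0, 3, 0, 3, 1, 2, 1, 3, 0, 3, 0, 2, 1, 2, 1, 3, 0, 2, 0, 2, 0, 3, 0, 3, 0, 3, 1, 2, 1, 2, 1, 3, 1, 3, 3, 0, 3, 3, 1, 2, 1], 0, false),
    ([0, 3, 0, 3, 1, 2, 1, 3, 0, 3, 0, 2, 1, 2, 1, 3, 0, 2, 0, 2, 0, 3, 0, 3, 0, 3, 1, 2, 1, 2, 1, 3, 1, 3, 3, 0, 3, 3, 1], 0, false),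
    ([0, 3, 0, 3, 1, 2, 1, 3, 0, 3, 0, 2, 1, 2, 1, 3, 0, 2, 0, 2, 0, 3, 0, 3, 0, 3, 1, 2, 1, 2, 1, 3, 1, 3, 3, 0, 3, 1, 2, 1, 3], 0, false),
    ([0, 3, 0, 3, 1, 2, 1, 3, 0, 3, 0, 2, 1, 2, 1, 3, 0, 2, 0, 2, 0, 3, 0, 3, 0, 3, 1, 2, 1, 2, 1, 3, 1, 3, 3, 0, 3, 1, 2, 1, 3, 0, 2], 0, false),
    ([0, 3, 0, 3, 1, 2, 1, 3, 0, 3, 0, 2, 1, 2, 1, 3, 0, 2, 0, 2, 0, 3, 0, 3, 0, 3, 1, 2, 1, 2, 1, 3, 1, 3, 3, 0, 3, 1, 2, 1, 3, 0, 2, 0, 2], 0, false),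
    ([0, 3, 0, 3, 1, 2, 1, 3, 0, 3, 0, 2, 1, 2, 1, 3, 0, 2, 0, 2, 0, 3, 0, 3, 0, 3, 1, 2, 1, 2, 1, 3, 1, 3, 3, 0, 3, 1, 2, 1, 3, 0, 2, 0, 2, 0, 3], 0, false),
    ([0, 3, 0, 3, 1, 2, 1, 3, 0, 3, 0, 2, 1, 2, 1, 3, 0, 2, 0, 2, 0, 3, 0, 3, 0, 3, 1, 2, 1, 2, 1, 3, 1, 3, 3, 0, 3, 1, 2, 1, 3, 0, 2, 0, 2, 0, 3, 0, 2], 0, false),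
    ([0, 3, 0, 3, 1, 2, 1, 3, 0, 3, 0, 2, 1, 2, 1, 3, 0, 2, 0, 2, 0, 3, 0, 3, 0, 3, 1, 2, 1, 2, 1, 3, 1, 3, 3, 0, 3, 1, 2, 1], 0, false),
    ([0, 3, 0, 3, 1, 2, 1, 3, 0, 3, 0, 2, 1, 2, 1, 3, 0, 2, 0, 2, 0, 3, 0, 3, 0, 3, 1, 2, 1, 2, 1, 3, 1, 3, 3, 0, 3, 1], 0, false),
    ([0, 3, 0, 3, 1, 2, 1, 3, 0, 3, 0, 2, 1, 2, 1, 3, 0, 2, 0, 2, 0, 3, 0, 3, 0, 3, 1, 2, 1, 2, 1, 3, 1, 3], 1, false),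
    ([0, 3, 0, 3, 1, 2, 1, 3, 0, 3, 0, 2, 1, 2, 1, 3, 0, 2, 0, 2, 0, 3, 0, 3, 0, 3, 1, 2, 1, 2, 1, 3, 1], 0, false),
    ([0, 3, 0, 3, 1, 2, 1, 3, 0, 3, 0, 2, 1, 2, 1, 3, 0, 2, 0, 2, 0, 3, 0, 3, 0, 3, 1, 2, 1, 2, 1], 0, false),
    ([0, 3, 0, 3, 1, 2, 1, 3, 0, 3, 0, 2, 1, 2, 1, 3, 0, 2, 0, 2, 0, 3, 0, 3, 0, 3, 1, 2, 1], 0, false),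
    ([0, 3, 0, 3, 1, 2, 1, 3, 0, 3, 0, 2, 1, 2, 1, 3, 0, 2, 0, 2, 0, 3, 0, 3, 0, 3, 1], 0, false),
    ([0, 3, 0, 3, 1, 2, 1, 3, 0, 3, 0, 2, 1, 2, 1, 3, 0, 2, 0, 2, 0, 3, 0], 1, false),
    ([0, 3, 0, 3, 1, 2, 1, 3, 0, 3, 0, 2, 1, 2, 1, 3, 0, 2, 0, 2, 0, 3, 0, 2], 0, false),
    ([0, 3, 0, 3, 1, 2, 1, 3, 0, 3, 0, 2, 1, 2, 1], 0, false),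
    ([0, 3, 0, 3, 1, 2, 1, 3, 0, 3, 0, 2, 1], 0, false),
    ([0, 3, 0, 3, 1, 2, 1, 3, 0, 3], 6, true),
    ([0, 3, 0, 3, 1, 2, 1], 0, false),
    ([0, 3, 0, 3, 1], 0, false),
    ([3], 0, false),
    ([3, 0, 2], 0, false),
    ([3, 0, 2, 0, 2], 0, false),
    ([3, 0, 2, 0, 2, 0, 3], 0, false),
    ([3, 0, 2, 0, 2, 0, 3, 0, 2], 0, false),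
    ([3], 5, true)]

/-- The conjugates of relators for relation 12. -/
def conj12 : List (List ℕ × ℕ × Bool) :=
  [([2, 0, 2, 0, 3, 0, 2, 1, 2, 2, 0, 3, 0, 3, 0, 3, 1, 2, 1, 2, 1, 3, 1, 3, 1, 2, 0, 2, 0, 3, 0, 3, 1, 2, 1, 3, 3, 0, 3, 1, 2, 2, 0, 3, 0, 3, 1, 2, 1, 3, 1, 2, 0, 2, 0, 3, 0, 2, 1, 2, 2, 0, 3, 0, 3, 0, 3, 1, 2, 1, 2, 1, 3, 1, 3, 1, 2, 0, 2, 0, 3, 0, 3, 1, 2, 1, 3, 3, 0, 3, 1, 2, 2, 0, 3, 0, 3, 1, 2, 1], 0, false),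
    ([2, 0, 2, 0, 3, 0, 2, 1, 2, 2, 0, 3, 0, 3, 0, 3, 1, 2, 1, 2, 1, 3, 1, 3, 1, 2, 0, 2, 0, 3, 0, 3, 1, 2, 1, 3, 3, 0, 3, 1, 2, 2, 0, 3, 0, 3, 1, 2, 1, 3, 1, 2, 0, 2, 0, 3, 0, 2, 1, 2, 2, 0, 3, 0, 3, 0, 3, 1, 2, 1, 2, 1, 3, 1, 3, 1, 2, 0, 2, 0, 3, 0, 3, 1, 2, 1, 3, 3, 0, 3, 1, 2, 2, 0, 3, 0, 3, 1], 0, false),
    ([2, 0, 2, 0, 3, 0, 2, 1, 2, 2, 0, 3, 0, 3, 0, 3, 1, 2, 1, 2, 1, 3, 1, 3, 1, 2, 0, 2, 0, 3, 0, 3, 1, 2, 1, 3, 3, 0, 3, 1, 2, 2, 0, 3, 0, 3, 1, 2, 1, 3, 1, 2, 0, 2, 0, 3, 0, 2, 1, 2, 2, 0, 3, 0, 3, 0, 3, 1, 2, 1, 2, 1, 3, 1, 3, 1, 2, 0, 2, 0, 3, 0, 3, 1, 2, 1, 3, 3, 0, 3, 1, 2, 2, 0], 1, false),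
    ([2, 0, 2, 0, 3, 0, 2, 1, 2, 2, 0, 3, 0, 3, 0, 3, 1, 2, 1, 2, 1, 3, 1, 3, 1, 2, 0, 2, 0, 3, 0, 3, 1, 2, 1, 3, 3, 0, 3, 1, 2, 2, 0, 3, 0, 3, 1, 2, 1, 3, 1, 2, 0, 2, 0, 3, 0, 2, 1, 2, 2, 0, 3, 0, 3, 0, 3, 1, 2, 1, 2, 1, 3, 1, 3, 1, 2, 0, 2, 0, 3, 0, 3, 1, 2, 1, 3, 3, 0, 3, 1, 2, 2, 0, 2], 0, false),
    ([2, 0, 2, 0, 3, 0, 2, 1, 2, 2, 0, 3, 0, 3, 0, 3, 1, 2, 1, 2, 1, 3, 1, 3, 1, 2, 0, 2, 0, 3, 0, 3, 1, 2, 1, 3, 3, 0, 3, 1, 2, 2, 0, 3, 0, 3, 1, 2, 1, 3, 1, 2, 0, 2, 0, 3, 0, 2, 1, 2, 2, 0, 3, 0, 3, 0, 3, 1, 2, 1, 2, 1, 3, 1, 3, 1, 2, 0, 2, 0, 3, 0, 3, 1, 2, 1, 3, 3, 0, 3, 1, 2, 2, 0, 2, 0, 2], 0, false),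
    ([2, 0, 2, 0, 3, 0, 2, 1, 2, 2, 0, 3, 0, 3, 0, 3, 1, 2, 1, 2, 1, 3, 1, 3, 1, 2, 0, 2, 0, 3, 0, 3, 1, 2, 1, 3, 3, 0, 3, 1, 2, 2, 0, 3, 0, 3, 1, 2, 1, 3, 1, 2, 0, 2, 0, 3, 0, 2, 1, 2, 2, 0, 3, 0, 3, 0, 3, 1, 2, 1, 2, 1, 3, 1, 3, 1, 2, 0, 2, 0, 3, 0, 3, 1, 2, 1, 3, 3, 0, 3, 1, 2, 2, 0, 2, 0, 2, 0, 3], 0, false),
    ([2, 0, 2, 0, 3, 0, 2, 1, 2, 2, 0, 3, 0, 3, 0, 3, 1, 2, 1, 2, 1, 3, 1, 3, 1, 2, 0, 2, 0, 3, 0, 3, 1, 2, 1, 3, 3, 0, 3, 1, 2, 2, 0, 3, 0, 3, 1, 2, 1, 3, 1, 2, 0, 2, 0, 3, 0, 2, 1, 2, 2, 0, 3, 0, 3, 0, 3, 1, 2, 1, 2, 1, 3, 1, 3, 1, 2, 0, 2, 0, 3, 0, 3, 1, 2, 1, 3, 3, 0, 3, 1, 2, 2, 0, 2, 0, 2, 0, 3], 0, true),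
    ([2, 0, 2, 0, 3, 0, 2, 1, 2, 2, 0, 3, 0, 3, 0, 3, 1, 2, 1, 2, 1, 3, 1, 3, 1, 2, 0, 2, 0, 3, 0, 3, 1, 2, 1, 3, 3, 0, 3, 1, 2, 2, 0, 3, 0, 3, 1, 2, 1, 3, 1, 2, 0, 2, 0, 3, 0, 2, 1, 2, 2, 0, 3, 0, 3, 0, 3, 1, 2, 1, 2, 1, 3, 1, 3, 1, 2, 0, 2, 0, 3, 0, 3, 1, 2, 1, 3, 3, 0, 3, 1, 2, 2, 0, 2, 0, 2], 0, true),
    ([2, 0, 2, 0, 3, 0, 2, 1, 2, 2, 0, 3, 0, 3, 0, 3, 1, 2, 1, 2, 1, 3, 1, 3, 1, 2, 0, 2, 0, 3, 0, 3, 1, 2, 1, 3, 3, 0, 3, 1, 2, 2, 0, 3, 0, 3, 1, 2, 1, 3, 1, 2, 0, 2, 0, 3, 0, 2, 1, 2, 2, 0, 3, 0, 3, 0, 3, 1, 2, 1, 2, 1, 3, 1, 3, 1, 2, 0, 2, 0, 3, 0, 3, 1, 2, 1, 3, 3, 0, 3, 1, 2], 1, true),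
    ([2, 0, 2, 0, 3, 0, 2, 1, 2, 2, 0, 3, 0, 3, 0, 3, 1, 2, 1, 2, 1, 3, 1, 3, 1, 2, 0, 2, 0, 3, 0, 3, 1, 2, 1, 3, 3, 0, 3, 1, 2, 2, 0, 3, 0, 3, 1, 2, 1, 3, 1, 2, 0, 2, 0, 3, 0, 2, 1, 2, 2, 0, 3, 0, 3, 0, 3, 1, 2, 1, 2, 1, 3, 1, 3, 1, 2, 0, 2, 0, 3, 0, 3, 1, 2, 1, 3, 3], 0, true),
    ([2, 0, 2, 0, 3, 0, 2, 1, 2, 2, 0, 3, 0, 3, 0, 3, 1, 2, 1, 2, 1, 3, 1, 3, 1, 2, 0, 2, 0, 3, 0, 3, 1, 2, 1, 3, 3, 0, 3, 1, 2, 2, 0, 3, 0, 3, 1, 2, 1, 3, 1, 2, 0, 2, 0, 3, 0, 2, 1, 2, 2, 0, 3, 0, 3, 0, 3, 1, 2, 1, 2, 1, 3, 1, 3, 1, 2, 0, 2, 0, 3, 0, 3, 1, 2, 1, 3], 1, false),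
    ([2, 0, 2, 0, 3, 0, 2, 1, 2, 2, 0, 3, 0, 3, 0, 3, 1, 2, 1, 2, 1, 3, 1, 3, 1, 2, 0, 2, 0, 3, 0, 3, 1, 2, 1, 3, 3, 0, 3, 1, 2, 2, 0, 3, 0, 3, 1, 2, 1, 3, 1, 2, 0, 2, 0, 3, 0, 2, 1, 2, 2, 0, 3, 0, 3, 0, 3, 1, 2, 1, 2, 1, 3, 1, 3, 1, 2, 0, 2, 0, 3, 0, 3, 1, 2, 1], 0, false),
    ([2, 0, 2, 0, 3, 0, 2, 1, 2, 2, 0, 3, 0, 3, 0, 3, 1, 2, 1, 2, 1, 3, 1, 3, 1, 2, 0, 2, 0, 3, 0, 3, 1, 2, 1, 3, 3, 0, 3, 1, 2, 2, 0, 3, 0, 3, 1, 2, 1, 3, 1, 2, 0, 2, 0, 3, 0, 2, 1, 2, 2, 0, 3, 0, 3, 0, 3, 1, 2, 1, 2, 1, 3, 1, 3, 1, 2, 0, 2, 0, 3, 0, 3, 1], 0, false),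
    ([2, 0, 2, 0, 3, 0, 2, 1, 2, 2, 0, 3, 0, 3, 0, 3, 1, 2, 1, 2, 1, 3, 1, 3, 1, 2, 0, 2, 0, 3, 0, 3, 1, 2, 1, 3, 3, 0, 3, 1, 2, 2, 0, 3, 0, 3, 1, 2, 1, 3, 1, 2, 0, 2, 0, 3, 0, 2, 1, 2, 2, 0, 3, 0, 3, 0, 3, 1, 2, 1, 2, 1, 3, 1, 3, 1, 2, 0, 2, 0, 3], 0, true),
    ([2, 0, 2, 0, 3, 0, 2, 1, 2, 2, 0, 3, 0, 3, 0, 3, 1, 2, 1, 2, 1, 3, 1, 3, 1, 2, 0, 2, 0, 3, 0, 3, 1, 2, 1, 3, 3, 0, 3, 1, 2, 2, 0, 3, 0, 3, 1, 2, 1, 3, 1, 2, 0, 2, 0, 3, 0, 2, 1, 2, 2, 0, 3, 0, 3, 0, 3, 1, 2, 1, 2, 1, 3, 1, 3, 1, 2, 0, 2], 0, true),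
    ([2, 0, 2, 0, 3, 0, 2, 1, 2, 2, 0, 3, 0, 3, 0, 3, 1, 2, 1, 2, 1, 3, 1, 3, 1, 2, 0, 2, 0, 3, 0, 3, 1, 2, 1, 3, 3, 0, 3, 1, 2, 2, 0, 3, 0, 3, 1, 2, 1, 3, 1, 2, 0, 2, 0, 3, 0, 2, 1, 2, 2, 0, 3, 0, 3, 0, 3, 1, 2, 1, 2, 1, 3, 1, 3, 1, 2, 0, 2], 4, true),
    ([2, 0, 2, 0, 3, 0, 2, 1, 2, 2, 0, 3, 0, 3, 0, 3, 1, 2, 1, 2, 1, 3, 1, 3, 1, 2, 0, 2, 0, 3, 0, 3, 1, 2, 1, 3, 3, 0, 3, 1, 2, 2, 0, 3, 0, 3, 1, 2, 1, 3, 1, 2, 0, 2, 0, 3, 0, 2, 1, 2, 2, 0, 3, 0, 3, 0, 3, 1, 2, 1, 2, 1, 3, 1, 3, 1], 0, false),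
    ([2, 0, 2, 0, 3, 0, 2, 1, 2, 2, 0, 3, 0, 3, 0, 3, 1, 2, 1, 2, 1, 3, 1, 3, 1, 2, 0, 2, 0, 3, 0, 3, 1, 2, 1, 3, 3, 0, 3, 1, 2, 2, 0, 3, 0, 3, 1, 2, 1, 3, 1, 2, 0, 2, 0, 3, 0, 2, 1, 2, 2, 0, 3, 0, 3, 0, 3, 1, 2, 1], 0, false),
    ([2, 0, 2, 0, 3, 0, 2, 1, 2, 2, 0, 3, 0, 3, 0, 3, 1, 2, 1, 2, 1, 3, 1, 3, 1, 2, 0, 2, 0, 3, 0, 3, 1, 2, 1, 3, 3, 0, 3, 1, 2, 2, 0, 3, 0, 3, 1, 2, 1, 3, 1, 2, 0, 2, 0, 3, 0, 2, 1, 2, 2, 0, 3, 0, 3, 0, 3, 1], 0, false),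
    ([2, 0, 2, 0, 3, 0, 2, 1, 2, 2, 0, 3, 0, 3, 0, 3, 1, 2, 1, 2, 1, 3, 1, 3, 1, 2, 0, 2, 0, 3, 0, 3, 1, 2, 1, 3, 3, 0, 3, 1, 2, 2, 0, 3, 0, 3, 1, 2, 1, 3, 1, 2, 0, 2, 0, 3, 0, 2, 1, 2, 2, 0, 3, 0, 3], 0, true),
    ([2, 0, 2, 0, 3, 0, 2, 1, 2, 2, 0, 3, 0, 3, 0, 3, 1, 2, 1, 2, 1, 3, 1, 3, 1, 2, 0, 2, 0, 3, 0, 3, 1, 2, 1, 3, 3, 0, 3, 1, 2, 2, 0, 3, 0, 3, 1, 2, 1, 3, 1, 2, 0, 2, 0, 3, 0, 2, 1, 2, 2, 0, 3], 0, true),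
    ([2, 0, 2, 0, 3, 0, 2, 1, 2, 2, 0, 3, 0, 3, 0, 3, 1, 2, 1, 2, 1, 3, 1, 3, 1, 2, 0, 2, 0, 3, 0, 3, 1, 2, 1, 3, 3, 0, 3, 1, 2, 2, 0, 3, 0, 3, 1, 2, 1, 3, 1, 2, 0, 2, 0, 3, 0, 2, 1, 2, 2, 0], 1, false),
    ([2, 0, 2, 0, 3, 0, 2, 1, 2, 2, 0, 3, 0, 3, 0, 3, 1, 2, 1, 2, 1, 3, 1, 3, 1, 2, 0, 2, 0, 3, 0, 3, 1, 2, 1, 3, 3, 0, 3, 1, 2, 2, 0, 3, 0, 3, 1, 2, 1, 3, 1, 2, 0, 2, 0, 3, 0, 2, 1, 2, 2, 0, 2], 0, false),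
    ([2, 0, 2, 0, 3, 0, 2, 1, 2, 2, 0, 3, 0, 3, 0, 3, 1, 2, 1, 2, 1, 3, 1, 3, 1, 2, 0, 2, 0, 3, 0, 3, 1, 2, 1, 3, 3, 0, 3, 1, 2, 2, 0, 3, 0, 3, 1, 2, 1, 3, 1, 2, 0, 2, 0, 3, 0, 2, 1, 2, 2, 0, 2, 0, 3], 0, false),
    ([2, 0, 2, 0, 3, 0, 2, 1, 2, 2, 0, 3, 0, 3, 0, 3, 1, 2, 1, 2, 1, 3, 1, 3, 1, 2, 0, 2, 0, 3, 0, 3, 1, 2, 1, 3, 3, 0, 3, 1, 2, 2, 0, 3, 0, 3, 1, 2, 1, 3, 1, 2, 0, 2, 0, 3, 0, 2, 1, 2], 1, true),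
    ([2, 0, 2, 0, 3, 0, 2, 1, 2, 2, 0, 3, 0, 3, 0, 3, 1, 2, 1, 2, 1, 3, 1, 3, 1, 2, 0, 2, 0, 3, 0, 3, 1, 2, 1, 3, 3, 0, 3, 1, 2, 2, 0, 3, 0, 3, 1, 2, 1, 3, 1, 2, 0, 2, 0, 3, 0, 2, 1], 0, false),
    ([2, 0, 2, 0, 3, 0, 2, 1, 2, 2, 0, 3, 0, 3, 0, 3, 1, 2, 1, 2, 1, 3, 1, 3, 1, 2, 0, 2, 0, 3, 0, 3, 1, 2, 1, 3, 3, 0, 3, 1, 2, 2, 0, 3, 0, 3, 1, 2, 1, 3, 1], 0, false),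
    ([2, 0, 2, 0, 3, 0, 2, 1, 2, 2, 0, 3, 0, 3, 0, 3, 1, 2, 1, 2, 1, 3, 1, 3, 1, 2, 0, 2, 0, 3, 0, 3, 1, 2, 1, 3, 3, 0, 3, 1, 2, 2, 0, 3, 0, 3, 1, 2, 1], 0, false),
    ([2, 0, 2, 0, 3, 0, 2, 1, 2, 2, 0, 3, 0, 3, 0, 3, 1, 2, 1, 2, 1, 3, 1, 3, 1, 2, 0, 2, 0, 3, 0, 3, 1, 2, 1, 3, 3, 0, 3, 1, 2, 2, 0, 3, 0, 3, 1], 0, false),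
    ([2, 0, 2, 0, 3, 0, 2, 1, 2, 2, 0, 3, 0, 3, 0, 3, 1, 2, 1, 2, 1, 3, 1, 3, 1, 2, 0, 2, 0, 3, 0, 3, 1, 2, 1, 3, 3, 0, 3, 1, 2, 2, 0], 1, false),
    ([2, 0, 2, 0, 3, 0, 2, 1, 2, 2, 0, 3, 0, 3, 0, 3, 1, 2, 1, 2, 1, 3, 1, 3, 1, 2, 0, 2, 0, 3, 0, 3, 1, 2, 1, 3, 3, 0, 3, 1, 2, 2, 0, 2], 0, false),
    ([2, 0, 2, 0, 3, 0, 2, 1, 2, 2, 0, 3, 0, 3, 0, 3, 1, 2, 1, 2, 1, 3, 1, 3, 1, 2, 0, 2, 0, 3, 0, 3, 1, 2, 1, 3, 3, 0, 3, 1, 2, 2, 0, 2, 0, 2], 0, false),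
    ([2, 0, 2, 0, 3, 0, 2, 1, 2, 2, 0, 3, 0, 3, 0, 3, 1, 2, 1, 2, 1, 3, 1, 3, 1, 2, 0, 2, 0, 3, 0, 3, 1, 2, 1, 3, 3, 0, 3, 1, 2, 2, 0, 2, 0, 2, 0, 3], 0, false),
    ([2, 0, 2, 0, 3, 0, 2, 1, 2, 2, 0, 3, 0, 3, 0, 3, 1, 2, 1, 2, 1, 3, 1, 3, 1, 2, 0, 2, 0, 3, 0, 3, 1, 2, 1, 3, 3, 0, 3, 1, 2, 2, 0, 2, 0, 2, 0, 3], 0, true),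
    ([2, 0, 2, 0, 3, 0, 2, 1, 2, 2, 0, 3, 0, 3, 0, 3, 1, 2, 1, 2, 1, 3, 1, 3, 1, 2, 0, 2, 0, 3, 0, 3, 1, 2, 1, 3, 3, 0, 3, 1, 2, 2, 0, 2, 0, 2], 0, true),
    ([2, 0, 2, 0, 3, 0, 2, 1, 2, 2, 0, 3, 0, 3, 0, 3, 1, 2, 1, 2, 1, 3, 1, 3, 1, 2, 0, 2, 0, 3, 0, 3, 1, 2, 1, 3, 3, 0, 3, 1, 2], 1, true),
    ([2, 0, 2, 0, 3, 0, 2, 1, 2, 2, 0, 3, 0, 3, 0, 3, 1, 2, 1, 2, 1, 3, 1, 3, 1, 2, 0, 2, 0, 3, 0, 3, 1, 2, 1, 3, 3], 0, true),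
    ([2, 0, 2, 0, 3, 0, 2, 1, 2, 2, 0, 3, 0, 3, 0, 3, 1, 2, 1, 2, 1, 3, 1, 3, 1, 2, 0, 2, 0, 3, 0, 3, 1, 2, 1, 3], 1, false),
    ([2, 0, 2, 0, 3, 0, 2, 1, 2, 2, 0, 3, 0, 3, 0, 3, 1, 2, 1, 2, 1, 3, 1, 3, 1, 2, 0, 2, 0, 3, 0, 3, 1, 2, 1], 0, false),
    ([2, 0, 2, 0, 3, 0, 2, 1, 2, 2, 0, 3, 0, 3, 0, 3, 1, 2, 1, 2, 1, 3, 1, 3, 1, 2, 0, 2, 0, 3, 0, 3, 1], 0, false),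
    ([2, 0, 2, 0, 3, 0, 2, 1, 2, 2, 0, 3, 0, 3, 0, 3, 1, 2, 1, 2, 1, 3, 1, 3, 1, 2, 0, 2, 0, 3], 0, true),
    ([2, 0, 2, 0, 3, 0, 2, 1, 2, 2, 0, 3, 0, 3, 0, 3, 1, 2, 1, 2, 1, 3, 1, 3, 1, 2, 0, 2], 0, true),
    ([2, 0, 2, 0, 3, 0, 2, 1, 2, 2, 0, 3, 0, 3, 0, 3, 1, 2, 1, 2, 1, 3, 1, 3, 1, 2, 0, 2], 4, true),
    ([2, 0, 2, 0, 3, 0, 2, 1, 2, 2, 0, 3, 0, 3, 0, 3, 1, 2, 1, 2, 1, 3, 1, 3, 1], 0, false),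
    ([2, 0, 2, 0, 3, 0, 2, 1, 2, 2, 0, 3, 0, 3, 0, 3, 1, 2, 1], 0, false),
    ([2, 0, 2, 0, 3, 0, 2, 1, 2, 2, 0, 3, 0, 3, 0, 3, 1], 0, false),
    ([2, 0, 2, 0, 3, 0, 2, 1, 2, 2, 0, 3, 0, 3], 0, true),
    ([2, 0, 2, 0, 3, 0, 2, 1, 2, 2, 0, 3], 0, true),
    ([2, 0, 2, 0, 3, 0, 2, 1, 2, 2, 0], 1, false),
    ([2, 0, 2, 0, 3, 0, 2, 1, 2, 2, 0, 2], 0, false),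
    ([2, 0, 2, 0, 3, 0, 2, 1, 2, 2, 0, 2, 0, 3], 0, false),
    ([2, 0, 2, 0, 3, 0, 2, 1, 2], 1, true),
    ([2, 0, 2, 0, 3, 0, 2, 1], 0, false),
    ([], 0, false),
    ([0], 5, true)]

/-- The conjugates of relators for relation 13. -/
def conj13 : List (List ℕ × ℕ × Bool) :=
  [([0, 2, 0, 2, 0, 3, 0, 3, 0, 3, 1, 2, 1, 2, 1, 3, 1, 3, 1, 2, 0, 2, 0, 3, 0, 3, 1, 2, 1, 3, 3, 0, 3, 1, 2, 2, 0, 2, 0, 2, 0, 2, 0, 2, 0, 2, 2, 0, 2, 1, 3, 1, 3, 1, 3, 1, 3, 3, 0, 2, 1, 2, 2, 0, 3, 0, 2, 1, 2, 1, 3, 1, 3, 0, 2, 0, 2, 0, 3, 0, 3, 0, 2, 1, 2, 1, 2, 1, 3, 3, 0, 3, 1, 2, 1, 3, 3, 0, 3, 1, 2, 1, 3, 0, 2, 0, 3, 0, 2, 1, 2, 1, 3, 1, 2, 0, 3, 0,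 2, 1, 2], 1, true),
    ([0, 2, 0, 2, 0, 3, 0, 3, 0, 3, 1, 2, 1, 2, 1, 3, 1, 3, 1, 2, 0, 2, 0, 3, 0, 3, 1, 2, 1, 3, 3, 0, 3, 1, 2, 2, 0, 2, 0, 2, 0, 2, 0, 2, 0, 2, 2, 0, 2, 1, 3, 1, 3, 1, 3, 1, 3, 3, 0, 2, 1, 2, 2, 0, 3, 0, 2, 1, 2, 1, 3, 1, 3, 0, 2, 0, 2, 0, 3, 0, 3, 0, 2, 1, 2, 1, 2, 1, 3, 3, 0, 3, 1, 2, 1, 3, 3, 0, 3, 1, 2, 1, 3, 0, 2, 0, 3, 0, 2, 1, 2, 1, 3, 1, 2, 0, 3, 0, 2, 1], 0, false),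
    ([0, 2, 0, 2, 0, 3, 0, 3, 0, 3, 1, 2, 1, 2, 1, 3, 1, 3, 1, 2, 0, 2, 0, 3, 0, 3, 1, 2, 1, 3, 3, 0, 3, 1, 2, 2, 0, 2, 0, 2, 0, 2, 0, 2, 0, 2, 2, 0, 2, 1, 3, 1, 3, 1, 3, 1, 3, 3, 0, 2, 1, 2, 2, 0, 3, 0, 2, 1, 2, 1, 3, 1, 3, 0, 2, 0, 2, 0, 3, 0, 3, 0, 2, 1, 2, 1, 2, 1, 3, 3, 0, 3, 1, 2, 1, 3, 3, 0, 3, 1, 2, 1, 3, 0, 2, 0, 3, 0, 2, 1, 2, 1, 3, 1], 0, false),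
    ([0, 2, 0, 2, 0, 3, 0, 3, 0, 3, 1, 2, 1, 2, 1, 3, 1, 3, 1, 2, 0, 2, 0, 3, 0, 3, 1, 2, 1, 3, 3, 0, 3, 1, 2, 2, 0, 2, 0, 2, 0, 2, 0, 2, 0, 2, 2, 0, 2, 1, 3, 1, 3, 1, 3, 1, 3, 3, 0, 2, 1, 2, 2, 0, 3, 0, 2, 1, 2, 1, 3, 1, 3, 0, 2, 0, 2, 0, 3, 0, 3, 0, 2, 1, 2, 1, 2, 1, 3, 3, 0, 3, 1, 2, 1, 3, 3, 0, 3, 1, 2, 1, 3, 0, 2, 0, 3, 0, 2, 1, 2, 1], 0, false),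
    ([0, 2, 0, 2, 0, 3, 0, 3, 0, 3, 1, 2, 1, 2, 1, 3, 1, 3, 1, 2, 0, 2, 0, 3, 0, 3, 1, 2, 1, 3, 3, 0, 3, 1, 2, 2, 0, 2, 0, 2, 0, 2, 0, 2, 0, 2, 2, 0, 2, 1, 3, 1, 3, 1, 3, 1, 3, 3, 0, 2, 1, 2, 2, 0, 3, 0, 2, 1, 2, 1, 3, 1, 3, 0, 2, 0, 2, 0, 3, 0, 3, 0, 2, 1, 2, 1, 2, 1, 3, 3, 0, 3, 1, 2, 1, 3, 3, 0, 3, 1, 2, 1, 3, 0, 2, 0, 3, 0, 2, 1], 0, false),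
    ([0, 2, 0, 2, 0, 3, 0, 3, 0, 3, 1, 2, 1, 2, 1, 3, 1, 3, 1, 2, 0, 2, 0, 3, 0, 3, 1, 2, 1, 3, 3, 0, 3, 1, 2, 2, 0, 2, 0, 2, 0, 2, 0, 2, 0, 2, 2, 0, 2, 1, 3, 1, 3, 1, 3, 1, 3, 3, 0, 2, 1, 2, 2, 0, 3, 0, 2, 1, 2, 1, 3, 1, 3, 0, 2, 0, 2, 0, 3, 0, 3, 0, 2, 1, 2, 1, 2, 1, 3, 3, 0, 3, 1, 2, 1, 3, 3, 0, 3, 1, 2, 1], 0, false),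
    ([0, 2, 0, 2, 0, 3, 0, 3, 0, 3, 1, 2, 1, 2, 1, 3, 1, 3, 1, 2, 0, 2, 0, 3, 0, 3, 1, 2, 1, 3, 3, 0, 3, 1, 2, 2, 0, 2, 0, 2, 0, 2, 0, 2, 0, 2, 2, 0, 2, 1, 3, 1, 3, 1, 3, 1, 3, 3, 0, 2, 1, 2, 2, 0, 3, 0, 2, 1, 2, 1, 3, 1, 3, 0, 2, 0, 2, 0, 3, 0, 3, 0, 2, 1, 2, 1, 2, 1, 3, 3, 0, 3, 1, 2, 1, 3, 3, 0, 3, 1], 0, false),
    ([0, 2, 0, 2, 0, 3, 0, 3, 0, 3, 1, 2, 1, 2, 1, 3, 1, 3, 1, 2, 0, 2, 0, 3, 0, 3, 1, 2, 1, 3, 3, 0, 3, 1, 2, 2, 0, 2, 0, 2, 0, 2, 0, 2, 0, 2, 2, 0, 2, 1, 3, 1, 3, 1, 3, 1, 3, 3, 0, 2, 1, 2, 2, 0, 3, 0, 2, 1, 2, 1, 3, 1, 3, 0, 2, 0, 2, 0, 3, 0, 3, 0, 2, 1, 2, 1, 2, 1, 3, 3, 0, 3, 1, 2, 1, 3], 1, false),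
    ([0, 2, 0, 2, 0, 3, 0, 3, 0, 3, 1, 2, 1, 2, 1, 3, 1, 3, 1, 2, 0, 2, 0, 3, 0, 3, 1, 2, 1, 3, 3, 0, 3, 1, 2, 2, 0, 2, 0, 2, 0, 2, 0, 2, 0, 2, 2, 0, 2, 1, 3, 1, 3, 1, 3, 1, 3, 3, 0, 2, 1, 2, 2, 0, 3, 0, 2, 1, 2, 1, 3, 1, 3, 0, 2, 0, 2, 0, 3, 0, 3, 0, 2, 1, 2, 1, 2, 1, 3, 3, 0, 3, 1, 2, 1], 0, false),
    ([0, 2, 0, 2, 0, 3, 0, 3, 0, 3, 1, 2, 1, 2, 1, 3, 1, 3, 1, 2, 0, 2, 0, 3, 0, 3, 1, 2, 1, 3, 3, 0, 3, 1, 2, 2, 0, 2, 0, 2, 0, 2, 0, 2, 0, 2, 2, 0, 2, 1, 3, 1, 3, 1, 3, 1, 3, 3, 0, 2, 1, 2, 2, 0, 3, 0, 2, 1, 2, 1, 3, 1, 3, 0, 2, 0, 2, 0, 3, 0, 3, 0, 2, 1, 2, 1, 2, 1, 3, 3, 0, 3, 1], 0, false),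
    ([0, 2, 0, 2, 0, 3, 0, 3, 0, 3, 1, 2, 1, 2, 1, 3, 1, 3, 1, 2, 0, 2, 0, 3, 0, 3, 1, 2, 1, 3, 3, 0, 3, 1, 2, 2, 0, 2, 0, 2, 0, 2, 0, 2, 0, 2, 2, 0, 2, 1, 3, 1, 3, 1, 3, 1, 3, 3, 0, 2, 1, 2, 2, 0, 3, 0, 2, 1, 2, 1, 3, 1, 3, 0, 2, 0, 2, 0, 3, 0, 3, 0, 2, 1, 2, 1, 2, 1, 3], 1, false),
    ([0, 2, 0, 2, 0, 3, 0, 3, 0, 3, 1, 2, 1, 2, 1, 3, 1, 3, 1, 2, 0, 2, 0, 3, 0, 3, 1, 2, 1, 3, 3, 0, 3, 1, 2, 2, 0, 2, 0, 2, 0, 2, 0, 2, 0, 2, 2, 0, 2, 1, 3, 1, 3, 1, 3, 1, 3, 3, 0, 2, 1, 2, 2, 0, 3, 0, 2, 1, 2, 1, 3, 1, 3, 0, 2, 0, 2, 0, 3, 0, 3, 0, 2, 1, 2, 1, 2, 1], 0, false),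
    ([0, 2, 0, 2, 0, 3, 0, 3, 0, 3, 1, 2, 1, 2, 1, 3, 1, 3, 1, 2, 0, 2, 0, 3, 0, 3, 1, 2, 1, 3, 3, 0, 3, 1, 2, 2, 0, 2, 0, 2, 0, 2, 0, 2, 0, 2, 2, 0, 2, 1, 3, 1, 3, 1, 3, 1, 3, 3, 0, 2, 1, 2, 2, 0, 3, 0, 2, 1, 2, 1, 3, 1, 3, 0, 2, 0, 2, 0, 3, 0, 3, 0, 2, 1, 2, 1, 2, 2], 0, false),
    ([0, 2, 0, 2, 0, 3, 0, 3, 0, 3, 1, 2, 1, 2, 1, 3, 1, 3, 1, 2, 0, 2, 0, 3, 0, 3, 1, 2, 1, 3, 3, 0, 3, 1, 2, 2, 0, 2, 0, 2, 0, 2, 0, 2, 0, 2, 2, 0, 2, 1, 3, 1, 3, 1, 3, 1, 3, 3, 0, 2, 1, 2, 2, 0, 3, 0, 2, 1, 2, 1, 3, 1, 3, 0, 2, 0, 2, 0, 3, 0, 3, 0, 2, 1, 2, 1, 2, 2, 0, 3], 0, false),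
    ([0, 2, 0, 2, 0, 3, 0, 3, 0, 3, 1, 2, 1, 2, 1, 3, 1, 3, 1, 2, 0, 2, 0, 3, 0, 3, 1, 2, 1, 3, 3, 0, 3, 1, 2, 2, 0, 2, 0, 2, 0, 2, 0, 2, 0, 2, 2, 0, 2, 1, 3, 1, 3, 1, 3, 1, 3, 3, 0, 2, 1, 2, 2, 0, 3, 0, 2, 1, 2, 1, 3, 1, 3, 0, 2, 0, 2, 0, 3, 0, 3, 0, 2, 1, 2, 1, 2, 2, 0, 3], 0, true),
    ([0, 2, 0, 2, 0, 3, 0, 3, 0, 3, 1, 2, 1, 2, 1, 3, 1, 3, 1, 2, 0, 2, 0, 3, 0, 3, 1, 2, 1, 3, 3, 0, 3, 1, 2, 2, 0, 2, 0, 2, 0, 2, 0, 2, 0, 2, 2, 0, 2, 1, 3, 1, 3, 1, 3, 1, 3, 3, 0, 2, 1, 2, 2, 0, 3, 0, 2, 1, 2, 1, 3, 1, 3, 0, 2, 0, 2, 0, 3, 0, 3, 0, 2, 1, 2, 1, 2, 2], 0, true),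
    ([0, 2, 0, 2, 0, 3, 0, 3, 0, 3, 1, 2, 1, 2, 1, 3, 1, 3, 1, 2, 0, 2, 0, 3, 0, 3, 1, 2, 1, 3, 3, 0, 3, 1, 2, 2, 0, 2, 0, 2, 0, 2, 0, 2, 0, 2, 2, 0, 2, 1, 3, 1, 3, 1, 3, 1, 3, 3, 0, 2, 1, 2, 2, 0, 3, 0, 2, 1, 2, 1, 3, 1, 3, 0, 2, 0, 2, 0, 3, 0, 3, 0, 2, 1, 2, 1, 2], 1, true),
    ([0, 2, 0, 2, 0, 3, 0, 3, 0, 3, 1, 2, 1, 2, 1, 3, 1, 3, 1, 2, 0, 2, 0, 3, 0, 3, 1, 2, 1, 3, 3, 0, 3, 1, 2, 2, 0, 2, 0, 2, 0, 2, 0, 2, 0, 2, 2, 0, 2, 1, 3, 1, 3, 1, 3, 1, 3, 3, 0, 2, 1, 2, 2, 0, 3, 0, 2, 1, 2, 1, 3, 1, 3, 0, 2, 0, 2, 0, 3, 0, 3, 0, 2, 1, 2, 1], 0, false),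
    ([0, 2, 0, 2, 0, 3, 0, 3, 0, 3, 1, 2, 1, 2, 1, 3, 1, 3, 1, 2, 0, 2, 0, 3, 0, 3, 1, 2, 1, 3, 3, 0, 3, 1, 2, 2, 0, 2, 0, 2, 0, 2, 0, 2, 0, 2, 2, 0, 2, 1, 3, 1, 3, 1, 3, 1, 3, 3, 0, 2, 1, 2, 2, 0, 3, 0, 2, 1, 2, 1, 3, 1, 3, 0, 2, 0, 2, 0, 3, 0, 3, 0, 2, 1], 0, false),
    ([0, 2, 0, 2, 0, 3, 0, 3, 0, 3, 1, 2, 1, 2, 1, 3, 1, 3, 1, 2, 0, 2, 0, 3, 0, 3, 1, 2, 1, 3, 3, 0, 3, 1, 2, 2, 0, 2, 0, 2, 0, 2, 0, 2, 0, 2, 2, 0, 2, 1, 3, 1, 3, 1, 3, 1, 3, 3, 0, 2, 1, 2, 2, 0, 3, 0, 2, 1, 2, 1, 3, 1, 3, 0, 2, 0, 2, 0, 3, 0, 3], 0, true),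
    ([0, 2, 0, 2, 0, 3, 0, 3, 0, 3, 1, 2, 1, 2, 1, 3, 1, 3, 1, 2, 0, 2, 0, 3, 0, 3, 1, 2, 1, 3, 3, 0, 3, 1, 2, 2, 0, 2, 0, 2, 0, 2, 0, 2, 0, 2, 2, 0, 2, 1, 3, 1, 3, 1, 3, 1, 3, 3, 0, 2, 1, 2, 2, 0, 3, 0, 2, 1, 2, 1, 3, 1, 3, 0, 2, 0, 2, 0, 3], 0, true),
    ([0, 2, 0, 2, 0, 3, 0, 3, 0, 3, 1, 2, 1, 2, 1, 3, 1, 3, 1, 2, 0, 2, 0, 3, 0, 3, 1, 2, 1, 3, 3, 0, 3, 1, 2, 2, 0, 2, 0, 2, 0, 2, 0, 2, 0, 2, 2, 0, 2, 1, 3, 1, 3, 1, 3, 1, 3, 3, 0, 2, 1, 2, 2, 0, 3, 0, 2, 1, 2, 1, 3, 1, 3], 0, true),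
    ([0, 2, 0, 2, 0, 3, 0, 3, 0, 3, 1, 2, 1, 2, 1, 3, 1, 3, 1, 2, 0, 2, 0, 3, 0, 3, 1, 2, 1, 3, 3, 0, 3, 1, 2, 2, 0, 2, 0, 2, 0, 2, 0, 2, 0, 2, 2, 0, 2, 1, 3, 1, 3, 1, 3, 1, 3, 3, 0, 2, 1, 2, 2, 0, 3, 0, 2, 1, 2, 1], 4, false),
    ([0, 2, 0, 2, 0, 3, 0, 3, 0, 3, 1, 2, 1, 2, 1, 3, 1, 3, 1, 2, 0, 2, 0, 3, 0, 3, 1, 2, 1, 3, 3, 0, 3, 1, 2, 2, 0, 2, 0, 2, 0, 2, 0, 2, 0, 2, 2, 0, 2, 1, 3, 1, 3, 1, 3, 1, 3, 3, 0, 2, 1, 2, 2, 0, 3, 0, 2, 1, 2, 1], 0, false),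
    ([0, 2, 0, 2, 0, 3, 0, 3, 0, 3, 1, 2, 1, 2, 1, 3, 1, 3, 1, 2, 0, 2, 0, 3, 0, 3, 1, 2, 1, 3, 3, 0, 3, 1, 2, 2, 0, 2, 0, 2, 0, 2, 0, 2, 0, 2, 2, 0, 2, 1, 3, 1, 3, 1, 3, 1, 3, 3, 0, 2, 1, 2, 2, 0, 3, 0, 2, 1], 0, false),
    ([0, 2, 0, 2, 0, 3, 0, 3, 0, 3, 1, 2, 1, 2, 1, 3, 1, 3, 1, 2, 0, 2, 0, 3, 0, 3, 1, 2, 1, 3, 3, 0, 3, 1, 2, 2, 0, 2, 0, 2, 0, 2, 0, 2, 0, 2, 2, 0, 2, 1, 3, 1, 3, 1, 3, 1, 3, 3, 0, 2, 1, 2, 2, 0, 3], 0, true),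
    ([0, 2, 0, 2, 0, 3, 0, 3, 0, 3, 1, 2, 1, 2, 1, 3, 1, 3, 1, 2, 0, 2, 0, 3, 0, 3, 1, 2, 1, 3, 3, 0, 3, 1, 2, 2, 0, 2, 0, 2, 0, 2, 0, 2, 0, 2, 2, 0, 2, 1, 3, 1, 3, 1, 3, 1, 3, 3, 0, 2, 1, 2, 2], 0, true),
    ([0, 2, 0, 2, 0, 3, 0, 3, 0, 3, 1, 2, 1, 2, 1, 3, 1, 3, 1, 2, 0, 2, 0, 3, 0, 3, 1, 2, 1, 3, 3, 0, 3, 1, 2, 2, 0, 2, 0, 2, 0, 2, 0, 2, 0, 2, 2, 0, 2, 1, 3, 1, 3, 1, 3, 1, 3, 3, 0, 2, 1, 2], 1, true),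
    ([0, 2, 0, 2, 0, 3, 0, 3, 0, 3, 1, 2, 1, 2, 1, 3, 1, 3, 1, 2, 0, 2, 0, 3, 0, 3, 1, 2, 1, 3, 3, 0, 3, 1, 2, 2, 0, 2, 0, 2, 0, 2, 0, 2, 0, 2, 2, 0, 2, 1, 3, 1, 3, 1, 3, 1, 3, 3, 0, 2, 1], 0, false),
    ([0, 2, 0, 2, 0, 3, 0, 3, 0, 3, 1, 2, 1, 2, 1, 3, 1, 3, 1, 2, 0, 2, 0, 3, 0, 3, 1, 2, 1, 3, 3, 0, 3, 1, 2, 2, 0, 2, 0, 2, 0, 2, 0, 2, 0, 2, 2, 0, 2, 1, 3, 1, 3, 1, 3, 1, 3], 1, false),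
    ([0, 2, 0, 2, 0, 3, 0, 3, 0, 3, 1, 2, 1, 2, 1, 3, 1, 3, 1, 2, 0, 2, 0, 3, 0, 3, 1, 2, 1, 3, 3, 0, 3, 1, 2, 2, 0, 2, 0, 2, 0, 2, 0, 2, 0, 2, 2, 0, 2, 1, 3, 1], 0, false),
    ([0, 2, 0, 2, 0, 3, 0, 3, 0, 3, 1, 2, 1, 2, 1, 3, 1, 3, 1, 2, 0, 2, 0, 3, 0, 3, 1, 2, 1, 3, 3, 0, 3, 1, 2, 2, 0, 2, 0, 2, 0, 2, 0, 2, 0, 2, 2, 0, 2, 1, 3, 3], 0, false),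
    ([0, 2, 0, 2, 0, 3, 0, 3, 0, 3, 1, 2, 1, 2, 1, 3, 1, 3, 1, 2, 0, 2, 0, 3, 0, 3, 1, 2, 1, 3, 3, 0, 3, 1, 2, 2, 0, 2, 0, 2, 0, 2, 0, 2, 0, 2, 2, 0, 2, 1, 3], 1, false),
    ([0, 2, 0, 2, 0, 3, 0, 3, 0, 3, 1, 2, 1, 2, 1, 3, 1, 3, 1, 2, 0, 2, 0, 3, 0, 3, 1, 2, 1, 3, 3, 0, 3, 1, 2, 2, 0, 2, 0, 2, 0, 2, 0, 2, 0, 2, 2, 0, 2, 1], 0, false),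
    ([0, 2, 0, 2, 0, 3, 0, 3, 0, 3, 1, 2, 1, 2, 1, 3, 1, 3, 1, 2, 0, 2, 0, 3, 0, 3, 1, 2, 1, 3, 3, 0, 3, 1, 2, 2, 0, 2, 0, 2, 0, 2, 0, 2, 0, 2], 1, true),
    ([0, 2, 0, 2, 0, 3, 0, 3, 0, 3, 1, 2, 1, 2, 1, 3, 1, 3, 1, 2, 0, 2, 0, 3, 0, 3, 1, 2, 1, 3, 3, 0, 3, 1, 2, 2, 0, 2, 0, 2, 0], 1, true),
    ([0, 2, 0, 2, 0, 3, 0, 3, 0, 3, 1, 2, 1, 2, 1, 3, 1, 3, 1, 2, 0, 2, 0, 3, 0, 3, 1, 2, 1, 3, 3, 0, 3, 1, 2, 2, 0, 2, 0, 2, 0, 3], 0, false),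
    ([0, 2, 0, 2, 0, 3, 0, 3, 0, 3, 1, 2, 1, 2, 1, 3, 1, 3, 1, 2, 0, 2, 0, 3, 0, 3, 1, 2, 1, 3, 3, 0, 3, 1, 2, 2, 0, 2, 0, 2, 0, 3], 0, true),
    ([0, 2, 0, 2, 0, 3, 0, 3, 0, 3, 1, 2, 1, 2, 1, 3, 1, 3, 1, 2, 0, 2, 0, 3, 0, 3, 1, 2, 1, 3, 3, 0, 3, 1, 2, 2, 0, 2, 0, 2], 0, true),
    ([0, 2, 0, 2, 0, 3, 0, 3, 0, 3, 1, 2, 1, 2, 1, 3, 1, 3, 1, 2, 0, 2, 0, 3, 0, 3, 1, 2, 1, 3, 3, 0, 3, 1, 2], 1, true),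
    ([0, 2, 0, 2, 0, 3, 0, 3, 0, 3, 1, 2, 1, 2, 1, 3, 1, 3, 1, 2, 0, 2, 0, 3, 0, 3, 1, 2, 1, 3, 3], 0, true),
    ([0, 2, 0, 2, 0, 3, 0, 3, 0, 3, 1, 2, 1, 2, 1, 3, 1, 3, 1, 2, 0, 2, 0, 3, 0, 3, 1, 2, 1, 3], 1, false),
    ([0, 2, 0, 2, 0, 3, 0, 3, 0, 3, 1, 2, 1, 2, 1, 3, 1, 3, 1, 2, 0, 2, 0, 3, 0, 3, 1, 2, 1], 0, false),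
    ([0, 2, 0, 2, 0, 3, 0, 3, 0, 3, 1, 2, 1, 2, 1, 3, 1, 3, 1, 2, 0, 2, 0, 3, 0, 3, 1], 0, false),
    ([0, 2, 0, 2, 0, 3, 0, 3, 0, 3, 1, 2, 1, 2, 1, 3, 1, 3, 1, 2, 0, 2, 0, 3], 0, true),
    ([0, 2, 0, 2, 0, 3, 0, 3, 0, 3, 1, 2, 1, 2, 1, 3, 1, 3, 1, 2, 0, 2], 0, true),
    ([0, 2, 0, 2, 0, 3, 0, 3, 0, 3, 1, 2, 1, 2, 1, 3, 1, 3, 1, 2, 0, 2], 4, true),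
    ([0, 2, 0, 2, 0, 3, 0, 3, 0, 3, 1, 2, 1, 2, 1, 3, 1, 3, 1], 0, false),
    ([0, 2, 0, 2, 0, 3, 0, 3, 0, 3, 1, 2, 1], 0, false),
    ([0, 2, 0, 2, 0, 3, 0, 3, 0, 3, 1], 0, false),
    ([0, 2, 0, 2, 0, 3, 0, 3], 0, true),
    ([0, 2, 0, 2, 0, 3], 0, true),
    ([0, 2, 0, 2, 0], 1, false),
    ([0, 2, 0, 2, 0, 2], 0, false),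
    ([0, 2, 0, 2, 0, 2, 0, 3], 0, false),
    ([0, 2], 5, true)]

/-- The conjugates of relators for relation 14. -/
def conj14 : List (List ℕ × ℕ × Bool) :=
  [([0, 3, 0, 2, 1, 2, 1, 3, 0, 2, 0, 3, 0, 2, 1, 2, 2, 0, 2, 0, 2, 0, 3, 1, 3, 3, 1, 3, 1, 3, 1, 3, 1, 3, 1, 3, 3, 0, 2, 1, 2, 2, 0, 3, 0, 2, 1, 2, 1, 3, 1, 3, 0, 2, 0, 2, 0, 3, 0, 3, 0, 2, 2, 1, 2, 1, 2, 1, 3, 1, 3, 1, 2, 0, 3, 0, 3, 1, 2, 1, 2, 0, 3, 0, 2, 1, 2, 1, 3, 0, 2, 0, 3, 0, 3, 1, 2, 1, 3, 1], 0, false),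
    ([0, 3, 0, 2, 1, 2, 1, 3, 0, 2, 0, 3, 0, 2, 1, 2, 2, 0, 2, 0, 2, 0, 3, 1, 3, 3, 1, 3, 1, 3, 1, 3, 1, 3, 1, 3, 3, 0, 2, 1, 2, 2, 0, 3, 0, 2, 1, 2, 1, 3, 1, 3, 0, 2, 0, 2, 0, 3, 0, 3, 0, 2, 2, 1, 2, 1, 2, 1, 3, 1, 3, 1, 2, 0, 3, 0, 3, 1, 2, 1, 2, 0, 3, 0, 2, 1, 2, 1, 3, 0, 2, 0, 3, 0, 3, 1, 2, 1], 0, false),
    ([0, 3, 0, 2, 1, 2, 1, 3, 0, 2, 0, 3, 0, 2, 1, 2, 2, 0, 2, 0, 2, 0, 3, 1, 3, 3, 1, 3, 1, 3, 1, 3, 1, 3, 1, 3, 3, 0, 2, 1, 2, 2, 0, 3, 0, 2, 1, 2, 1, 3, 1, 3, 0, 2, 0, 2, 0, 3, 0, 3, 0, 2, 2, 1, 2, 1, 2, 1, 3, 1, 3, 1, 2, 0, 3, 0, 3, 1, 2, 1, 2, 0, 3, 0, 2, 1, 2, 1, 3, 0, 2, 0, 3, 0, 3, 1], 0, false),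
    ([0, 3, 0, 2, 1, 2, 1, 3, 0, 2, 0, 3, 0, 2, 1, 2, 2, 0, 2, 0, 2, 0, 3, 1, 3, 3, 1, 3, 1, 3, 1, 3, 1, 3, 1, 3, 3, 0, 2, 1, 2, 2, 0, 3, 0, 2, 1, 2, 1, 3, 1, 3, 0, 2, 0, 2, 0, 3, 0, 3, 0, 2, 2, 1, 2, 1, 2, 1, 3, 1, 3, 1, 2, 0, 3, 0, 3, 1, 2, 1, 2, 0, 3, 0, 2, 1, 2, 1, 3, 0, 2, 0], 1, false),
    ([0, 3, 0, 2, 1, 2, 1, 3, 0, 2, 0, 3, 0, 2, 1, 2, 2, 0, 2, 0, 2, 0, 3, 1, 3, 3, 1, 3, 1, 3, 1, 3, 1, 3, 1, 3, 3, 0, 2, 1, 2, 2, 0, 3, 0, 2, 1, 2, 1, 3, 1, 3, 0, 2, 0, 2, 0, 3, 0, 3, 0, 2, 2, 1, 2, 1, 2, 1, 3, 1, 3, 1, 2, 0, 3, 0, 3, 1, 2, 1, 2, 0, 3, 0, 2, 1, 2, 1, 3, 0, 2, 0, 2], 0, false),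
    ([0, 3, 0, 2, 1, 2, 1, 3, 0, 2, 0, 3, 0, 2, 1, 2, 2, 0, 2, 0, 2, 0, 3, 1, 3, 3, 1, 3, 1, 3, 1, 3, 1, 3, 1, 3, 3, 0, 2, 1, 2, 2, 0, 3, 0, 2, 1, 2, 1, 3, 1, 3, 0, 2, 0, 2, 0, 3, 0, 3, 0, 2, 2, 1, 2, 1, 2, 1, 3, 1, 3, 1, 2, 0, 3, 0, 3, 1, 2, 1, 2, 0, 3, 0, 2, 1, 2, 1, 3, 0, 2, 0, 2, 0, 3], 0, false),
    ([0, 3, 0, 2, 1, 2, 1, 3, 0, 2, 0, 3, 0, 2, 1, 2, 2, 0, 2, 0, 2, 0, 3, 1, 3, 3, 1, 3, 1, 3, 1, 3, 1, 3, 1, 3, 3, 0, 2, 1, 2, 2, 0, 3, 0, 2, 1, 2, 1, 3, 1, 3, 0, 2, 0, 2, 0, 3, 0, 3, 0, 2, 2, 1, 2, 1, 2, 1, 3, 1, 3, 1, 2, 0, 3, 0, 3, 1, 2, 1, 2, 0, 3, 0, 2, 1, 2, 1, 3, 0, 2, 0, 2, 0, 3, 0, 2], 0, false),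
    ([0, 3, 0, 2, 1, 2, 1, 3, 0, 2, 0, 3, 0, 2, 1, 2, 2, 0, 2, 0, 2, 0, 3, 1, 3, 3, 1, 3, 1, 3, 1, 3, 1, 3, 1, 3, 3, 0, 2, 1, 2, 2, 0, 3, 0, 2, 1, 2, 1, 3, 1, 3, 0, 2, 0, 2, 0, 3, 0, 3, 0, 2, 2, 1, 2, 1, 2, 1, 3, 1, 3, 1, 2, 0, 3, 0, 3, 1, 2, 1, 2, 0, 3, 0, 2, 1, 2, 1, 3, 0, 2, 0, 2, 0, 3, 0, 2], 0, true),
    ([0, 3, 0, 2, 1, 2, 1, 3, 0, 2, 0, 3, 0, 2, 1, 2, 2, 0, 2, 0, 2, 0, 3, 1, 3, 3, 1, 3, 1, 3, 1, 3, 1, 3, 1, 3, 3, 0, 2, 1, 2, 2, 0, 3, 0, 2, 1, 2, 1, 3, 1, 3, 0, 2, 0, 2, 0, 3, 0, 3, 0, 2, 2, 1, 2, 1, 2, 1, 3, 1, 3, 1, 2, 0, 3, 0, 3, 1, 2, 1, 2, 0, 3, 0, 2, 1, 2, 1, 3, 0, 2, 0, 2, 0, 3], 0, true),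
    ([0, 3, 0, 2, 1, 2, 1, 3, 0, 2, 0, 3, 0, 2, 1, 2, 2, 0, 2, 0, 2, 0, 3, 1, 3, 3, 1, 3, 1, 3, 1, 3, 1, 3, 1, 3, 3, 0, 2, 1, 2, 2, 0, 3, 0, 2, 1, 2, 1, 3, 1, 3, 0, 2, 0, 2, 0, 3, 0, 3, 0, 2, 2, 1, 2, 1, 2, 1, 3, 1, 3, 1, 2, 0, 3, 0, 3, 1, 2, 1, 2, 0, 3, 0, 2, 1, 2, 1, 3, 0, 2, 0, 2], 0, true),
    ([0, 3, 0, 2, 1, 2, 1, 3, 0, 2, 0, 3, 0, 2, 1, 2, 2, 0, 2, 0, 2, 0, 3, 1, 3, 3, 1, 3, 1, 3, 1, 3, 1, 3, 1, 3, 3, 0, 2, 1, 2, 2, 0, 3, 0, 2, 1, 2, 1, 3, 1, 3, 0, 2, 0, 2, 0, 3, 0, 3, 0, 2, 2, 1, 2, 1, 2, 1, 3, 1, 3, 1, 2, 0, 3, 0, 3, 1, 2, 1, 2, 0, 3, 0, 2, 1, 2, 1, 3, 0, 2], 0, true),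
    ([0, 3, 0, 2, 1, 2, 1, 3, 0, 2, 0, 3, 0, 2, 1, 2, 2, 0, 2, 0, 2, 0, 3, 1, 3, 3, 1, 3, 1, 3, 1, 3, 1, 3, 1, 3, 3, 0, 2, 1, 2, 2, 0, 3, 0, 2, 1, 2, 1, 3, 1, 3, 0, 2, 0, 2, 0, 3, 0, 3, 0, 2, 2, 1, 2, 1, 2, 1, 3, 1, 3, 1, 2, 0, 3, 0, 3, 1, 2, 1, 2, 0, 3, 0, 2, 1, 2, 1, 3], 0, true),
    ([0, 3, 0, 2, 1, 2, 1, 3, 0, 2, 0, 3, 0, 2, 1, 2, 2, 0, 2, 0, 2, 0, 3, 1, 3, 3, 1, 3, 1, 3, 1, 3, 1, 3, 1, 3, 3, 0, 2, 1, 2, 2, 0, 3, 0, 2, 1, 2, 1, 3, 1, 3, 0, 2, 0, 2, 0, 3, 0, 3, 0, 2, 2, 1, 2, 1, 2, 1, 3, 1, 3, 1, 2, 0, 3, 0, 3, 1, 2, 1, 2, 0, 3], 0, true),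
    ([0, 3, 0, 2, 1, 2, 1, 3, 0, 2, 0, 3, 0, 2, 1, 2, 2, 0, 2, 0, 2, 0, 3, 1, 3, 3, 1, 3, 1, 3, 1, 3, 1, 3, 1, 3, 3, 0, 2, 1, 2, 2, 0, 3, 0, 2, 1, 2, 1, 3, 1, 3, 0, 2, 0, 2, 0, 3, 0, 3, 0, 2, 2, 1, 2, 1, 2, 1, 3, 1, 3, 1, 2, 0, 3, 0, 3, 1, 2, 1, 2], 0, true),
    ([0, 3, 0, 2, 1, 2, 1, 3, 0, 2, 0, 3, 0, 2, 1, 2, 2, 0, 2, 0, 2, 0, 3, 1, 3, 3, 1, 3, 1, 3, 1, 3, 1, 3, 1, 3, 3, 0, 2, 1, 2, 2, 0, 3, 0, 2, 1, 2, 1, 3, 1, 3, 0, 2, 0, 2, 0, 3, 0, 3, 0, 2, 2, 1, 2, 1, 2, 1, 3, 1, 3, 1, 2, 0, 3, 0, 3, 1], 6, false),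
    ([0, 3, 0, 2, 1, 2, 1, 3, 0, 2, 0, 3, 0, 2, 1, 2, 2, 0, 2, 0, 2, 0, 3, 1, 3, 3, 1, 3, 1, 3, 1, 3, 1, 3, 1, 3, 3, 0, 2, 1, 2, 2, 0, 3, 0, 2, 1, 2, 1, 3, 1, 3, 0, 2, 0, 2, 0, 3, 0, 3, 0, 2, 2, 1, 2, 1, 2, 1, 3, 1, 3, 1, 2, 0, 3], 0, true),
    ([0, 3, 0, 2, 1, 2, 1, 3, 0, 2, 0, 3, 0, 2, 1, 2, 2, 0, 2, 0, 2, 0, 3, 1, 3, 3, 1, 3, 1, 3, 1, 3, 1, 3, 1, 3, 3, 0, 2, 1, 2, 2, 0, 3, 0, 2, 1, 2, 1, 3, 1, 3, 0, 2, 0, 2, 0, 3, 0, 3, 0, 2, 2, 1, 2, 1, 2, 1, 3, 1, 3, 1, 2], 0, true),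
    ([0, 3, 0, 2, 1, 2, 1, 3, 0, 2, 0, 3, 0, 2, 1, 2, 2, 0, 2, 0, 2, 0, 3, 1, 3, 3, 1, 3, 1, 3, 1, 3, 1, 3, 1, 3, 3, 0, 2, 1, 2, 2, 0, 3, 0, 2, 1, 2, 1, 3, 1, 3, 0, 2, 0, 2, 0, 3, 0, 3, 0, 2, 2, 1, 2], 1, true),
    ([0, 3, 0, 2, 1, 2, 1, 3, 0, 2, 0, 3, 0, 2, 1, 2, 2, 0, 2, 0, 2, 0, 3, 1, 3, 3, 1, 3, 1, 3, 1, 3, 1, 3, 1, 3, 3, 0, 2, 1, 2, 2, 0, 3, 0, 2, 1, 2, 1, 3, 1, 3, 0, 2, 0, 2, 0, 3, 0, 3, 0, 2, 2, 1], 0, false),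
    ([0, 3, 0, 2, 1, 2, 1, 3, 0, 2, 0, 3, 0, 2, 1, 2, 2, 0, 2, 0, 2, 0, 3, 1, 3, 3, 1, 3, 1, 3, 1, 3, 1, 3, 1, 3, 3, 0, 2, 1, 2, 2, 0, 3, 0, 2, 1, 2, 1, 3, 1, 3, 0, 2, 0, 2, 0, 3, 0, 3, 0, 2, 1, 2, 1, 2], 1, false),
    ([0, 3, 0, 2, 1, 2, 1, 3, 0, 2, 0, 3, 0, 2, 1, 2, 2, 0, 2, 0, 2, 0, 3, 1, 3, 3, 1, 3, 1, 3, 1, 3, 1, 3, 1, 3, 3, 0, 2, 1, 2, 2, 0, 3, 0, 2, 1, 2, 1, 3, 1, 3, 0, 2, 0, 2, 0, 3, 0, 3, 0, 2, 1, 2, 1, 2, 2], 0, false),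
    ([0, 3, 0, 2, 1, 2, 1, 3, 0, 2, 0, 3, 0, 2, 1, 2, 2, 0, 2, 0, 2, 0, 3, 1, 3, 3, 1, 3, 1, 3, 1, 3, 1, 3, 1, 3, 3, 0, 2, 1, 2, 2, 0, 3, 0, 2, 1, 2, 1, 3, 1, 3, 0, 2, 0, 2, 0, 3, 0, 3, 0, 2, 1, 2, 1, 2, 2, 0, 3], 0, false),
    ([0, 3, 0, 2, 1, 2, 1, 3, 0, 2, 0, 3, 0, 2, 1, 2, 2, 0, 2, 0, 2, 0, 3, 1, 3, 3, 1, 3, 1, 3, 1, 3, 1, 3, 1, 3, 3, 0, 2, 1, 2, 2, 0, 3, 0, 2, 1, 2, 1, 3, 1, 3, 0, 2, 0, 2, 0, 3, 0, 3, 0, 2, 1, 2, 1, 2, 2, 0, 3], 0, true),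
    ([0, 3, 0, 2, 1, 2, 1, 3, 0, 2, 0, 3, 0, 2, 1, 2, 2, 0, 2, 0, 2, 0, 3, 1, 3, 3, 1, 3, 1, 3, 1, 3, 1, 3, 1, 3, 3, 0, 2, 1, 2, 2, 0, 3, 0, 2, 1, 2, 1, 3, 1, 3, 0, 2, 0, 2, 0, 3, 0, 3, 0, 2, 1, 2, 1, 2, 2], 0, true),
    ([0, 3, 0, 2, 1, 2, 1, 3, 0, 2, 0, 3, 0, 2, 1, 2, 2, 0, 2, 0, 2, 0, 3, 1, 3, 3, 1, 3, 1, 3, 1, 3, 1, 3, 1, 3, 3, 0, 2, 1, 2, 2, 0, 3, 0, 2, 1, 2, 1, 3, 1, 3, 0, 2, 0, 2, 0, 3, 0, 3, 0, 2, 1, 2, 1, 2], 1, true),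
    ([0, 3, 0, 2, 1, 2, 1, 3, 0, 2, 0, 3, 0, 2, 1, 2, 2, 0, 2, 0, 2, 0, 3, 1, 3, 3, 1, 3, 1, 3, 1, 3, 1, 3, 1, 3, 3, 0, 2, 1, 2, 2, 0, 3, 0, 2, 1, 2, 1, 3, 1, 3, 0, 2, 0, 2, 0, 3, 0, 3, 0, 2, 1, 2, 1], 0, false),
    ([0, 3, 0, 2, 1, 2, 1, 3, 0, 2, 0, 3, 0, 2, 1, 2, 2, 0, 2, 0, 2, 0, 3, 1, 3, 3, 1, 3, 1, 3, 1, 3, 1, 3, 1, 3, 3, 0, 2, 1, 2, 2, 0, 3, 0, 2, 1, 2, 1, 3, 1, 3, 0, 2, 0, 2, 0, 3, 0, 3, 0, 2, 1], 0, false),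
    ([0, 3, 0, 2, 1, 2, 1, 3, 0, 2, 0, 3, 0, 2, 1, 2, 2, 0, 2, 0, 2, 0, 3, 1, 3, 3, 1, 3, 1, 3, 1, 3, 1, 3, 1, 3, 3, 0, 2, 1, 2, 2, 0, 3, 0, 2, 1, 2, 1, 3, 1, 3, 0, 2, 0, 2, 0, 3, 0, 3], 0, true),
    ([0, 3, 0, 2, 1, 2, 1, 3, 0, 2, 0, 3, 0, 2, 1, 2, 2, 0, 2, 0, 2, 0, 3, 1, 3, 3, 1, 3, 1, 3, 1, 3, 1, 3, 1, 3, 3, 0, 2, 1, 2, 2, 0, 3, 0, 2, 1, 2, 1, 3, 1, 3, 0, 2, 0, 2, 0, 3], 0, true),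
    ([0, 3, 0, 2, 1, 2, 1, 3, 0, 2, 0, 3, 0, 2, 1, 2, 2, 0, 2, 0, 2, 0, 3, 1, 3, 3, 1, 3, 1, 3, 1, 3, 1, 3, 1, 3, 3, 0, 2, 1, 2, 2, 0, 3, 0, 2, 1, 2, 1, 3, 1, 3], 0, true),
    ([0, 3, 0, 2, 1, 2, 1, 3, 0, 2, 0, 3, 0, 2, 1, 2, 2, 0, 2, 0, 2, 0, 3, 1, 3, 3, 1, 3, 1, 3, 1, 3, 1, 3, 1, 3, 3, 0, 2, 1, 2, 2, 0, 3, 0, 2, 1, 2, 1], 4, false),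
    ([0, 3, 0, 2, 1, 2, 1, 3, 0, 2, 0, 3, 0, 2, 1, 2, 2, 0, 2, 0, 2, 0, 3, 1, 3, 3, 1, 3, 1, 3, 1, 3, 1, 3, 1, 3, 3, 0, 2, 1, 2, 2, 0, 3, 0, 2, 1, 2, 1], 0, false),
    ([0, 3, 0, 2, 1, 2, 1, 3, 0, 2, 0, 3, 0, 2, 1, 2, 2, 0, 2, 0, 2, 0, 3, 1, 3, 3, 1, 3, 1, 3, 1, 3, 1, 3, 1, 3, 3, 0, 2, 1, 2, 2, 0, 3, 0, 2, 1], 0, false),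
    ([0, 3, 0, 2, 1, 2, 1, 3, 0, 2, 0, 3, 0, 2, 1, 2, 2, 0, 2, 0, 2, 0, 3, 1, 3, 3, 1, 3, 1, 3, 1, 3, 1, 3, 1, 3, 3, 0, 2, 1, 2, 2, 0, 3], 0, true),
    ([0, 3, 0, 2, 1, 2, 1, 3, 0, 2, 0, 3, 0, 2, 1, 2, 2, 0, 2, 0, 2, 0, 3, 1, 3, 3, 1, 3, 1, 3, 1, 3, 1, 3, 1, 3, 3, 0, 2, 1, 2, 2], 0, true),
    ([0, 3, 0, 2, 1, 2, 1, 3, 0, 2, 0, 3, 0, 2, 1, 2, 2, 0, 2, 0, 2, 0, 3, 1, 3, 3, 1, 3, 1, 3, 1, 3, 1, 3, 1, 3, 3, 0, 2, 1, 2], 1, true),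
    ([0, 3, 0, 2, 1, 2, 1, 3, 0, 2, 0, 3, 0, 2, 1, 2, 2, 0, 2, 0, 2, 0, 3, 1, 3, 3, 1, 3, 1, 3, 1, 3, 1, 3, 1, 3, 3, 0, 2, 1], 0, false),
    ([0, 3, 0, 2, 1, 2, 1, 3, 0, 2, 0, 3, 0, 2, 1, 2, 2, 0, 2, 0, 2, 0, 3, 1, 3, 3, 1, 3, 1, 3, 1, 3, 1, 3, 1, 3], 1, false),
    ([0, 3, 0, 2, 1, 2, 1, 3, 0, 2, 0, 3, 0, 2, 1, 2, 2, 0, 2, 0, 2, 0, 3, 1, 3, 3, 1, 3, 1, 3, 1], 0, false),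
    ([0, 3, 0, 2, 1, 2, 1, 3, 0, 2, 0, 3, 0, 2, 1, 2, 2, 0, 2, 0, 2, 0, 3, 1, 3, 3, 1, 3, 1, 3, 3], 0, false),
    ([0, 3, 0, 2, 1, 2, 1, 3, 0, 2, 0, 3, 0, 2, 1, 2, 2, 0, 2, 0, 2, 0, 3, 1, 3, 3, 1, 3, 1, 3], 1, false),
    ([0, 3, 0, 2, 1, 2, 1, 3, 0, 2, 0, 3, 0, 2, 1, 2, 2, 0, 2, 0, 2, 0, 3, 1, 3, 3, 1, 3, 1], 0, false),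
    ([0, 3, 0, 2, 1, 2, 1, 3, 0, 2, 0, 3, 0, 2, 1, 2, 2, 0, 2, 0, 2, 0, 3, 1, 3, 3, 1], 0, false),
    ([0, 3, 0, 2, 1, 2, 1, 3, 0, 2, 0, 3, 0, 2, 1, 2, 2, 0, 2, 0, 2, 0, 3, 1, 3], 1, false),
    ([0, 3, 0, 2, 1, 2, 1, 3, 0, 2, 0, 3, 0, 2, 1, 2, 2, 0, 2, 0, 2, 0, 3, 1], 0, false),
    ([0, 3, 0, 2, 1, 2, 1, 3, 0, 2, 0, 3, 0, 2, 1, 2], 1, true),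
    ([0, 3, 0, 2, 1, 2, 1, 3, 0, 2, 0, 3, 0, 2, 1], 0, false),
    ([0, 3, 0, 2, 1, 2, 1], 0, false),
    ([0, 3, 0, 2, 1], 0, false),
    ([0, 3], 5, true)]

/-- The conjugates of relators for relation 15. -/
def conj15 : List (List ℕ × ℕ × Bool) :=
  [([0, 3, 0, 2, 1, 2, 1, 2, 0, 3, 0, 3, 1, 2, 1, 3, 0, 3, 0, 2, 1, 2, 1, 3, 0, 2, 0, 2, 0, 3, 0, 3, 0, 2, 1, 2, 1, 2, 1, 3, 1, 3, 1, 2, 0, 3, 0, 3, 1, 2, 1, 2, 0, 3, 0, 2, 1, 2, 1, 3, 0, 3, 0, 2, 1, 2, 1, 2, 0, 3, 0, 3, 1, 2, 1, 3, 0, 3, 0, 2, 1, 2, 1, 3, 0, 2, 0, 2, 0, 3, 0, 3, 0, 2, 1, 2, 1, 2, 1, 3, 1, 3, 1, 2, 0, 3, 0, 3, 1, 2, 1, 2, 0, 3, 0, 2, 1, 2, 1, 3, 0, 2, 0, 2], 0, false),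
    ([0, 3, 0, 2, 1, 2, 1, 2, 0, 3, 0, 3, 1, 2, 1, 3, 0, 3, 0, 2, 1, 2, 1, 3, 0, 2, 0, 2, 0, 3, 0, 3, 0, 2, 1, 2, 1, 2, 1, 3, 1, 3, 1, 2, 0, 3, 0, 3, 1, 2, 1, 2, 0, 3, 0, 2, 1, 2, 1, 3, 0, 3, 0, 2, 1, 2, 1, 2, 0, 3, 0, 3, 1, 2, 1, 3, 0, 3, 0, 2, 1, 2, 1, 3, 0, 2, 0, 2, 0, 3, 0, 3, 0, 2, 1, 2, 1, 2, 1, 3, 1, 3, 1, 2, 0, 3, 0, 3, 1, 2, 1, 2, 0, 3, 0, 2, 1, 2, 1, 3, 0, 2, 0, 2, 0, 3], 0, false),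
    ([0, 3, 0, 2, 1, 2, 1, 2, 0, 3, 0, 3, 1, 2, 1, 3, 0, 3, 0, 2, 1, 2, 1, 3, 0, 2, 0, 2, 0, 3, 0, 3, 0, 2, 1, 2, 1, 2, 1, 3, 1, 3, 1, 2, 0, 3, 0, 3, 1, 2, 1, 2, 0, 3, 0, 2, 1, 2, 1, 3, 0, 3, 0, 2, 1, 2, 1, 2, 0, 3, 0, 3, 1, 2, 1, 3, 0, 3, 0, 2, 1, 2, 1, 3, 0, 2, 0, 2, 0, 3, 0, 3, 0, 2, 1, 2, 1, 2, 1, 3, 1, 3, 1, 2, 0, 3, 0, 3, 1, 2, 1, 2, 0, 3, 0, 2, 1, 2, 1, 3, 0, 2, 0, 2, 0, 3, 0, 2], 0, false),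
    ([0, 3, 0, 2, 1, 2, 1, 2, 0, 3, 0, 3, 1, 2, 1, 3, 0, 3, 0, 2, 1, 2, 1, 3, 0, 2, 0, 2, 0, 3, 0, 3, 0, 2, 1, 2, 1, 2, 1, 3, 1, 3, 1, 2, 0, 3, 0, 3, 1, 2, 1, 2, 0, 3, 0, 2, 1, 2, 1, 3, 0, 3, 0, 2, 1, 2, 1, 2, 0, 3, 0, 3, 1, 2, 1, 3, 0, 3, 0, 2, 1, 2, 1, 3, 0, 2, 0, 2, 0, 3, 0, 3, 0, 2, 1, 2, 1, 2, 1, 3, 1, 3, 1, 2, 0, 3, 0, 3, 1, 2, 1, 2, 0, 3, 0, 2, 1, 2, 1, 3, 0, 2, 0, 2, 0, 3, 0, 2], 0, true),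
    ([0, 3, 0, 2, 1, 2, 1, 2, 0, 3, 0, 3, 1, 2, 1, 3, 0, 3, 0, 2, 1, 2, 1, 3, 0, 2, 0, 2, 0, 3, 0, 3, 0, 2, 1, 2, 1, 2, 1, 3, 1, 3, 1, 2, 0, 3, 0, 3, 1, 2, 1, 2, 0, 3, 0, 2, 1, 2, 1, 3, 0, 3, 0, 2, 1, 2, 1, 2, 0, 3, 0, 3, 1, 2, 1, 3, 0, 3, 0, 2, 1, 2, 1, 3, 0, 2, 0, 2, 0, 3, 0, 3, 0, 2, 1, 2, 1, 2, 1, 3, 1, 3, 1, 2, 0, 3, 0, 3, 1, 2, 1, 2, 0, 3, 0, 2, 1, 2, 1, 3, 0, 2, 0, 2, 0, 3], 0, true),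
    ([0, 3, 0, 2, 1, 2, 1, 2, 0, 3, 0, 3, 1, 2, 1, 3, 0, 3, 0, 2, 1, 2, 1, 3, 0, 2, 0, 2, 0, 3, 0, 3, 0, 2, 1, 2, 1, 2, 1, 3, 1, 3, 1, 2, 0, 3, 0, 3, 1, 2, 1, 2, 0, 3, 0, 2, 1, 2, 1, 3, 0, 3, 0, 2, 1, 2, 1, 2, 0, 3, 0, 3, 1, 2, 1, 3, 0, 3, 0, 2, 1, 2, 1, 3, 0, 2, 0, 2, 0, 3, 0, 3, 0, 2, 1, 2, 1, 2, 1, 3, 1, 3, 1, 2, 0, 3, 0, 3, 1, 2, 1, 2, 0, 3, 0, 2, 1, 2, 1, 3, 0, 2, 0, 2], 0, true),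
    ([0, 3, 0, 2, 1, 2, 1, 2, 0, 3, 0, 3, 1, 2, 1, 3, 0, 3, 0, 2, 1, 2, 1, 3, 0, 2, 0, 2, 0, 3, 0, 3, 0, 2, 1, 2, 1, 2, 1, 3, 1, 3, 1, 2, 0, 3, 0, 3, 1, 2, 1, 2, 0, 3, 0, 2, 1, 2, 1, 3, 0, 3, 0, 2, 1, 2, 1, 2, 0, 3, 0, 3, 1, 2, 1, 3, 0, 3, 0, 2, 1, 2, 1, 3, 0, 2, 0, 2, 0, 3, 0, 3, 0, 2, 1, 2, 1, 2, 1, 3, 1, 3, 1, 2, 0, 3, 0, 3, 1, 2, 1, 2, 0, 3, 0, 2, 1, 2, 1, 3, 0, 2], 0, true),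
    ([0, 3, 0, 2, 1, 2, 1, 2, 0, 3, 0, 3, 1, 2, 1, 3, 0, 3, 0, 2, 1, 2, 1, 3, 0, 2, 0, 2, 0, 3, 0, 3, 0, 2, 1, 2, 1, 2, 1, 3, 1, 3, 1, 2, 0, 3, 0, 3, 1, 2, 1, 2, 0, 3, 0, 2, 1, 2, 1, 3, 0, 3, 0, 2, 1, 2, 1, 2, 0, 3, 0, 3, 1, 2, 1, 3, 0, 3, 0, 2, 1, 2, 1, 3, 0, 2, 0, 2, 0, 3, 0, 3, 0, 2, 1, 2, 1, 2, 1, 3, 1, 3, 1, 2, 0, 3, 0, 3, 1, 2, 1, 2, 0, 3, 0, 2, 1, 2, 1, 3], 0, true),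
    ([0, 3, 0, 2, 1, 2, 1, 2, 0, 3, 0, 3, 1, 2, 1, 3, 0, 3, 0, 2, 1, 2, 1, 3, 0, 2, 0, 2, 0, 3, 0, 3, 0, 2, 1, 2, 1, 2, 1, 3, 1, 3, 1, 2, 0, 3, 0, 3, 1, 2, 1, 2, 0, 3, 0, 2, 1, 2, 1, 3, 0, 3, 0, 2, 1, 2, 1, 2, 0, 3, 0, 3, 1, 2, 1, 3, 0, 3, 0, 2, 1, 2, 1, 3, 0, 2, 0, 2, 0, 3, 0, 3, 0, 2, 1, 2, 1, 2, 1, 3, 1, 3, 1, 2, 0, 3, 0, 3, 1, 2, 1, 2, 0, 3], 0, true),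
    ([0, 3, 0, 2, 1, 2, 1, 2, 0, 3, 0, 3, 1, 2, 1, 3, 0, 3, 0, 2, 1, 2, 1, 3, 0, 2, 0, 2, 0, 3, 0, 3, 0, 2, 1, 2, 1, 2, 1, 3, 1, 3, 1, 2, 0, 3, 0, 3, 1, 2, 1, 2, 0, 3, 0, 2, 1, 2, 1, 3, 0, 3, 0, 2, 1, 2, 1, 2, 0, 3, 0, 3, 1, 2, 1, 3, 0, 3, 0, 2, 1, 2, 1, 3, 0, 2, 0, 2, 0, 3, 0, 3, 0, 2, 1, 2, 1, 2, 1, 3, 1, 3, 1, 2, 0, 3, 0, 3, 1, 2, 1, 2], 0, true),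
    ([0, 3, 0, 2, 1, 2, 1, 2, 0, 3, 0, 3, 1, 2, 1, 3, 0, 3, 0, 2, 1, 2, 1, 3, 0, 2, 0, 2, 0, 3, 0, 3, 0, 2, 1, 2, 1, 2, 1, 3, 1, 3, 1, 2, 0, 3, 0, 3, 1, 2, 1, 2, 0, 3, 0, 2, 1, 2, 1, 3, 0, 3, 0, 2, 1, 2, 1, 2, 0, 3, 0, 3, 1, 2, 1, 3, 0, 3, 0, 2, 1, 2, 1, 3, 0, 2, 0, 2, 0, 3, 0, 3, 0, 2, 1, 2, 1, 2, 1, 3, 1, 3, 1, 2, 0, 3, 0, 3, 1], 6, false),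
    ([0, 3, 0, 2, 1, 2, 1, 2, 0, 3, 0, 3, 1, 2, 1, 3, 0, 3, 0, 2, 1, 2, 1, 3, 0, 2, 0, 2, 0, 3, 0, 3, 0, 2, 1, 2, 1, 2, 1, 3, 1, 3, 1, 2, 0, 3, 0, 3, 1, 2, 1, 2, 0, 3, 0, 2, 1, 2, 1, 3, 0, 3, 0, 2, 1, 2, 1, 2, 0, 3, 0, 3, 1, 2, 1, 3, 0, 3, 0, 2, 1, 2, 1, 3, 0, 2, 0, 2, 0, 3, 0, 3, 0, 2, 1, 2, 1, 2, 1, 3, 1, 3, 1, 2, 0, 3], 0, true),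
    ([0, 3, 0, 2, 1, 2, 1, 2, 0, 3, 0, 3, 1, 2, 1, 3, 0, 3, 0, 2, 1, 2, 1, 3, 0, 2, 0, 2, 0, 3, 0, 3, 0, 2, 1, 2, 1, 2, 1, 3, 1, 3, 1, 2, 0, 3, 0, 3, 1, 2, 1, 2, 0, 3, 0, 2, 1, 2, 1, 3, 0, 3, 0, 2, 1, 2, 1, 2, 0, 3, 0, 3, 1, 2, 1, 3, 0, 3, 0, 2, 1, 2, 1, 3, 0, 2, 0, 2, 0, 3, 0, 3, 0, 2, 1, 2, 1, 2, 1, 3, 1, 3, 1, 2], 0, true),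
    ([0, 3, 0, 2, 1, 2, 1, 2, 0, 3, 0, 3, 1, 2, 1, 3, 0, 3, 0, 2, 1, 2, 1, 3, 0, 2, 0, 2, 0, 3, 0, 3, 0, 2, 1, 2, 1, 2, 1, 3, 1, 3, 1, 2, 0, 3, 0, 3, 1, 2, 1, 2, 0, 3, 0, 2, 1, 2, 1, 3, 0, 3, 0, 2, 1, 2, 1, 2, 0, 3, 0, 3, 1, 2, 1, 3, 0, 3, 0, 2, 1, 2, 1, 3, 0, 2, 0, 2, 0, 3, 0, 3, 0, 2, 1, 2], 1, true),
    ([0, 3, 0, 2, 1, 2, 1, 2, 0, 3, 0, 3, 1, 2, 1, 3, 0, 3, 0, 2, 1, 2, 1, 3, 0, 2, 0, 2, 0, 3, 0, 3, 0, 2, 1, 2, 1, 2, 1, 3, 1, 3, 1, 2, 0, 3, 0, 3, 1, 2, 1, 2, 0, 3, 0, 2, 1, 2, 1, 3, 0, 3, 0, 2, 1, 2, 1, 2, 0, 3, 0, 3, 1, 2, 1, 3, 0, 3, 0, 2, 1, 2, 1, 3, 0, 2, 0, 2, 0, 3, 0, 3, 0, 2, 1], 0, false),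
    ([0, 3, 0, 2, 1, 2, 1, 2, 0, 3, 0, 3, 1, 2, 1, 3, 0, 3, 0, 2, 1, 2, 1, 3, 0, 2, 0, 2, 0, 3, 0, 3, 0, 2, 1, 2, 1, 2, 1, 3, 1, 3, 1, 2, 0, 3, 0, 3, 1, 2, 1, 2, 0, 3, 0, 2, 1, 2, 1, 3, 0, 3, 0, 2, 1, 2, 1, 2, 0, 3, 0, 3, 1, 2, 1, 3, 0, 3, 0, 2, 1, 2, 1, 3, 0, 2, 0, 2, 0, 3, 0], 1, false),
    ([0, 3, 0, 2, 1, 2, 1, 2, 0, 3, 0, 3, 1, 2, 1, 3, 0, 3, 0, 2, 1, 2, 1, 3, 0, 2, 0, 2, 0, 3, 0, 3, 0, 2, 1, 2, 1, 2, 1, 3, 1, 3, 1, 2, 0, 3, 0, 3, 1, 2, 1, 2, 0, 3, 0, 2, 1, 2, 1, 3, 0, 3, 0, 2, 1, 2, 1, 2, 0, 3, 0, 3, 1, 2, 1, 3, 0, 3, 0, 2, 1, 2, 1, 3, 0, 2, 0, 2, 0, 3, 0, 2], 0, false),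
    ([0, 3, 0, 2, 1, 2, 1, 2, 0, 3, 0, 3, 1, 2, 1, 3, 0, 3, 0, 2, 1, 2, 1, 3, 0, 2, 0, 2, 0, 3, 0, 3, 0, 2, 1, 2, 1, 2, 1, 3, 1, 3, 1, 2, 0, 3, 0, 3, 1, 2, 1, 2, 0, 3, 0, 2, 1, 2, 1, 3, 0, 3, 0, 2, 1, 2, 1, 2, 0, 3, 0, 3, 1, 2, 1, 3, 0, 3, 0, 2, 1, 2, 1], 0, false),
    ([0, 3, 0, 2, 1, 2, 1, 2, 0, 3, 0, 3, 1, 2, 1, 3, 0, 3, 0, 2, 1, 2, 1, 3, 0, 2, 0, 2, 0, 3, 0, 3, 0, 2, 1, 2, 1, 2, 1, 3, 1, 3, 1, 2, 0, 3, 0, 3, 1, 2, 1, 2, 0, 3, 0, 2, 1, 2, 1, 3, 0, 3, 0, 2, 1, 2, 1, 2, 0, 3, 0, 3, 1, 2, 1, 3, 0, 3, 0, 2, 1], 0, false),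
    ([0, 3, 0, 2, 1, 2, 1, 2, 0, 3, 0, 3, 1, 2, 1, 3, 0, 3, 0, 2, 1, 2, 1, 3, 0, 2, 0, 2, 0, 3, 0, 3, 0, 2, 1, 2, 1, 2, 1, 3, 1, 3, 1, 2, 0, 3, 0, 3, 1, 2, 1, 2, 0, 3, 0, 2, 1, 2, 1, 3, 0, 3, 0, 2, 1, 2, 1, 2, 0, 3, 0, 3, 1, 2, 1, 3, 0, 3], 6, true),
    ([0, 3, 0, 2, 1, 2, 1, 2, 0, 3, 0, 3, 1, 2, 1, 3, 0, 3, 0, 2, 1, 2, 1, 3, 0, 2, 0, 2, 0, 3, 0, 3, 0, 2, 1, 2, 1, 2, 1, 3, 1, 3, 1, 2, 0, 3, 0, 3, 1, 2, 1, 2, 0, 3, 0, 2, 1, 2, 1, 3, 0, 3, 0, 2, 1, 2, 1, 2, 0, 3, 0, 3, 1, 2, 1], 0, false),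
    ([0, 3, 0, 2, 1, 2, 1, 2, 0, 3, 0, 3, 1, 2, 1, 3, 0, 3, 0, 2, 1, 2, 1, 3, 0, 2, 0, 2, 0, 3, 0, 3, 0, 2, 1, 2, 1, 2, 1, 3, 1, 3, 1, 2, 0, 3, 0, 3, 1, 2, 1, 2, 0, 3, 0, 2, 1, 2, 1, 3, 0, 3, 0, 2, 1, 2, 1, 2, 0, 3, 0, 3, 1], 0, false),
    ([0, 3, 0, 2, 1, 2, 1, 2, 0, 3, 0, 3, 1, 2, 1, 3, 0, 3, 0, 2, 1, 2, 1, 3, 0, 2, 0, 2, 0, 3, 0, 3, 0, 2, 1, 2, 1, 2, 1, 3, 1, 3, 1, 2, 0, 3, 0, 3, 1, 2, 1, 2, 0, 3, 0, 2, 1, 2, 1, 3, 0, 3, 0, 2, 1, 2, 1], 0, false),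
    ([0, 3, 0, 2, 1, 2, 1, 2, 0, 3, 0, 3, 1, 2, 1, 3, 0, 3, 0, 2, 1, 2, 1, 3, 0, 2, 0, 2, 0, 3, 0, 3, 0, 2, 1, 2, 1, 2, 1, 3, 1, 3, 1, 2, 0, 3, 0, 3, 1, 2, 1, 2, 0, 3, 0, 2, 1, 2, 1, 3, 0, 3, 0, 2, 1, 2, 2], 0, false),
    ([0, 3, 0, 2, 1, 2, 1, 2, 0, 3, 0, 3, 1, 2, 1, 3, 0, 3, 0, 2, 1, 2, 1, 3, 0, 2, 0, 2, 0, 3, 0, 3, 0, 2, 1, 2, 1, 2, 1, 3, 1, 3, 1, 2, 0, 3, 0, 3, 1, 2, 1, 2, 0, 3, 0, 2, 1, 2, 1, 3, 0, 3, 0, 2, 1, 2, 2, 0, 2], 0, false),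
    ([0, 3, 0, 2, 1, 2, 1, 2, 0, 3, 0, 3, 1, 2, 1, 3, 0, 3, 0, 2, 1, 2, 1, 3, 0, 2, 0, 2, 0, 3, 0, 3, 0, 2, 1, 2, 1, 2, 1, 3, 1, 3, 1, 2, 0, 3, 0, 3, 1, 2, 1, 2, 0, 3, 0, 2, 1, 2, 1, 3, 0, 3, 0, 2, 1, 2, 2, 0, 2, 0, 3], 0, false),
    ([0, 3, 0, 2, 1, 2, 1, 2, 0, 3, 0, 3, 1, 2, 1, 3, 0, 3, 0, 2, 1, 2, 1, 3, 0, 2, 0, 2, 0, 3, 0, 3, 0, 2, 1, 2, 1, 2, 1, 3, 1, 3, 1, 2, 0, 3, 0, 3, 1, 2, 1, 2, 0, 3, 0, 2, 1, 2, 1, 3, 0, 3, 0, 2, 1, 2, 2, 0, 2, 0, 3, 0, 2], 0, false),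
    ([0, 3, 0, 2, 1, 2, 1, 2, 0, 3, 0, 3, 1, 2, 1, 3, 0, 3, 0, 2, 1, 2, 1, 3, 0, 2, 0, 2, 0, 3, 0, 3, 0, 2, 1, 2, 1, 2, 1, 3, 1, 3, 1, 2, 0, 3, 0, 3, 1, 2, 1, 2, 0, 3, 0, 2, 1, 2, 1, 3, 0, 3, 0, 2, 1, 2], 1, true),
    ([0, 3, 0, 2, 1, 2, 1, 2, 0, 3, 0, 3, 1, 2, 1, 3, 0, 3, 0, 2, 1, 2, 1, 3, 0, 2, 0, 2, 0, 3, 0, 3, 0, 2, 1, 2, 1, 2, 1, 3, 1, 3, 1, 2, 0, 3, 0, 3, 1, 2, 1, 2, 0, 3, 0, 2, 1, 2, 1, 3, 0, 3, 0, 2, 1], 0, false),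
    ([0, 3, 0, 2, 1, 2, 1, 2, 0, 3, 0, 3, 1, 2, 1, 3, 0, 3, 0, 2, 1, 2, 1, 3, 0, 2, 0, 2, 0, 3, 0, 3, 0, 2, 1, 2, 1, 2, 1, 3, 1, 3, 1, 2, 0, 3, 0, 3, 1, 2, 1, 2, 0, 3, 0, 2, 1, 2, 1, 3, 0], 1, false),
    ([0, 3, 0, 2, 1, 2, 1, 2, 0, 3, 0, 3, 1, 2, 1, 3, 0, 3, 0, 2, 1, 2, 1, 3, 0, 2, 0, 2, 0, 3, 0, 3, 0, 2, 1, 2, 1, 2, 1, 3, 1, 3, 1, 2, 0, 3, 0, 3, 1, 2, 1, 2, 0, 3, 0, 2, 1, 2, 1, 3, 0, 2], 0, false),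
    ([0, 3, 0, 2, 1, 2, 1, 2, 0, 3, 0, 3, 1, 2, 1, 3, 0, 3, 0, 2, 1, 2, 1, 3, 0, 2, 0, 2, 0, 3, 0, 3, 0, 2, 1, 2, 1, 2, 1, 3, 1, 3, 1, 2, 0, 3, 0, 3, 1, 2, 1, 2, 0, 3, 0, 2, 1, 2, 1, 3, 0, 2, 0, 2], 0, false),
    ([0, 3, 0, 2, 1, 2, 1, 2, 0, 3, 0, 3, 1, 2, 1, 3, 0, 3, 0, 2, 1, 2, 1, 3, 0, 2, 0, 2, 0, 3, 0, 3, 0, 2, 1, 2, 1, 2, 1, 3, 1, 3, 1, 2, 0, 3, 0, 3, 1, 2, 1, 2, 0, 3, 0, 2, 1, 2, 1, 3, 0, 2, 0, 2, 0, 3], 0, false),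
    ([0, 3, 0, 2, 1, 2, 1, 2, 0, 3, 0, 3, 1, 2, 1, 3, 0, 3, 0, 2, 1, 2, 1, 3, 0, 2, 0, 2, 0, 3, 0, 3, 0, 2, 1, 2, 1, 2, 1, 3, 1, 3, 1, 2, 0, 3, 0, 3, 1, 2, 1, 2, 0, 3, 0, 2, 1, 2, 1, 3, 0, 2, 0, 2, 0, 3, 0, 2], 0, false),
    ([0, 3, 0, 2, 1, 2, 1, 2, 0, 3, 0, 3, 1, 2, 1, 3, 0, 3, 0, 2, 1, 2, 1, 3, 0, 2, 0, 2, 0, 3, 0, 3, 0, 2, 1, 2, 1, 2, 1, 3, 1, 3, 1, 2, 0, 3, 0, 3, 1, 2, 1, 2, 0, 3, 0, 2, 1, 2, 1, 3, 0, 2, 0, 2, 0, 3, 0, 2], 0, true),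
    ([0, 3, 0, 2, 1, 2, 1, 2, 0, 3, 0, 3, 1, 2, 1, 3, 0, 3, 0, 2, 1, 2, 1, 3, 0, 2, 0, 2, 0, 3, 0, 3, 0, 2, 1, 2, 1, 2, 1, 3, 1, 3, 1, 2, 0, 3, 0, 3, 1, 2, 1, 2, 0, 3, 0, 2, 1, 2, 1, 3, 0, 2, 0, 2, 0, 3], 0, true),
    ([0, 3, 0, 2, 1, 2, 1, 2, 0, 3, 0, 3, 1, 2, 1, 3, 0, 3, 0, 2, 1, 2, 1, 3, 0, 2, 0, 2, 0, 3, 0, 3, 0, 2, 1, 2, 1, 2, 1, 3, 1, 3, 1, 2, 0, 3, 0, 3, 1, 2, 1, 2, 0, 3, 0, 2, 1, 2, 1, 3, 0, 2, 0, 2], 0, true),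
    ([0, 3, 0, 2, 1, 2, 1, 2, 0, 3, 0, 3, 1, 2, 1, 3, 0, 3, 0, 2, 1, 2, 1, 3, 0, 2, 0, 2, 0, 3, 0, 3, 0, 2, 1, 2, 1, 2, 1, 3, 1, 3, 1, 2, 0, 3, 0, 3, 1, 2, 1, 2, 0, 3, 0, 2, 1, 2, 1, 3, 0, 2], 0, true),
    ([0, 3, 0, 2, 1, 2, 1, 2, 0, 3, 0, 3, 1, 2, 1, 3, 0, 3, 0, 2, 1, 2, 1, 3, 0, 2, 0, 2, 0, 3, 0, 3, 0, 2, 1, 2, 1, 2, 1, 3, 1, 3, 1, 2, 0, 3, 0, 3, 1, 2, 1, 2, 0, 3, 0, 2, 1, 2, 1, 3], 0, true),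
    ([0, 3, 0, 2, 1, 2, 1, 2, 0, 3, 0, 3, 1, 2, 1, 3, 0, 3, 0, 2, 1, 2, 1, 3, 0, 2, 0, 2, 0, 3, 0, 3, 0, 2, 1, 2, 1, 2, 1, 3, 1, 3, 1, 2, 0, 3, 0, 3, 1, 2, 1, 2, 0, 3], 0, true),
    ([0, 3, 0, 2, 1, 2, 1, 2, 0, 3, 0, 3, 1, 2, 1, 3, 0, 3, 0, 2, 1, 2, 1, 3, 0, 2, 0, 2, 0, 3, 0, 3, 0, 2, 1, 2, 1, 2, 1, 3, 1, 3, 1, 2, 0, 3, 0, 3, 1, 2, 1, 2], 0, true),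
    ([0, 3, 0, 2, 1, 2, 1, 2, 0, 3, 0, 3, 1, 2, 1, 3, 0, 3, 0, 2, 1, 2, 1, 3, 0, 2, 0, 2, 0, 3, 0, 3, 0, 2, 1, 2, 1, 2, 1, 3, 1, 3, 1, 2, 0, 3, 0, 3, 1], 6, false),
    ([0, 3, 0, 2, 1, 2, 1, 2, 0, 3, 0, 3, 1, 2, 1, 3, 0, 3, 0, 2, 1, 2, 1, 3, 0, 2, 0, 2, 0, 3, 0, 3, 0, 2, 1, 2, 1, 2, 1, 3, 1, 3, 1, 2, 0, 3], 0, true),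
    ([0, 3, 0, 2, 1, 2, 1, 2, 0, 3, 0, 3, 1, 2, 1, 3, 0, 3, 0, 2, 1, 2, 1, 3, 0, 2, 0, 2, 0, 3, 0, 3, 0, 2, 1, 2, 1, 2, 1, 3, 1, 3, 1, 2], 0, true),
    ([0, 3, 0, 2, 1, 2, 1, 2, 0, 3, 0, 3, 1, 2, 1, 3, 0, 3, 0, 2, 1, 2, 1, 3, 0, 2, 0, 2, 0, 3, 0, 3, 0, 2, 1, 2], 1, true),
    ([0, 3, 0, 2, 1, 2, 1, 2, 0, 3, 0, 3, 1, 2, 1, 3, 0, 3, 0, 2, 1, 2, 1, 3, 0, 2, 0, 2, 0, 3, 0, 3, 0, 2, 1], 0, false),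
    ([0, 3, 0, 2, 1, 2, 1, 2, 0, 3, 0, 3, 1, 2, 1, 3, 0, 3, 0, 2, 1, 2, 1, 3, 0, 2, 0, 2, 0, 3, 0], 1, false),
    ([0, 3, 0, 2, 1, 2, 1, 2, 0, 3, 0, 3, 1, 2, 1, 3, 0, 3, 0, 2, 1, 2, 1, 3, 0, 2, 0, 2, 0, 3, 0, 2], 0, false),
    ([0, 3, 0, 2, 1, 2, 1, 2, 0, 3, 0, 3, 1, 2, 1, 3, 0, 3, 0, 2, 1, 2, 1], 0, false),
    ([0, 3, 0, 2, 1, 2, 1, 2, 0, 3, 0, 3, 1, 2, 1, 3, 0, 3, 0, 2, 1], 0, false),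
    ([0, 3, 0, 2, 1, 2, 1, 2, 0, 3, 0, 3, 1, 2, 1, 3, 0, 3], 6, true),
    ([0, 3, 0, 2, 1, 2, 1, 2, 0, 3, 0, 3, 1, 2, 1], 0, false),
    ([0, 3, 0, 2, 1, 2, 1, 2, 0, 3, 0, 3, 1], 0, false),
    ([0, 3, 0, 2, 1, 2, 1], 0, false),
    ([0, 3, 0, 2, 1, 2, 2], 0, false),
    ([0, 3, 0, 2, 1, 2, 2, 0, 2], 0, false),
    ([0, 3, 0, 2, 1, 2, 2, 0, 2, 0, 3], 0, false),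
    ([0, 3, 0, 2, 1, 2, 2, 0, 2, 0, 3, 0, 2], 0, false),
    ([0, 3, 0, 2, 1, 2], 1, true),
    ([0, 3, 0, 2, 1], 0, false),
    ([0], 1, false),
    ([0, 2], 0, false),
    ([0, 2, 0], 5, true)]

/-- The conjugates of relators for relation 16. -/
def conj16 : List (List ℕ × ℕ × Bool) :=
  [([2, 0, 3, 0, 2, 1, 2, 1, 2, 0, 3, 0, 3, 1, 2, 1, 2, 0, 3, 0, 2, 1, 2, 1, 3, 0, 3, 0, 3, 1, 2, 1, 2, 0, 3, 0, 2, 1, 2, 1, 2, 0, 3, 0, 3, 1, 2, 1, 2, 0, 3, 0, 2, 1, 2, 1, 3, 0], 1, false),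
    ([2, 0, 3, 0, 2, 1, 2, 1, 2, 0, 3, 0, 3, 1, 2, 1, 2, 0, 3, 0, 2, 1, 2, 1, 3, 0, 3, 0, 3, 1, 2, 1, 2, 0, 3, 0, 2, 1, 2, 1, 2, 0, 3, 0, 3, 1, 2, 1, 2, 0, 3, 0, 2, 1, 2, 1, 3, 0, 2], 0, false),
    ([2, 0, 3, 0, 2, 1, 2, 1, 2, 0, 3, 0, 3, 1, 2, 1, 2, 0, 3, 0, 2, 1, 2, 1, 3, 0, 3, 0, 3, 1, 2, 1, 2, 0, 3, 0, 2, 1, 2, 1, 2, 0, 3, 0, 3, 1, 2, 1, 2, 0, 3, 0, 2, 1, 2, 1, 3, 0, 2, 0, 2], 0, false),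
    ([2, 0, 3, 0, 2, 1, 2, 1, 2, 0, 3, 0, 3, 1, 2, 1, 2, 0, 3, 0, 2, 1, 2, 1, 3, 0, 3, 0, 3, 1, 2, 1, 2, 0, 3, 0, 2, 1, 2, 1, 2, 0, 3, 0, 3, 1, 2, 1, 2, 0, 3, 0, 2, 1, 2, 1, 3, 0, 2, 0, 2, 0, 3], 0, false),
    ([2, 0, 3, 0, 2, 1, 2, 1, 2, 0, 3, 0, 3, 1, 2, 1, 2, 0, 3, 0, 2, 1, 2, 1, 3, 0, 3, 0, 3, 1, 2, 1, 2, 0, 3, 0, 2, 1, 2, 1, 2, 0, 3, 0, 3, 1, 2, 1, 2, 0, 3, 0, 2, 1, 2, 1, 3, 0, 2, 0, 2, 0, 3, 0, 2], 0, false),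
    ([2, 0, 3, 0, 2, 1, 2, 1, 2, 0, 3, 0, 3, 1, 2, 1, 2, 0, 3, 0, 2, 1, 2, 1, 3, 0, 3, 0, 3, 1, 2, 1, 2, 0, 3, 0, 2, 1, 2, 1, 2, 0, 3, 0, 3, 1, 2, 1, 2, 0, 3, 0, 2, 1, 2, 1, 3, 0, 2, 0, 2, 0, 3, 0, 2], 0, true),
    ([2, 0, 3, 0, 2, 1, 2, 1, 2, 0, 3, 0, 3, 1, 2, 1, 2, 0, 3, 0, 2, 1, 2, 1, 3, 0, 3, 0, 3, 1, 2, 1, 2, 0, 3, 0, 2, 1, 2, 1, 2, 0, 3, 0, 3, 1, 2, 1, 2, 0, 3, 0, 2, 1, 2, 1, 3, 0, 2, 0, 2, 0, 3], 0, true),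
    ([2, 0, 3, 0, 2, 1, 2, 1, 2, 0, 3, 0, 3, 1, 2, 1, 2, 0, 3, 0, 2, 1, 2, 1, 3, 0, 3, 0, 3, 1, 2, 1, 2, 0, 3, 0, 2, 1, 2, 1, 2, 0, 3, 0, 3, 1, 2, 1, 2, 0, 3, 0, 2, 1, 2, 1, 3, 0, 2, 0, 2], 0, true),
    ([2, 0, 3, 0, 2, 1, 2, 1, 2, 0, 3, 0, 3, 1, 2, 1, 2, 0, 3, 0, 2, 1, 2, 1, 3, 0, 3, 0, 3, 1, 2, 1, 2, 0, 3, 0, 2, 1, 2, 1, 2, 0, 3, 0, 3, 1, 2, 1, 2, 0, 3, 0, 2, 1, 2, 1, 3, 0, 2], 0, true),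
    ([2, 0, 3, 0, 2, 1, 2, 1, 2, 0, 3, 0, 3, 1, 2, 1, 2, 0, 3, 0, 2, 1, 2, 1, 3, 0, 3, 0, 3, 1, 2, 1, 2, 0, 3, 0, 2, 1, 2, 1, 2, 0, 3, 0, 3, 1, 2, 1, 2, 0, 3, 0, 2, 1, 2, 1, 3], 0, true),
    ([2, 0, 3, 0, 2, 1, 2, 1, 2, 0, 3, 0, 3, 1, 2, 1, 2, 0, 3, 0, 2, 1, 2, 1, 3, 0, 3, 0, 3, 1, 2, 1, 2, 0, 3, 0, 2, 1, 2, 1, 2, 0, 3, 0, 3, 1, 2, 1, 2, 0, 3], 0, true),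
    ([2, 0, 3, 0, 2, 1, 2, 1, 2, 0, 3, 0, 3, 1, 2, 1, 2, 0, 3, 0, 2, 1, 2, 1, 3, 0, 3, 0, 3, 1, 2, 1, 2, 0, 3, 0, 2, 1, 2, 1, 2, 0, 3, 0, 3, 1, 2, 1, 2], 0, true),
    ([2, 0, 3, 0, 2, 1, 2, 1, 2, 0, 3, 0, 3, 1, 2, 1, 2, 0, 3, 0, 2, 1, 2, 1, 3, 0, 3, 0, 3, 1, 2, 1, 2, 0, 3, 0, 2, 1, 2, 1, 2, 0, 3, 0, 3, 1], 6, false),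
    ([2, 0, 3, 0, 2, 1, 2, 1, 2, 0, 3, 0, 3, 1, 2, 1, 2, 0, 3, 0, 2, 1, 2, 1, 3, 0, 3, 0, 3, 1, 2, 1, 2, 0, 3, 0, 2, 1, 2, 1, 2, 0, 3], 0, true),
    ([2, 0, 3, 0, 2, 1, 2, 1, 2, 0, 3, 0, 3, 1, 2, 1, 2, 0, 3, 0, 2, 1, 2, 1, 3, 0, 3, 0, 3, 1, 2, 1, 2, 0, 3, 0, 2, 1, 2, 1, 2], 0, true),
    ([2, 0, 3, 0, 2, 1, 2, 1, 2, 0, 3, 0, 3, 1, 2, 1, 2, 0, 3, 0, 2, 1, 2, 1, 3, 0, 3, 0, 3, 1, 2, 1, 2, 0, 3, 0, 2, 1, 2], 1, true),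
    ([2, 0, 3, 0, 2, 1, 2, 1, 2, 0, 3, 0, 3, 1, 2, 1, 2, 0, 3, 0, 2, 1, 2, 1, 3, 0, 3, 0, 3, 1, 2, 1, 2, 0, 3, 0, 2, 1], 0, false),
    ([2, 0, 3, 0, 2, 1, 2, 1, 2, 0, 3, 0, 3, 1, 2, 1, 2, 0, 3, 0, 2, 1, 2, 1, 3, 0, 3, 0, 3, 1, 2, 1], 0, false),
    ([2, 0, 3, 0, 2, 1, 2, 1, 2, 0, 3, 0, 3, 1, 2, 1, 2, 0, 3, 0, 2, 1, 2, 1, 3, 0, 3, 0, 3, 1], 0, false),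
    ([2, 0, 3, 0, 2, 1, 2, 1, 2, 0, 3, 0, 3, 1, 2, 1, 2, 0, 3, 0, 2, 1, 2, 1, 3, 0], 1, false),
    ([2, 0, 3, 0, 2, 1, 2, 1, 2, 0, 3, 0, 3, 1, 2, 1, 2, 0, 3, 0, 2, 1, 2, 1, 3, 0, 2], 0, false),
    ([2, 0, 3, 0, 2, 1, 2, 1, 2, 0, 3, 0, 3, 1, 2, 1, 2, 0, 3, 0, 2, 1, 2, 1, 3, 0, 2, 0, 2], 0, false),
    ([2, 0, 3, 0, 2, 1, 2, 1, 2, 0, 3, 0, 3, 1, 2, 1, 2, 0, 3, 0, 2, 1, 2, 1, 3, 0, 2, 0, 2, 0, 3], 0, false),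
    ([2, 0, 3, 0, 2, 1, 2, 1, 2, 0, 3, 0, 3, 1, 2, 1, 2, 0, 3, 0, 2, 1, 2, 1, 3, 0, 2, 0, 2, 0, 3, 0, 2], 0, false),
    ([2, 0, 3, 0, 2, 1, 2, 1, 2, 0, 3, 0, 3, 1, 2, 1, 2, 0, 3, 0, 2, 1, 2, 1, 3, 0, 2, 0, 2, 0, 3, 0, 2], 0, true),
    ([2, 0, 3, 0, 2, 1, 2, 1, 2, 0, 3, 0, 3, 1, 2, 1, 2, 0, 3, 0, 2, 1, 2, 1, 3, 0, 2, 0, 2, 0, 3], 0, true),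
    ([2, 0, 3, 0, 2, 1, 2, 1, 2, 0, 3, 0, 3, 1, 2, 1, 2, 0, 3, 0, 2, 1, 2, 1, 3, 0, 2, 0, 2], 0, true),
    ([2, 0, 3, 0, 2, 1, 2, 1, 2, 0, 3, 0, 3, 1, 2, 1, 2, 0, 3, 0, 2, 1, 2, 1, 3, 0, 2], 0, true),
    ([2, 0, 3, 0, 2, 1, 2, 1, 2, 0, 3, 0, 3, 1, 2, 1, 2, 0, 3, 0, 2, 1, 2, 1, 3], 0, true),
    ([2, 0, 3, 0, 2, 1, 2, 1, 2, 0, 3, 0, 3, 1, 2, 1, 2, 0, 3], 0, true),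
    ([2, 0, 3, 0, 2, 1, 2, 1, 2, 0, 3, 0, 3, 1, 2, 1, 2], 0, true),
    ([2, 0, 3, 0, 2, 1, 2, 1, 2, 0, 3, 0, 3, 1], 6, false),
    ([2, 0, 3, 0, 2, 1, 2, 1, 2, 0, 3], 0, true),
    ([2, 0, 3, 0, 2, 1, 2, 1, 2], 0, true),
    ([2, 0, 3, 0, 2, 1, 2], 1, true),
    ([2, 0, 3, 0, 2, 1], 0, false),
    ([], 0, false),
    ([0, 3], 0, false),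
    ([0, 3, 0], 5, true)]

/-- The conjugates of relators for relation 17. -/
def conj17 : List (List ℕ × ℕ × Bool) :=
  [([0, 2, 0, 3, 0, 2, 1, 2, 2, 0, 3, 0, 3, 0, 3, 1, 2, 1, 2, 1, 3, 1, 3, 1, 2, 0, 2, 0, 3, 0, 3, 1, 2, 1, 3, 3, 0, 3, 1, 2, 2, 0, 2, 0, 2, 0, 2, 0, 2, 0, 2, 1, 3, 1, 3, 3, 0, 3, 0, 2, 1, 2, 1, 2, 1, 3, 1, 3, 1, 2, 0, 3, 0, 3, 1, 2, 1, 2, 0, 3, 0, 2, 1, 2, 1, 3, 0, 2, 0, 2, 0, 3, 0, 3, 0, 3, 1, 2, 1, 2, 2, 0, 2, 0, 3, 1, 3, 3, 1, 3, 3, 1, 3, 1, 3, 1, 3, 1, 3, 1, 3, 3, 0, 2, 1, 2, 2, 0, 3, 0, 2, 1, 2, 1, 3, 1, 3, 0, 2, 0, 2, 0, 3, 0, 3, 0, 2, 1, 2, 1, 2, 2], 0, false),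
    ([0, 2, 0, 3, 0, 2, 1, 2, 2, 0, 3, 0, 3, 0, 3, 1, 2, 1, 2, 1, 3, 1, 3, 1, 2, 0, 2, 0, 3, 0, 3, 1, 2, 1, 3, 3, 0, 3, 1, 2, 2, 0, 2, 0, 2, 0, 2, 0, 2, 0, 2, 1, 3, 1, 3, 3, 0, 3, 0, 2, 1, 2, 1, 2, 1, 3, 1, 3, 1, 2, 0, 3, 0, 3, 1, 2, 1, 2, 0, 3, 0, 2, 1, 2, 1, 3, 0, 2, 0, 2, 0, 3, 0, 3, 0, 3, 1, 2, 1, 2, 2, 0, 2, 0, 3, 1, 3, 3, 1, 3, 3, 1, 3, 1, 3, 1, 3, 1, 3, 1, 3, 3, 0, 2, 1, 2, 2, 0, 3, 0, 2, 1, 2, 1, 3, 1, 3, 0, 2, 0, 2, 0, 3, 0, 3, 0, 2, 1, 2, 1, 2, 2, 0, 3], 0, false),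
    ([0, 2, 0, 3, 0, 2, 1, 2, 2, 0, 3, 0, 3, 0, 3, 1, 2, 1, 2, 1, 3, 1, 3, 1, 2, 0, 2, 0, 3, 0, 3, 1, 2, 1, 3, 3, 0, 3, 1, 2, 2, 0, 2, 0, 2, 0, 2, 0, 2, 0, 2, 1, 3, 1, 3, 3, 0, 3, 0, 2, 1, 2, 1, 2, 1, 3, 1, 3, 1, 2, 0, 3, 0, 3, 1, 2, 1, 2, 0, 3, 0, 2, 1, 2, 1, 3, 0, 2, 0, 2, 0, 3, 0, 3, 0, 3, 1, 2, 1, 2, 2, 0, 2, 0, 3, 1, 3, 3, 1, 3, 3, 1, 3, 1, 3, 1, 3, 1, 3, 1, 3, 3, 0, 2, 1, 2, 2, 0, 3, 0, 2, 1, 2, 1, 3, 1, 3, 0, 2, 0, 2, 0, 3, 0, 3, 0, 2, 1, 2, 1, 2, 2, 0, 3], 0, true),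
    ([0, 2, 0, 3, 0, 2, 1, 2, 2, 0, 3, 0, 3, 0, 3, 1, 2, 1, 2, 1, 3, 1, 3, 1, 2, 0, 2, 0, 3, 0, 3, 1, 2, 1, 3, 3, 0, 3, 1, 2, 2, 0, 2, 0, 2, 0, 2, 0, 2, 0, 2, 1, 3, 1, 3, 3, 0, 3, 0, 2, 1, 2, 1, 2, 1, 3, 1, 3, 1, 2, 0, 3, 0, 3, 1, 2, 1, 2, 0, 3, 0, 2, 1, 2, 1, 3, 0, 2, 0, 2, 0, 3, 0, 3, 0, 3, 1, 2, 1, 2, 2, 0, 2, 0, 3, 1, 3, 3, 1, 3, 3, 1, 3, 1, 3, 1, 3, 1, 3, 1, 3, 3, 0, 2, 1, 2, 2, 0, 3, 0, 2, 1, 2, 1, 3, 1, 3, 0, 2, 0, 2, 0, 3, 0, 3, 0, 2, 1, 2, 1, 2, 2], 0, true),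
    ([0, 2, 0, 3, 0, 2, 1, 2, 2, 0, 3, 0, 3, 0, 3, 1, 2, 1, 2, 1, 3, 1, 3, 1, 2, 0, 2, 0, 3, 0, 3, 1, 2, 1, 3, 3, 0, 3, 1, 2, 2, 0, 2, 0, 2, 0, 2, 0, 2, 0, 2, 1, 3, 1, 3, 3, 0, 3, 0, 2, 1, 2, 1, 2, 1, 3, 1, 3, 1, 2, 0, 3, 0, 3, 1, 2, 1, 2, 0, 3, 0, 2, 1, 2, 1, 3, 0, 2, 0, 2, 0, 3, 0, 3, 0, 3, 1, 2, 1, 2, 2, 0, 2, 0, 3, 1, 3, 3, 1, 3, 3, 1, 3, 1, 3, 1, 3, 1, 3, 1, 3, 3, 0, 2, 1, 2, 2, 0, 3, 0, 2, 1, 2, 1, 3, 1, 3, 0, 2, 0, 2, 0, 3, 0, 3, 0, 2, 1, 2, 1, 2], 1, true),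
    ([0, 2, 0, 3, 0, 2, 1, 2, 2, 0, 3, 0, 3, 0, 3, 1, 2, 1, 2, 1, 3, 1, 3, 1, 2, 0, 2, 0, 3, 0, 3, 1, 2, 1, 3, 3, 0, 3, 1, 2, 2, 0, 2, 0, 2, 0, 2, 0, 2, 0, 2, 1, 3, 1, 3, 3, 0, 3, 0, 2, 1, 2, 1, 2, 1, 3, 1, 3, 1, 2, 0, 3, 0, 3, 1, 2, 1, 2, 0, 3, 0, 2, 1, 2, 1, 3, 0, 2, 0, 2, 0, 3, 0, 3, 0, 3, 1, 2, 1, 2, 2, 0, 2, 0, 3, 1, 3, 3, 1, 3, 3, 1, 3, 1, 3, 1, 3, 1, 3, 1, 3, 3, 0, 2, 1, 2, 2, 0, 3, 0, 2, 1, 2, 1, 3, 1, 3, 0, 2, 0, 2, 0, 3, 0, 3, 0, 2, 1, 2, 1], 0, false),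
    ([0, 2, 0, 3, 0, 2, 1, 2, 2, 0, 3, 0, 3, 0, 3, 1, 2, 1, 2, 1, 3, 1, 3, 1, 2, 0, 2, 0, 3, 0, 3, 1, 2, 1, 3, 3, 0, 3, 1, 2, 2, 0, 2, 0, 2, 0, 2, 0, 2, 0, 2, 1, 3, 1, 3, 3, 0, 3, 0, 2, 1, 2, 1, 2, 1, 3, 1, 3, 1, 2, 0, 3, 0, 3, 1, 2, 1, 2, 0, 3, 0, 2, 1, 2, 1, 3, 0, 2, 0, 2, 0, 3, 0, 3, 0, 3, 1, 2, 1, 2, 2, 0, 2, 0, 3, 1, 3, 3, 1, 3, 3, 1, 3, 1, 3, 1, 3, 1, 3, 1, 3, 3, 0, 2, 1, 2, 2, 0, 3, 0, 2, 1, 2, 1, 3, 1, 3, 0, 2, 0, 2, 0, 3, 0, 3, 0, 2, 1], 0, false),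
    ([0, 2, 0, 3, 0, 2, 1, 2, 2, 0, 3, 0, 3, 0, 3, 1, 2, 1, 2, 1, 3, 1, 3, 1, 2, 0, 2, 0, 3, 0, 3, 1, 2, 1, 3, 3, 0, 3, 1, 2, 2, 0, 2, 0, 2, 0, 2, 0, 2, 0, 2, 1, 3, 1, 3, 3, 0, 3, 0, 2, 1, 2, 1, 2, 1, 3, 1, 3, 1, 2, 0, 3, 0, 3, 1, 2, 1, 2, 0, 3, 0, 2, 1, 2, 1, 3, 0, 2, 0, 2, 0, 3, 0, 3, 0, 3, 1, 2, 1, 2, 2, 0, 2, 0, 3, 1, 3, 3, 1, 3, 3, 1, 3, 1, 3, 1, 3, 1, 3, 1, 3, 3, 0, 2, 1, 2, 2, 0, 3, 0, 2, 1, 2, 1, 3, 1, 3, 0, 2, 0, 2, 0, 3, 0, 3], 0, true),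
    ([0, 2, 0, 3, 0, 2, 1, 2, 2, 0, 3, 0, 3, 0, 3, 1, 2, 1, 2, 1, 3, 1, 3, 1, 2, 0, 2, 0, 3, 0, 3, 1, 2, 1, 3, 3, 0, 3, 1, 2, 2, 0, 2, 0, 2, 0, 2, 0, 2, 0, 2, 1, 3, 1, 3, 3, 0, 3, 0, 2, 1, 2, 1, 2, 1, 3, 1, 3, 1, 2, 0, 3, 0, 3, 1, 2, 1, 2, 0, 3, 0, 2, 1, 2, 1, 3, 0, 2, 0, 2, 0, 3, 0, 3, 0, 3, 1, 2, 1, 2, 2, 0, 2, 0, 3, 1, 3, 3, 1, 3, 3, 1, 3, 1, 3, 1, 3, 1, 3, 1, 3, 3, 0, 2, 1, 2, 2, 0, 3, 0, 2, 1, 2, 1, 3, 1, 3, 0, 2, 0, 2, 0, 3], 0, true),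
    ([0, 2, 0, 3, 0, 2, 1, 2, 2, 0, 3, 0, 3, 0, 3, 1, 2, 1, 2, 1, 3, 1, 3, 1, 2, 0, 2, 0, 3, 0, 3, 1, 2, 1, 3, 3, 0, 3, 1, 2, 2, 0, 2, 0, 2, 0, 2, 0, 2, 0, 2, 1, 3, 1, 3, 3, 0, 3, 0, 2, 1, 2, 1, 2, 1, 3, 1, 3, 1, 2, 0, 3, 0, 3, 1, 2, 1, 2, 0, 3, 0, 2, 1, 2, 1, 3, 0, 2, 0, 2, 0, 3, 0, 3, 0, 3, 1, 2, 1, 2, 2, 0, 2, 0, 3, 1, 3, 3, 1, 3, 3, 1, 3, 1, 3, 1, 3, 1, 3, 1, 3, 3, 0, 2, 1, 2, 2, 0, 3, 0, 2, 1, 2, 1, 3, 1, 3], 0, true),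
    ([0, 2, 0, 3, 0, 2, 1, 2, 2, 0, 3, 0, 3, 0, 3, 1, 2, 1, 2, 1, 3, 1, 3, 1, 2, 0, 2, 0, 3, 0, 3, 1, 2, 1, 3, 3, 0, 3, 1, 2, 2, 0, 2, 0, 2, 0, 2, 0, 2, 0, 2, 1, 3, 1, 3, 3, 0, 3, 0, 2, 1, 2, 1, 2, 1, 3, 1, 3, 1, 2, 0, 3, 0, 3, 1, 2, 1, 2, 0, 3, 0, 2, 1, 2, 1, 3, 0, 2, 0, 2, 0, 3, 0, 3, 0, 3, 1, 2, 1, 2, 2, 0, 2, 0, 3, 1, 3, 3, 1, 3, 3, 1, 3, 1, 3, 1, 3, 1, 3, 1, 3, 3, 0, 2, 1, 2, 2, 0, 3, 0, 2, 1, 2, 1], 4, false),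
    ([0, 2, 0, 3, 0, 2, 1, 2, 2, 0, 3, 0, 3, 0, 3, 1, 2, 1, 2, 1, 3, 1, 3, 1, 2, 0, 2, 0, 3, 0, 3, 1, 2, 1, 3, 3, 0, 3, 1, 2, 2, 0, 2, 0, 2, 0, 2, 0, 2, 0, 2, 1, 3, 1, 3, 3, 0, 3, 0, 2, 1, 2, 1, 2, 1, 3, 1, 3, 1, 2, 0, 3, 0, 3, 1, 2, 1, 2, 0, 3, 0, 2, 1, 2, 1, 3, 0, 2, 0, 2, 0, 3, 0, 3, 0, 3, 1, 2, 1, 2, 2, 0, 2, 0, 3, 1, 3, 3, 1, 3, 3, 1, 3, 1, 3, 1, 3, 1, 3, 1, 3, 3, 0, 2, 1, 2, 2, 0, 3, 0, 2, 1, 2, 1], 0, false),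
    ([0, 2, 0, 3, 0, 2, 1, 2, 2, 0, 3, 0, 3, 0, 3, 1, 2, 1, 2, 1, 3, 1, 3, 1, 2, 0, 2, 0, 3, 0, 3, 1, 2, 1, 3, 3, 0, 3, 1, 2, 2, 0, 2, 0, 2, 0, 2, 0, 2, 0, 2, 1, 3, 1, 3, 3, 0, 3, 0, 2, 1, 2, 1, 2, 1, 3, 1, 3, 1, 2, 0, 3, 0, 3, 1, 2, 1, 2, 0, 3, 0, 2, 1, 2, 1, 3, 0, 2, 0, 2, 0, 3, 0, 3, 0, 3, 1, 2, 1, 2, 2, 0, 2, 0, 3, 1, 3, 3, 1, 3, 3, 1, 3, 1, 3, 1, 3, 1, 3, 1, 3, 3, 0, 2, 1, 2, 2, 0, 3, 0, 2, 1], 0, false),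
    ([0, 2, 0, 3, 0, 2, 1, 2, 2, 0, 3, 0, 3, 0, 3, 1, 2, 1, 2, 1, 3, 1, 3, 1, 2, 0, 2, 0, 3, 0, 3, 1, 2, 1, 3, 3, 0, 3, 1, 2, 2, 0, 2, 0, 2, 0, 2, 0, 2, 0, 2, 1, 3, 1, 3, 3, 0, 3, 0, 2, 1, 2, 1, 2, 1, 3, 1, 3, 1, 2, 0, 3, 0, 3, 1, 2, 1, 2, 0, 3, 0, 2, 1, 2, 1, 3, 0, 2, 0, 2, 0, 3, 0, 3, 0, 3, 1, 2, 1, 2, 2, 0, 2, 0, 3, 1, 3, 3, 1, 3, 3, 1, 3, 1, 3, 1, 3, 1, 3, 1, 3, 3, 0, 2, 1, 2, 2, 0, 3], 0, true),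
    ([0, 2, 0, 3, 0, 2, 1, 2, 2, 0, 3, 0, 3, 0, 3, 1, 2, 1, 2, 1, 3, 1, 3, 1, 2, 0, 2, 0, 3, 0, 3, 1, 2, 1, 3, 3, 0, 3, 1, 2, 2, 0, 2, 0, 2, 0, 2, 0, 2, 0, 2, 1, 3, 1, 3, 3, 0, 3, 0, 2, 1, 2, 1, 2, 1, 3, 1, 3, 1, 2, 0, 3, 0, 3, 1, 2, 1, 2, 0, 3, 0, 2, 1, 2, 1, 3, 0, 2, 0, 2, 0, 3, 0, 3, 0, 3, 1, 2, 1, 2, 2, 0, 2, 0, 3, 1, 3, 3, 1, 3, 3, 1, 3, 1, 3, 1, 3, 1, 3, 1, 3, 3, 0, 2, 1, 2, 2], 0, true),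
    ([0, 2, 0, 3, 0, 2, 1, 2, 2, 0, 3, 0, 3, 0, 3, 1, 2, 1, 2, 1, 3, 1, 3, 1, 2, 0, 2, 0, 3, 0, 3, 1, 2, 1, 3, 3, 0, 3, 1, 2, 2, 0, 2, 0, 2, 0, 2, 0, 2, 0, 2, 1, 3, 1, 3, 3, 0, 3, 0, 2, 1, 2, 1, 2, 1, 3, 1, 3, 1, 2, 0, 3, 0, 3, 1, 2, 1, 2, 0, 3, 0, 2, 1, 2, 1, 3, 0, 2, 0, 2, 0, 3, 0, 3, 0, 3, 1, 2, 1, 2, 2, 0, 2, 0, 3, 1, 3, 3, 1, 3, 3, 1, 3, 1, 3, 1, 3, 1, 3, 1, 3, 3, 0, 2, 1, 2], 1, true),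
    ([0, 2, 0, 3, 0, 2, 1, 2, 2, 0, 3, 0, 3, 0, 3, 1, 2, 1, 2, 1, 3, 1, 3, 1, 2, 0, 2, 0, 3, 0, 3, 1, 2, 1, 3, 3, 0, 3, 1, 2, 2, 0, 2, 0, 2, 0, 2, 0, 2, 0, 2, 1, 3, 1, 3, 3, 0, 3, 0, 2, 1, 2, 1, 2, 1, 3, 1, 3, 1, 2, 0, 3, 0, 3, 1, 2, 1, 2, 0, 3, 0, 2, 1, 2, 1, 3, 0, 2, 0, 2, 0, 3, 0, 3, 0, 3, 1, 2, 1, 2, 2, 0, 2, 0, 3, 1, 3, 3, 1, 3, 3, 1, 3, 1, 3, 1, 3, 1, 3, 1, 3, 3, 0, 2, 1], 0, false),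
    ([0, 2, 0, 3, 0, 2, 1, 2, 2, 0, 3, 0, 3, 0, 3, 1, 2, 1, 2, 1, 3, 1, 3, 1, 2, 0, 2, 0, 3, 0, 3, 1, 2, 1, 3, 3, 0, 3, 1, 2, 2, 0, 2, 0, 2, 0, 2, 0, 2, 0, 2, 1, 3, 1, 3, 3, 0, 3, 0, 2, 1, 2, 1, 2, 1, 3, 1, 3, 1, 2, 0, 3, 0, 3, 1, 2, 1, 2, 0, 3, 0, 2, 1, 2, 1, 3, 0, 2, 0, 2, 0, 3, 0, 3, 0, 3, 1, 2, 1, 2, 2, 0, 2, 0, 3, 1, 3, 3, 1, 3, 3, 1, 3, 1, 3, 1, 3, 1, 3, 1, 3], 1, false),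
    ([0, 2, 0, 3, 0, 2, 1, 2, 2, 0, 3, 0, 3, 0, 3, 1, 2, 1, 2, 1, 3, 1, 3, 1, 2, 0, 2, 0, 3, 0, 3, 1, 2, 1, 3, 3, 0, 3, 1, 2, 2, 0, 2, 0, 2, 0, 2, 0, 2, 0, 2, 1, 3, 1, 3, 3, 0, 3, 0, 2, 1, 2, 1, 2, 1, 3, 1, 3, 1, 2, 0, 3, 0, 3, 1, 2, 1, 2, 0, 3, 0, 2, 1, 2, 1, 3, 0, 2, 0, 2, 0, 3, 0, 3, 0, 3, 1, 2, 1, 2, 2, 0, 2, 0, 3, 1, 3, 3, 1, 3, 3, 1, 3, 1, 3, 1], 0, false),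
    ([0, 2, 0, 3, 0, 2, 1, 2, 2, 0, 3, 0, 3, 0, 3, 1, 2, 1, 2, 1, 3, 1, 3, 1, 2, 0, 2, 0, 3, 0, 3, 1, 2, 1, 3, 3, 0, 3, 1, 2, 2, 0, 2, 0, 2, 0, 2, 0, 2, 0, 2, 1, 3, 1, 3, 3, 0, 3, 0, 2, 1, 2, 1, 2, 1, 3, 1, 3, 1, 2, 0, 3, 0, 3, 1, 2, 1, 2, 0, 3, 0, 2, 1, 2, 1, 3, 0, 2, 0, 2, 0, 3, 0, 3, 0, 3, 1, 2, 1, 2, 2, 0, 2, 0, 3, 1, 3, 3, 1, 3, 3, 1, 3, 1, 3, 3], 0, false),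
    ([0, 2, 0, 3, 0, 2, 1, 2, 2, 0, 3, 0, 3, 0, 3, 1, 2, 1, 2, 1, 3, 1, 3, 1, 2, 0, 2, 0, 3, 0, 3, 1, 2, 1, 3, 3, 0, 3, 1, 2, 2, 0, 2, 0, 2, 0, 2, 0, 2, 0, 2, 1, 3, 1, 3, 3, 0, 3, 0, 2, 1, 2, 1, 2, 1, 3, 1, 3, 1, 2, 0, 3, 0, 3, 1, 2, 1, 2, 0, 3, 0, 2, 1, 2, 1, 3, 0, 2, 0, 2, 0, 3, 0, 3, 0, 3, 1, 2, 1, 2, 2, 0, 2, 0, 3, 1, 3, 3, 1, 3, 3, 1, 3, 1, 3], 1, false),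
    ([0, 2, 0, 3, 0, 2, 1, 2, 2, 0, 3, 0, 3, 0, 3, 1, 2, 1, 2, 1, 3, 1, 3, 1, 2, 0, 2, 0, 3, 0, 3, 1, 2, 1, 3, 3, 0, 3, 1, 2, 2, 0, 2, 0, 2, 0, 2, 0, 2, 0, 2, 1, 3, 1, 3, 3, 0, 3, 0, 2, 1, 2, 1, 2, 1, 3, 1, 3, 1, 2, 0, 3, 0, 3, 1, 2, 1, 2, 0, 3, 0, 2, 1, 2, 1, 3, 0, 2, 0, 2, 0, 3, 0, 3, 0, 3, 1, 2, 1, 2, 2, 0, 2, 0, 3, 1, 3, 3, 1, 3, 3, 1, 3, 1], 0, false),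
    ([0, 2, 0, 3, 0, 2, 1, 2, 2, 0, 3, 0, 3, 0, 3, 1, 2, 1, 2, 1, 3, 1, 3, 1, 2, 0, 2, 0, 3, 0, 3, 1, 2, 1, 3, 3, 0, 3, 1, 2, 2, 0, 2, 0, 2, 0, 2, 0, 2, 0, 2, 1, 3, 1, 3, 3, 0, 3, 0, 2, 1, 2, 1, 2, 1, 3, 1, 3, 1, 2, 0, 3, 0, 3, 1, 2, 1, 2, 0, 3, 0, 2, 1, 2, 1, 3, 0, 2, 0, 2, 0, 3, 0, 3, 0, 3, 1, 2, 1, 2, 2, 0, 2, 0, 3, 1, 3, 3, 1, 3, 3, 1], 0, false),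
    ([0, 2, 0, 3, 0, 2, 1, 2, 2, 0, 3, 0, 3, 0, 3, 1, 2, 1, 2, 1, 3, 1, 3, 1, 2, 0, 2, 0, 3, 0, 3, 1, 2, 1, 3, 3, 0, 3, 1, 2, 2, 0, 2, 0, 2, 0, 2, 0, 2, 0, 2, 1, 3, 1, 3, 3, 0, 3, 0, 2, 1, 2, 1, 2, 1, 3, 1, 3, 1, 2, 0, 3, 0, 3, 1, 2, 1, 2, 0, 3, 0, 2, 1, 2, 1, 3, 0, 2, 0, 2, 0, 3, 0, 3, 0, 3, 1, 2, 1, 2, 2, 0, 2, 0, 3, 1, 3, 3, 1, 3], 1, false),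
    ([0, 2, 0, 3, 0, 2, 1, 2, 2, 0, 3, 0, 3, 0, 3, 1, 2, 1, 2, 1, 3, 1, 3, 1, 2, 0, 2, 0, 3, 0, 3, 1, 2, 1, 3, 3, 0, 3, 1, 2, 2, 0, 2, 0, 2, 0, 2, 0, 2, 0, 2, 1, 3, 1, 3, 3, 0, 3, 0, 2, 1, 2, 1, 2, 1, 3, 1, 3, 1, 2, 0, 3, 0, 3, 1, 2, 1, 2, 0, 3, 0, 2, 1, 2, 1, 3, 0, 2, 0, 2, 0, 3, 0, 3, 0, 3, 1, 2, 1, 2, 2, 0, 2, 0, 3, 1, 3, 3, 1], 0, false),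
    ([0, 2, 0, 3, 0, 2, 1, 2, 2, 0, 3, 0, 3, 0, 3, 1, 2, 1, 2, 1, 3, 1, 3, 1, 2, 0, 2, 0, 3, 0, 3, 1, 2, 1, 3, 3, 0, 3, 1, 2, 2, 0, 2, 0, 2, 0, 2, 0, 2, 0, 2, 1, 3, 1, 3, 3, 0, 3, 0, 2, 1, 2, 1, 2, 1, 3, 1, 3, 1, 2, 0, 3, 0, 3, 1, 2, 1, 2, 0, 3, 0, 2, 1, 2, 1, 3, 0, 2, 0, 2, 0, 3, 0, 3, 0, 3, 1, 2, 1, 2, 2, 0, 2, 0, 3, 1, 3], 1, false),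
    ([0, 2, 0, 3, 0, 2, 1, 2, 2, 0, 3, 0, 3, 0, 3, 1, 2, 1, 2, 1, 3, 1, 3, 1, 2, 0, 2, 0, 3, 0, 3, 1, 2, 1, 3, 3, 0, 3, 1, 2, 2, 0, 2, 0, 2, 0, 2, 0, 2, 0, 2, 1, 3, 1, 3, 3, 0, 3, 0, 2, 1, 2, 1, 2, 1, 3, 1, 3, 1, 2, 0, 3, 0, 3, 1, 2, 1, 2, 0, 3, 0, 2, 1, 2, 1, 3, 0, 2, 0, 2, 0, 3, 0, 3, 0, 3, 1, 2, 1, 2, 2, 0, 2, 0, 3, 1], 0, false),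
    ([0, 2, 0, 3, 0, 2, 1, 2, 2, 0, 3, 0, 3, 0, 3, 1, 2, 1, 2, 1, 3, 1, 3, 1, 2, 0, 2, 0, 3, 0, 3, 1, 2, 1, 3, 3, 0, 3, 1, 2, 2, 0, 2, 0, 2, 0, 2, 0, 2, 0, 2, 1, 3, 1, 3, 3, 0, 3, 0, 2, 1, 2, 1, 2, 1, 3, 1, 3, 1, 2, 0, 3, 0, 3, 1, 2, 1, 2, 0, 3, 0, 2, 1, 2, 1, 3, 0, 2, 0, 2, 0, 3, 0, 3, 0, 3, 1, 2, 1, 2], 1, true),
    ([0, 2, 0, 3, 0, 2, 1, 2, 2, 0, 3, 0, 3, 0, 3, 1, 2, 1, 2, 1, 3, 1, 3, 1, 2, 0, 2, 0, 3, 0, 3, 1, 2, 1, 3, 3, 0, 3, 1, 2, 2, 0, 2, 0, 2, 0, 2, 0, 2, 0, 2, 1, 3, 1, 3, 3, 0, 3, 0, 2, 1, 2, 1, 2, 1, 3, 1, 3, 1, 2, 0, 3, 0, 3, 1, 2, 1, 2, 0, 3, 0, 2, 1, 2, 1, 3, 0, 2, 0, 2, 0, 3, 0, 3, 0, 3, 1, 2, 1], 0, false),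
    ([0, 2, 0, 3, 0, 2, 1, 2, 2, 0, 3, 0, 3, 0, 3, 1, 2, 1, 2, 1, 3, 1, 3, 1, 2, 0, 2, 0, 3, 0, 3, 1, 2, 1, 3, 3, 0, 3, 1, 2, 2, 0, 2, 0, 2, 0, 2, 0, 2, 0, 2, 1, 3, 1, 3, 3, 0, 3, 0, 2, 1, 2, 1, 2, 1, 3, 1, 3, 1, 2, 0, 3, 0, 3, 1, 2, 1, 2, 0, 3, 0, 2, 1, 2, 1, 3, 0, 2, 0, 2, 0, 3, 0, 3, 0, 3, 1], 0, false),
    ([0, 2, 0, 3, 0, 2, 1, 2, 2, 0, 3, 0, 3, 0, 3, 1, 2, 1, 2, 1, 3, 1, 3, 1, 2, 0, 2, 0, 3, 0, 3, 1, 2, 1, 3, 3, 0, 3, 1, 2, 2, 0, 2, 0, 2, 0, 2, 0, 2, 0, 2, 1, 3, 1, 3, 3, 0, 3, 0, 2, 1, 2, 1, 2, 1, 3, 1, 3, 1, 2, 0, 3, 0, 3, 1, 2, 1, 2, 0, 3, 0, 2, 1, 2, 1, 3, 0, 2, 0, 2, 0, 3, 0], 1, false),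
    ([0, 2, 0, 3, 0, 2, 1, 2, 2, 0, 3, 0, 3, 0, 3, 1, 2, 1, 2, 1, 3, 1, 3, 1, 2, 0, 2, 0, 3, 0, 3, 1, 2, 1, 3, 3, 0, 3, 1, 2, 2, 0, 2, 0, 2, 0, 2, 0, 2, 0, 2, 1, 3, 1, 3, 3, 0, 3, 0, 2, 1, 2, 1, 2, 1, 3, 1, 3, 1, 2, 0, 3, 0, 3, 1, 2, 1, 2, 0, 3, 0, 2, 1, 2, 1, 3, 0, 2, 0, 2, 0, 3, 0, 2], 0, false),
    ([0, 2, 0, 3, 0, 2, 1, 2, 2, 0, 3, 0, 3, 0, 3, 1, 2, 1, 2, 1, 3, 1, 3, 1, 2, 0, 2, 0, 3, 0, 3, 1, 2, 1, 3, 3, 0, 3, 1, 2, 2, 0, 2, 0, 2, 0, 2, 0, 2, 0, 2, 1, 3, 1, 3, 3, 0, 3, 0, 2, 1, 2, 1, 2, 1, 3, 1, 3, 1, 2, 0, 3, 0, 3, 1, 2, 1, 2, 0, 3, 0, 2, 1, 2, 1, 3, 0, 2, 0, 2, 0, 3, 0, 2], 0, true),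
    ([0, 2, 0, 3, 0, 2, 1, 2, 2, 0, 3, 0, 3, 0, 3, 1, 2, 1, 2, 1, 3, 1, 3, 1, 2, 0, 2, 0, 3, 0, 3, 1, 2, 1, 3, 3, 0, 3, 1, 2, 2, 0, 2, 0, 2, 0, 2, 0, 2, 0, 2, 1, 3, 1, 3, 3, 0, 3, 0, 2, 1, 2, 1, 2, 1, 3, 1, 3, 1, 2, 0, 3, 0, 3, 1, 2, 1, 2, 0, 3, 0, 2, 1, 2, 1, 3, 0, 2, 0, 2, 0, 3], 0, true),
    ([0, 2, 0, 3, 0, 2, 1, 2, 2, 0, 3, 0, 3, 0, 3, 1, 2, 1, 2, 1, 3, 1, 3, 1, 2, 0, 2, 0, 3, 0, 3, 1, 2, 1, 3, 3, 0, 3, 1, 2, 2, 0, 2, 0, 2, 0, 2, 0, 2, 0, 2, 1, 3, 1, 3, 3, 0, 3, 0, 2, 1, 2, 1, 2, 1, 3, 1, 3, 1, 2, 0, 3, 0, 3, 1, 2, 1, 2, 0, 3, 0, 2, 1, 2, 1, 3, 0, 2, 0, 2], 0, true),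
    ([0, 2, 0, 3, 0, 2, 1, 2, 2, 0, 3, 0, 3, 0, 3, 1, 2, 1, 2, 1, 3, 1, 3, 1, 2, 0, 2, 0, 3, 0, 3, 1, 2, 1, 3, 3, 0, 3, 1, 2, 2, 0, 2, 0, 2, 0, 2, 0, 2, 0, 2, 1, 3, 1, 3, 3, 0, 3, 0, 2, 1, 2, 1, 2, 1, 3, 1, 3, 1, 2, 0, 3, 0, 3, 1, 2, 1, 2, 0, 3, 0, 2, 1, 2, 1, 3, 0, 2], 0, true),
    ([0, 2, 0, 3, 0, 2, 1, 2, 2, 0, 3, 0, 3, 0, 3, 1, 2, 1, 2, 1, 3, 1, 3, 1, 2, 0, 2, 0, 3, 0, 3, 1, 2, 1, 3, 3, 0, 3, 1, 2, 2, 0, 2, 0, 2, 0, 2, 0, 2, 0, 2, 1, 3, 1, 3, 3, 0, 3, 0, 2, 1, 2, 1, 2, 1, 3, 1, 3, 1, 2, 0, 3, 0, 3, 1, 2, 1, 2, 0, 3, 0, 2, 1, 2, 1, 3], 0, true),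
    ([0, 2, 0, 3, 0, 2, 1, 2, 2, 0, 3, 0, 3, 0, 3, 1, 2, 1, 2, 1, 3, 1, 3, 1, 2, 0, 2, 0, 3, 0, 3, 1, 2, 1, 3, 3, 0, 3, 1, 2, 2, 0, 2, 0, 2, 0, 2, 0, 2, 0, 2, 1, 3, 1, 3, 3, 0, 3, 0, 2, 1, 2, 1, 2, 1, 3, 1, 3, 1, 2, 0, 3, 0, 3, 1, 2, 1, 2, 0, 3], 0, true),
    ([0, 2, 0, 3, 0, 2, 1, 2, 2, 0, 3, 0, 3, 0, 3, 1, 2, 1, 2, 1, 3, 1, 3, 1, 2, 0, 2, 0, 3, 0, 3, 1, 2, 1, 3, 3, 0, 3, 1, 2, 2, 0, 2, 0, 2, 0, 2, 0, 2, 0, 2, 1, 3, 1, 3, 3, 0, 3, 0, 2, 1, 2, 1, 2, 1, 3, 1, 3, 1, 2, 0, 3, 0, 3, 1, 2, 1, 2], 0, true),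
    ([0, 2, 0, 3, 0, 2, 1, 2, 2, 0, 3, 0, 3, 0, 3, 1, 2, 1, 2, 1, 3, 1, 3, 1, 2, 0, 2, 0, 3, 0, 3, 1, 2, 1, 3, 3, 0, 3, 1, 2, 2, 0, 2, 0, 2, 0, 2, 0, 2, 0, 2, 1, 3, 1, 3, 3, 0, 3, 0, 2, 1, 2, 1, 2, 1, 3, 1, 3, 1, 2, 0, 3, 0, 3, 1], 6, false),
    ([0, 2, 0, 3, 0, 2, 1, 2, 2, 0, 3, 0, 3, 0, 3, 1, 2, 1, 2, 1, 3, 1, 3, 1, 2, 0, 2, 0, 3, 0, 3, 1, 2, 1, 3, 3, 0, 3, 1, 2, 2, 0, 2, 0, 2, 0, 2, 0, 2, 0, 2, 1, 3, 1, 3, 3, 0, 3, 0, 2, 1, 2, 1, 2, 1, 3, 1, 3, 1, 2, 0, 3], 0, true),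
    ([0, 2, 0, 3, 0, 2, 1, 2, 2, 0, 3, 0, 3, 0, 3, 1, 2, 1, 2, 1, 3, 1, 3, 1, 2, 0, 2, 0, 3, 0, 3, 1, 2, 1, 3, 3, 0, 3, 1, 2, 2, 0, 2, 0, 2, 0, 2, 0, 2, 0, 2, 1, 3, 1, 3, 3, 0, 3, 0, 2, 1, 2, 1, 2, 1, 3, 1, 3, 1, 2], 0, true),
    ([0, 2, 0, 3, 0, 2, 1, 2, 2, 0, 3, 0, 3, 0, 3, 1, 2, 1, 2, 1, 3, 1, 3, 1, 2, 0, 2, 0, 3, 0, 3, 1, 2, 1, 3, 3, 0, 3, 1, 2, 2, 0, 2, 0, 2, 0, 2, 0, 2, 0, 2, 1, 3, 1, 3, 3, 0, 3, 0, 2, 1, 2], 1, true),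
    ([0, 2, 0, 3, 0, 2, 1, 2, 2, 0, 3, 0, 3, 0, 3, 1, 2, 1, 2, 1, 3, 1, 3, 1, 2, 0, 2, 0, 3, 0, 3, 1, 2, 1, 3, 3, 0, 3, 1, 2, 2, 0, 2, 0, 2, 0, 2, 0, 2, 0, 2, 1, 3, 1, 3, 3, 0, 3, 0, 2, 1], 0, false),
    ([0, 2, 0, 3, 0, 2, 1, 2, 2, 0, 3, 0, 3, 0, 3, 1, 2, 1, 2, 1, 3, 1, 3, 1, 2, 0, 2, 0, 3, 0, 3, 1, 2, 1, 3, 3, 0, 3, 1, 2, 2, 0, 2, 0, 2, 0, 2, 0, 2, 0, 2, 1, 3, 1, 3], 1, false),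
    ([0, 2, 0, 3, 0, 2, 1, 2, 2, 0, 3, 0, 3, 0, 3, 1, 2, 1, 2, 1, 3, 1, 3, 1, 2, 0, 2, 0, 3, 0, 3, 1, 2, 1, 3, 3, 0, 3, 1, 2, 2, 0, 2, 0, 2, 0, 2, 0, 2, 0, 2, 1, 3, 1], 0, false),
    ([0, 2, 0, 3, 0, 2, 1, 2, 2, 0, 3, 0, 3, 0, 3, 1, 2, 1, 2, 1, 3, 1, 3, 1, 2, 0, 2, 0, 3, 0, 3, 1, 2, 1, 3, 3, 0, 3, 1, 2, 2, 0, 2, 0, 2, 0, 2, 0, 2, 0, 2, 1], 0, false),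
    ([0, 2, 0, 3, 0, 2, 1, 2, 2, 0, 3, 0, 3, 0, 3, 1, 2, 1, 2, 1, 3, 1, 3, 1, 2, 0, 2, 0, 3, 0, 3, 1, 2, 1, 3, 3, 0, 3, 1, 2, 2, 0, 2, 0, 2, 0], 1, true),
    ([0, 2, 0, 3, 0, 2, 1, 2, 2, 0, 3, 0, 3, 0, 3, 1, 2, 1, 2, 1, 3, 1, 3, 1, 2, 0, 2, 0, 3, 0, 3, 1, 2, 1, 3, 3, 0, 3, 1, 2, 2, 0, 2, 0, 2, 0, 3], 0, false),
    ([0, 2, 0, 3, 0, 2, 1, 2, 2, 0, 3, 0, 3, 0, 3, 1, 2, 1, 2, 1, 3, 1, 3, 1, 2, 0, 2, 0, 3, 0, 3, 1, 2, 1, 3, 3, 0, 3, 1, 2, 2, 0, 2, 0, 2, 0, 3], 0, true),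
    ([0, 2, 0, 3, 0, 2, 1, 2, 2, 0, 3, 0, 3, 0, 3, 1, 2, 1, 2, 1, 3, 1, 3, 1, 2, 0, 2, 0, 3, 0, 3, 1, 2, 1, 3, 3, 0, 3, 1, 2, 2, 0, 2, 0, 2], 0, true),
    ([0, 2, 0, 3, 0, 2, 1, 2, 2, 0, 3, 0, 3, 0, 3, 1, 2, 1, 2, 1, 3, 1, 3, 1, 2, 0, 2, 0, 3, 0, 3, 1, 2, 1, 3, 3, 0, 3, 1, 2], 1, true),
    ([0, 2, 0, 3, 0, 2, 1, 2, 2, 0, 3, 0, 3, 0, 3, 1, 2, 1, 2, 1, 3, 1, 3, 1, 2, 0, 2, 0, 3, 0, 3, 1, 2, 1, 3, 3], 0, true),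
    ([0, 2, 0, 3, 0, 2, 1, 2, 2, 0, 3, 0, 3, 0, 3, 1, 2, 1, 2, 1, 3, 1, 3, 1, 2, 0, 2, 0, 3, 0, 3, 1, 2, 1, 3], 1, false),
    ([0, 2, 0, 3, 0, 2, 1, 2, 2, 0, 3, 0, 3, 0, 3, 1, 2, 1, 2, 1, 3, 1, 3, 1, 2, 0, 2, 0, 3, 0, 3, 1, 2, 1], 0, false),
    ([0, 2, 0, 3, 0, 2, 1, 2, 2, 0, 3, 0, 3, 0, 3, 1, 2, 1, 2, 1, 3, 1, 3, 1, 2, 0, 2, 0, 3, 0, 3, 1], 0, false),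
    ([0, 2, 0, 3, 0, 2, 1, 2, 2, 0, 3, 0, 3, 0, 3, 1, 2, 1, 2, 1, 3, 1, 3, 1, 2, 0, 2, 0, 3], 0, true),
    ([0, 2, 0, 3, 0, 2, 1, 2, 2, 0, 3, 0, 3, 0, 3, 1, 2, 1, 2, 1, 3, 1, 3, 1, 2, 0, 2], 0, true),
    ([0, 2, 0, 3, 0, 2, 1, 2, 2, 0, 3, 0, 3, 0, 3, 1, 2, 1, 2, 1, 3, 1, 3, 1, 2, 0, 2], 4, true),
    ([0, 2, 0, 3, 0, 2, 1, 2, 2, 0, 3, 0, 3, 0, 3, 1, 2, 1, 2, 1, 3, 1, 3, 1], 0, false),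
    ([0, 2, 0, 3, 0, 2, 1, 2, 2, 0, 3, 0, 3, 0, 3, 1, 2, 1], 0, false),
    ([0, 2, 0, 3, 0, 2, 1, 2, 2, 0, 3, 0, 3, 0, 3, 1], 0, false),
    ([0, 2, 0, 3, 0, 2, 1, 2, 2, 0, 3, 0, 3], 0, true),
    ([0, 2, 0, 3, 0, 2, 1, 2, 2, 0, 3], 0, true),
    ([0, 2, 0, 3, 0, 2, 1, 2, 2, 0], 1, false),
    ([0, 2, 0, 3, 0, 2, 1, 2, 2, 0, 2], 0, false),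
    ([0, 2, 0, 3, 0, 2, 1, 2, 2, 0, 2, 0, 3], 0, false),
    ([0, 2, 0, 3, 0, 2, 1, 2], 1, true),
    ([0, 2, 0, 3, 0, 2, 1], 0, false),
    ([0, 2, 0], 1, false),
    ([0, 2, 0, 2], 0, false),
    ([0, 2, 0, 2, 0], 5, true)]

/-- The conjugates of relators for relation 18. -/
def conj18 : List (List ℕ × ℕ × Bool) :=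
  [([0, 2, 0, 2, 0, 2, 0, 2, 0, 2, 0, 2, 2, 0, 2, 1, 3, 1, 3, 3, 0, 3, 0, 2, 1, 2, 1, 2, 2, 0, 2, 0, 3, 1, 3, 3, 1, 3, 1, 3, 1, 3, 3, 0, 3, 0, 3, 1, 2, 1, 2, 1, 3, 1, 3, 1, 2, 0, 2, 0, 3, 0, 3, 1, 2, 1, 3, 3, 0, 3, 1, 2, 2, 0, 2, 0, 2, 0, 2, 0, 2, 0, 2, 2, 0, 2, 1, 3, 1, 3, 1, 3, 1, 3, 1, 2, 0, 3, 0, 3, 1, 2, 1, 3, 0, 3, 0, 2, 1, 2, 1, 3, 0, 2, 0, 2, 0, 3, 0, 3, 0, 3, 1, 2, 1, 2], 1, true),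
    ([0, 2, 0, 2, 0, 2, 0, 2, 0, 2, 0, 2, 2, 0, 2, 1, 3, 1, 3, 3, 0, 3, 0, 2, 1, 2, 1, 2, 2, 0, 2, 0, 3, 1, 3, 3, 1, 3, 1, 3, 1, 3, 3, 0, 3, 0, 3, 1, 2, 1, 2, 1, 3, 1, 3, 1, 2, 0, 2, 0, 3, 0, 3, 1, 2, 1, 3, 3, 0, 3, 1, 2, 2, 0, 2, 0, 2, 0, 2, 0, 2, 0, 2, 2, 0, 2, 1, 3, 1, 3, 1, 3, 1, 3, 1, 2, 0, 3, 0, 3, 1, 2, 1, 3, 0, 3, 0, 2, 1, 2, 1, 3, 0, 2, 0, 2, 0, 3, 0, 3, 0, 3, 1, 2, 1], 0, false),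
    ([0, 2, 0, 2, 0, 2, 0, 2, 0, 2, 0, 2, 2, 0, 2, 1, 3, 1, 3, 3, 0, 3, 0, 2, 1, 2, 1, 2, 2, 0, 2, 0, 3, 1, 3, 3, 1, 3, 1, 3, 1, 3, 3, 0, 3, 0, 3, 1, 2, 1, 2, 1, 3, 1, 3, 1, 2, 0, 2, 0, 3, 0, 3, 1, 2, 1, 3, 3, 0, 3, 1, 2, 2, 0, 2, 0, 2, 0, 2, 0, 2, 0, 2, 2, 0, 2, 1, 3, 1, 3, 1, 3, 1, 3, 1, 2, 0, 3, 0, 3, 1, 2, 1, 3, 0, 3, 0, 2, 1, 2, 1, 3, 0, 2, 0, 2, 0, 3, 0, 3, 0, 3, 1], 0, false),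
    ([0, 2, 0, 2, 0, 2, 0, 2, 0, 2, 0, 2, 2, 0, 2, 1, 3, 1, 3, 3, 0, 3, 0, 2, 1, 2, 1, 2, 2, 0, 2, 0, 3, 1, 3, 3, 1, 3, 1, 3, 1, 3, 3, 0, 3, 0, 3, 1, 2, 1, 2, 1, 3, 1, 3, 1, 2, 0, 2, 0, 3, 0, 3, 1, 2, 1, 3, 3, 0, 3, 1, 2, 2, 0, 2, 0, 2, 0, 2, 0, 2, 0, 2, 2, 0, 2, 1, 3, 1, 3, 1, 3, 1, 3, 1, 2, 0, 3, 0, 3, 1, 2, 1, 3, 0, 3, 0, 2, 1, 2, 1, 3, 0, 2, 0, 2, 0, 3, 0], 1, false),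
    ([0, 2, 0, 2, 0, 2, 0, 2, 0, 2, 0, 2, 2, 0, 2, 1, 3, 1, 3, 3, 0, 3, 0, 2, 1, 2, 1, 2, 2, 0, 2, 0, 3, 1, 3, 3, 1, 3, 1, 3, 1, 3, 3, 0, 3, 0, 3, 1, 2, 1, 2, 1, 3, 1, 3, 1, 2, 0, 2, 0, 3, 0, 3, 1, 2, 1, 3, 3, 0, 3, 1, 2, 2, 0, 2, 0, 2, 0, 2, 0, 2, 0, 2, 2, 0, 2, 1, 3, 1, 3, 1, 3, 1, 3, 1, 2, 0, 3, 0, 3, 1, 2, 1, 3, 0, 3, 0, 2, 1, 2, 1, 3, 0, 2, 0, 2, 0, 3, 0, 2], 0, false),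
    ([0, 2, 0, 2, 0, 2, 0, 2, 0, 2, 0, 2, 2, 0, 2, 1, 3, 1, 3, 3, 0, 3, 0, 2, 1, 2, 1, 2, 2, 0, 2, 0, 3, 1, 3, 3, 1, 3, 1, 3, 1, 3, 3, 0, 3, 0, 3, 1, 2, 1, 2, 1, 3, 1, 3, 1, 2, 0, 2, 0, 3, 0, 3, 1, 2, 1, 3, 3, 0, 3, 1, 2, 2, 0, 2, 0, 2, 0, 2, 0, 2, 0, 2, 2, 0, 2, 1, 3, 1, 3, 1, 3, 1, 3, 1, 2, 0, 3, 0, 3, 1, 2, 1, 3, 0, 3, 0, 2, 1, 2, 1], 0, false),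
    ([0, 2, 0, 2, 0, 2, 0, 2, 0, 2, 0, 2, 2, 0, 2, 1, 3, 1, 3, 3, 0, 3, 0, 2, 1, 2, 1, 2, 2, 0, 2, 0, 3, 1, 3, 3, 1, 3, 1, 3, 1, 3, 3, 0, 3, 0, 3, 1, 2, 1, 2, 1, 3, 1, 3, 1, 2, 0, 2, 0, 3, 0, 3, 1, 2, 1, 3, 3, 0, 3, 1, 2, 2, 0, 2, 0, 2, 0, 2, 0, 2, 0, 2, 2, 0, 2, 1, 3, 1, 3, 1, 3, 1, 3, 1, 2, 0, 3, 0, 3, 1, 2, 1, 3, 0, 3, 0, 2, 1], 0, false),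
    ([0, 2, 0, 2, 0, 2, 0, 2, 0, 2, 0, 2, 2, 0, 2, 1, 3, 1, 3, 3, 0, 3, 0, 2, 1, 2, 1, 2, 2, 0, 2, 0, 3, 1, 3, 3, 1, 3, 1, 3, 1, 3, 3, 0, 3, 0, 3, 1, 2, 1, 2, 1, 3, 1, 3, 1, 2, 0, 2, 0, 3, 0, 3, 1, 2, 1, 3, 3, 0, 3, 1, 2, 2, 0, 2, 0, 2, 0, 2, 0, 2, 0, 2, 2, 0, 2, 1, 3, 1, 3, 1, 3, 1, 3, 1, 2, 0, 3, 0, 3, 1, 2, 1, 3, 0, 3], 6, true),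
    ([0, 2, 0, 2, 0, 2, 0, 2, 0, 2, 0, 2, 2, 0, 2, 1, 3, 1, 3, 3, 0, 3, 0, 2, 1, 2, 1, 2, 2, 0, 2, 0, 3, 1, 3, 3, 1, 3, 1, 3, 1, 3, 3, 0, 3, 0, 3, 1, 2, 1, 2, 1, 3, 1, 3, 1, 2, 0, 2, 0, 3, 0, 3, 1, 2, 1, 3, 3, 0, 3, 1, 2, 2, 0, 2, 0, 2, 0, 2, 0, 2, 0, 2, 2, 0, 2, 1, 3, 1, 3, 1, 3, 1, 3, 1, 2, 0, 3, 0, 3, 1, 2, 1], 0, false),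
    ([0, 2, 0, 2, 0, 2, 0, 2, 0, 2, 0, 2, 2, 0, 2, 1, 3, 1, 3, 3, 0, 3, 0, 2, 1, 2, 1, 2, 2, 0, 2, 0, 3, 1, 3, 3, 1, 3, 1, 3, 1, 3, 3, 0, 3, 0, 3, 1, 2, 1, 2, 1, 3, 1, 3, 1, 2, 0, 2, 0, 3, 0, 3, 1, 2, 1, 3, 3, 0, 3, 1, 2, 2, 0, 2, 0, 2, 0, 2, 0, 2, 0, 2, 2, 0, 2, 1, 3, 1, 3, 1, 3, 1, 3, 1, 2, 0, 3, 0, 3, 1], 0, false),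
    ([0, 2, 0, 2, 0, 2, 0, 2, 0, 2, 0, 2, 2, 0, 2, 1, 3, 1, 3, 3, 0, 3, 0, 2, 1, 2, 1, 2, 2, 0, 2, 0, 3, 1, 3, 3, 1, 3, 1, 3, 1, 3, 3, 0, 3, 0, 3, 1, 2, 1, 2, 1, 3, 1, 3, 1, 2, 0, 2, 0, 3, 0, 3, 1, 2, 1, 3, 3, 0, 3, 1, 2, 2, 0, 2, 0, 2, 0, 2, 0, 2, 0, 2, 2, 0, 2, 1, 3, 1, 3, 1, 3, 1, 3, 1], 0, false),
    ([0, 2, 0, 2, 0, 2, 0, 2, 0, 2, 0, 2, 2, 0, 2, 1, 3, 1, 3, 3, 0, 3, 0, 2, 1, 2, 1, 2, 2, 0, 2, 0, 3, 1, 3, 3, 1, 3, 1, 3, 1, 3, 3, 0, 3, 0, 3, 1, 2, 1, 2, 1, 3, 1, 3, 1, 2, 0, 2, 0, 3, 0, 3, 1, 2, 1, 3, 3, 0, 3, 1, 2, 2, 0, 2, 0, 2, 0, 2, 0, 2, 0, 2, 2, 0, 2, 1, 3, 1, 3, 1, 3, 1], 0, false),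
    ([0, 2, 0, 2, 0, 2, 0, 2, 0, 2, 0, 2, 2, 0, 2, 1, 3, 1, 3, 3, 0, 3, 0, 2, 1, 2, 1, 2, 2, 0, 2, 0, 3, 1, 3, 3, 1, 3, 1, 3, 1, 3, 3, 0, 3, 0, 3, 1, 2, 1, 2, 1, 3, 1, 3, 1, 2, 0, 2, 0, 3, 0, 3, 1, 2, 1, 3, 3, 0, 3, 1, 2, 2, 0, 2, 0, 2, 0, 2, 0, 2, 0, 2, 2, 0, 2, 1, 3, 1, 3, 1], 0, false),
    ([0, 2, 0, 2, 0, 2, 0, 2, 0, 2, 0, 2, 2, 0, 2, 1, 3, 1, 3, 3, 0, 3, 0, 2, 1, 2, 1, 2, 2, 0, 2, 0, 3, 1, 3, 3, 1, 3, 1, 3, 1, 3, 3, 0, 3, 0, 3, 1, 2, 1, 2, 1, 3, 1, 3, 1, 2, 0, 2, 0, 3, 0, 3, 1, 2, 1, 3, 3, 0, 3, 1, 2, 2, 0, 2, 0, 2, 0, 2, 0, 2, 0, 2, 2, 0, 2, 1, 3, 1, 3, 3], 0, false),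
    ([0, 2, 0, 2, 0, 2, 0, 2, 0, 2, 0, 2, 2, 0, 2, 1, 3, 1, 3, 3, 0, 3, 0, 2, 1, 2, 1, 2, 2, 0, 2, 0, 3, 1, 3, 3, 1, 3, 1, 3, 1, 3, 3, 0, 3, 0, 3, 1, 2, 1, 2, 1, 3, 1, 3, 1, 2, 0, 2, 0, 3, 0, 3, 1, 2, 1, 3, 3, 0, 3, 1, 2, 2, 0, 2, 0, 2, 0, 2, 0, 2, 0, 2, 2, 0, 2, 1, 3, 1, 3, 3, 0, 2], 0, false),
    ([0, 2, 0, 2, 0, 2, 0, 2, 0, 2, 0, 2, 2, 0, 2, 1, 3, 1, 3, 3, 0, 3, 0, 2, 1, 2, 1, 2, 2, 0, 2, 0, 3, 1, 3, 3, 1, 3, 1, 3, 1, 3, 3, 0, 3, 0, 3, 1, 2, 1, 2, 1, 3, 1, 3, 1, 2, 0, 2, 0, 3, 0, 3, 1, 2, 1, 3, 3, 0, 3, 1, 2, 2, 0, 2, 0, 2, 0, 2, 0, 2, 0, 2, 2, 0, 2, 1, 3, 1, 3], 1, false),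
    ([0, 2, 0, 2, 0, 2, 0, 2, 0, 2, 0, 2, 2, 0, 2, 1, 3, 1, 3, 3, 0, 3, 0, 2, 1, 2, 1, 2, 2, 0, 2, 0, 3, 1, 3, 3, 1, 3, 1, 3, 1, 3, 3, 0, 3, 0, 3, 1, 2, 1, 2, 1, 3, 1, 3, 1, 2, 0, 2, 0, 3, 0, 3, 1, 2, 1, 3, 3, 0, 3, 1, 2, 2, 0, 2, 0, 2, 0, 2, 0, 2, 0, 2, 2, 0, 2, 1, 3, 1], 0, false),
    ([0, 2, 0, 2, 0, 2, 0, 2, 0, 2, 0, 2, 2, 0, 2, 1, 3, 1, 3, 3, 0, 3, 0, 2, 1, 2, 1, 2, 2, 0, 2, 0, 3, 1, 3, 3, 1, 3, 1, 3, 1, 3, 3, 0, 3, 0, 3, 1, 2, 1, 2, 1, 3, 1, 3, 1, 2, 0, 2, 0, 3, 0, 3, 1, 2, 1, 3, 3, 0, 3, 1, 2, 2, 0, 2, 0, 2, 0, 2, 0, 2, 0, 2, 2, 0, 2, 1], 0, false),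
    ([0, 2, 0, 2, 0, 2, 0, 2, 0, 2, 0, 2, 2, 0, 2, 1, 3, 1, 3, 3, 0, 3, 0, 2, 1, 2, 1, 2, 2, 0, 2, 0, 3, 1, 3, 3, 1, 3, 1, 3, 1, 3, 3, 0, 3, 0, 3, 1, 2, 1, 2, 1, 3, 1, 3, 1, 2, 0, 2, 0, 3, 0, 3, 1, 2, 1, 3, 3, 0, 3, 1, 2, 2, 0, 2, 0, 2, 0, 2, 0, 2, 0, 2], 1, true),
    ([0, 2, 0, 2, 0, 2, 0, 2, 0, 2, 0, 2, 2, 0, 2, 1, 3, 1, 3, 3, 0, 3, 0, 2, 1, 2, 1, 2, 2, 0, 2, 0, 3, 1, 3, 3, 1, 3, 1, 3, 1, 3, 3, 0, 3, 0, 3, 1, 2, 1, 2, 1, 3, 1, 3, 1, 2, 0, 2, 0, 3, 0, 3, 1, 2, 1, 3, 3, 0, 3, 1, 2, 2, 0, 2, 0, 2, 0], 1, true),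
    ([0, 2, 0, 2, 0, 2, 0, 2, 0, 2, 0, 2, 2, 0, 2, 1, 3, 1, 3, 3, 0, 3, 0, 2, 1, 2, 1, 2, 2, 0, 2, 0, 3, 1, 3, 3, 1, 3, 1, 3, 1, 3, 3, 0, 3, 0, 3, 1, 2, 1, 2, 1, 3, 1, 3, 1, 2, 0, 2, 0, 3, 0, 3, 1, 2, 1, 3, 3, 0, 3, 1, 2, 2, 0, 2, 0, 2, 0, 3], 0, false),
    ([0, 2, 0, 2, 0, 2, 0, 2, 0, 2, 0, 2, 2, 0, 2, 1, 3, 1, 3, 3, 0, 3, 0, 2, 1, 2, 1, 2, 2, 0, 2, 0, 3, 1, 3, 3, 1, 3, 1, 3, 1, 3, 3, 0, 3, 0, 3, 1, 2, 1, 2, 1, 3, 1, 3, 1, 2, 0, 2, 0, 3, 0, 3, 1, 2, 1, 3, 3, 0, 3, 1, 2, 2, 0, 2, 0, 2, 0, 3], 0, true),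
    ([0, 2, 0, 2, 0, 2, 0, 2, 0, 2, 0, 2, 2, 0, 2, 1, 3, 1, 3, 3, 0, 3, 0, 2, 1, 2, 1, 2, 2, 0, 2, 0, 3, 1, 3, 3, 1, 3, 1, 3, 1, 3, 3, 0, 3, 0, 3, 1, 2, 1, 2, 1, 3, 1, 3, 1, 2, 0, 2, 0, 3, 0, 3, 1, 2, 1, 3, 3, 0, 3, 1, 2, 2, 0, 2, 0, 2], 0, true),
    ([0, 2, 0, 2, 0, 2, 0, 2, 0, 2, 0, 2, 2, 0, 2, 1, 3, 1, 3, 3, 0, 3, 0, 2, 1, 2, 1, 2, 2, 0, 2, 0, 3, 1, 3, 3, 1, 3, 1, 3, 1, 3, 3, 0, 3, 0, 3, 1, 2, 1, 2, 1, 3, 1, 3, 1, 2, 0, 2, 0, 3, 0, 3, 1, 2, 1, 3, 3, 0, 3, 1, 2], 1, true),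
    ([0, 2, 0, 2, 0, 2, 0, 2, 0, 2, 0, 2, 2, 0, 2, 1, 3, 1, 3, 3, 0, 3, 0, 2, 1, 2, 1, 2, 2, 0, 2, 0, 3, 1, 3, 3, 1, 3, 1, 3, 1, 3, 3, 0, 3, 0, 3, 1, 2, 1, 2, 1, 3, 1, 3, 1, 2, 0, 2, 0, 3, 0, 3, 1, 2, 1, 3, 3], 0, true),
    ([0, 2, 0, 2, 0, 2, 0, 2, 0, 2, 0, 2, 2, 0, 2, 1, 3, 1, 3, 3, 0, 3, 0, 2, 1, 2, 1, 2, 2, 0, 2, 0, 3, 1, 3, 3, 1, 3, 1, 3, 1, 3, 3, 0, 3, 0, 3, 1, 2, 1, 2, 1, 3, 1, 3, 1, 2, 0, 2, 0, 3, 0, 3, 1, 2, 1, 3], 1, false),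
    ([0, 2, 0, 2, 0, 2, 0, 2, 0, 2, 0, 2, 2, 0, 2, 1, 3, 1, 3, 3, 0, 3, 0, 2, 1, 2, 1, 2, 2, 0, 2, 0, 3, 1, 3, 3, 1, 3, 1, 3, 1, 3, 3, 0, 3, 0, 3, 1, 2, 1, 2, 1, 3, 1, 3, 1, 2, 0, 2, 0, 3, 0, 3, 1, 2, 1], 0, false),
    ([0, 2, 0, 2, 0, 2, 0, 2, 0, 2, 0, 2, 2, 0, 2, 1, 3, 1, 3, 3, 0, 3, 0, 2, 1, 2, 1, 2, 2, 0, 2, 0, 3, 1, 3, 3, 1, 3, 1, 3, 1, 3, 3, 0, 3, 0, 3, 1, 2, 1, 2, 1, 3, 1, 3, 1, 2, 0, 2, 0, 3, 0, 3, 1], 0, false),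
    ([0, 2, 0, 2, 0, 2, 0, 2, 0, 2, 0, 2, 2, 0, 2, 1, 3, 1, 3, 3, 0, 3, 0, 2, 1, 2, 1, 2, 2, 0, 2, 0, 3, 1, 3, 3, 1, 3, 1, 3, 1, 3, 3, 0, 3, 0, 3, 1, 2, 1, 2, 1, 3, 1, 3, 1, 2, 0, 2, 0, 3], 0, true),
    ([0, 2, 0, 2, 0, 2, 0, 2, 0, 2, 0, 2, 2, 0, 2, 1, 3, 1, 3, 3, 0, 3, 0, 2, 1, 2, 1, 2, 2, 0, 2, 0, 3, 1, 3, 3, 1, 3, 1, 3, 1, 3, 3, 0, 3, 0, 3, 1, 2, 1, 2, 1, 3, 1, 3, 1, 2, 0, 2], 0, true),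
    ([0, 2, 0, 2, 0, 2, 0, 2, 0, 2, 0, 2, 2, 0, 2, 1, 3, 1, 3, 3, 0, 3, 0, 2, 1, 2, 1, 2, 2, 0, 2, 0, 3, 1, 3, 3, 1, 3, 1, 3, 1, 3, 3, 0, 3, 0, 3, 1, 2, 1, 2, 1, 3, 1, 3, 1, 2, 0, 2], 4, true),
    ([0, 2, 0, 2, 0, 2, 0, 2, 0, 2, 0, 2, 2, 0, 2, 1, 3, 1, 3, 3, 0, 3, 0, 2, 1, 2, 1, 2, 2, 0, 2, 0, 3, 1, 3, 3, 1, 3, 1, 3, 1, 3, 3, 0, 3, 0, 3, 1, 2, 1, 2, 1, 3, 1, 3, 1], 0, false),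
    ([0, 2, 0, 2, 0, 2, 0, 2, 0, 2, 0, 2, 2, 0, 2, 1, 3, 1, 3, 3, 0, 3, 0, 2, 1, 2, 1, 2, 2, 0, 2, 0, 3, 1, 3, 3, 1, 3, 1, 3, 1, 3, 3, 0, 3, 0, 3, 1, 2, 1], 0, false),
    ([0, 2, 0, 2, 0, 2, 0, 2, 0, 2, 0, 2, 2, 0, 2, 1, 3, 1, 3, 3, 0, 3, 0, 2, 1, 2, 1, 2, 2, 0, 2, 0, 3, 1, 3, 3, 1, 3, 1, 3, 1, 3, 3, 0, 3, 0, 3, 1], 0, false),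
    ([0, 2, 0, 2, 0, 2, 0, 2, 0, 2, 0, 2, 2, 0, 2, 1, 3, 1, 3, 3, 0, 3, 0, 2, 1, 2, 1, 2, 2, 0, 2, 0, 3, 1, 3, 3, 1, 3, 1, 3, 1, 3, 3, 0, 3], 0, true),
    ([0, 2, 0, 2, 0, 2, 0, 2, 0, 2, 0, 2, 2, 0, 2, 1, 3, 1, 3, 3, 0, 3, 0, 2, 1, 2, 1, 2, 2, 0, 2, 0, 3, 1, 3, 3, 1, 3, 1, 3, 1, 3, 3], 0, true),
    ([0, 2, 0, 2, 0, 2, 0, 2, 0, 2, 0, 2, 2, 0, 2, 1, 3, 1, 3, 3, 0, 3, 0, 2, 1, 2, 1, 2, 2, 0, 2, 0, 3, 1, 3, 3, 1, 3, 1, 3, 1, 3], 1, false),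
    ([0, 2, 0, 2, 0, 2, 0, 2, 0, 2, 0, 2, 2, 0, 2, 1, 3, 1, 3, 3, 0, 3, 0, 2, 1, 2, 1, 2, 2, 0, 2, 0, 3, 1, 3, 3, 1, 3, 1, 3, 1], 0, false),
    ([0, 2, 0, 2, 0, 2, 0, 2, 0, 2, 0, 2, 2, 0, 2, 1, 3, 1, 3, 3, 0, 3, 0, 2, 1, 2, 1, 2, 2, 0, 2, 0, 3, 1, 3, 3, 1, 3, 1, 3, 3], 0, false),
    ([0, 2, 0, 2, 0, 2, 0, 2, 0, 2, 0, 2, 2, 0, 2, 1, 3, 1, 3, 3, 0, 3, 0, 2, 1, 2, 1, 2, 2, 0, 2, 0, 3, 1, 3, 3, 1, 3, 1, 3], 1, false),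
    ([0, 2, 0, 2, 0, 2, 0, 2, 0, 2, 0, 2, 2, 0, 2, 1, 3, 1, 3, 3, 0, 3, 0, 2, 1, 2, 1, 2, 2, 0, 2, 0, 3, 1, 3, 3, 1, 3, 1], 0, false),
    ([0, 2, 0, 2, 0, 2, 0, 2, 0, 2, 0, 2, 2, 0, 2, 1, 3, 1, 3, 3, 0, 3, 0, 2, 1, 2, 1, 2, 2, 0, 2, 0, 3, 1, 3, 3, 1], 0, false),
    ([0, 2, 0, 2, 0, 2, 0, 2, 0, 2, 0, 2, 2, 0, 2, 1, 3, 1, 3, 3, 0, 3, 0, 2, 1, 2, 1, 2, 2, 0, 2, 0, 3, 1, 3], 1, false),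
    ([0, 2, 0, 2, 0, 2, 0, 2, 0, 2, 0, 2, 2, 0, 2, 1, 3, 1, 3, 3, 0, 3, 0, 2, 1, 2, 1, 2, 2, 0, 2, 0, 3, 1], 0, false),
    ([0, 2, 0, 2, 0, 2, 0, 2, 0, 2, 0, 2, 2, 0, 2, 1, 3, 1, 3, 3, 0, 3, 0, 2, 1, 2, 1, 2], 1, true),
    ([0, 2, 0, 2, 0, 2, 0, 2, 0, 2, 0, 2, 2, 0, 2, 1, 3, 1, 3, 3, 0, 3, 0, 2, 1, 2, 1], 0, false),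
    ([0, 2, 0, 2, 0, 2, 0, 2, 0, 2, 0, 2, 2, 0, 2, 1, 3, 1, 3, 3, 0, 3, 0, 2, 1], 0, false),
    ([0, 2, 0, 2, 0, 2, 0, 2, 0, 2, 0, 2, 2, 0, 2, 1, 3, 1, 3], 1, false),
    ([0, 2, 0, 2, 0, 2, 0, 2, 0, 2, 0, 2, 2, 0, 2, 1, 3, 1], 0, false),
    ([0, 2, 0, 2, 0, 2, 0, 2, 0, 2, 0, 2, 2, 0, 2, 1], 0, false),
    ([0, 2, 0, 2, 0, 2, 0, 2, 0, 2, 0, 2], 1, true),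
    ([0, 2, 0, 2, 0, 2], 5, true)]

/-- The conjugates of relators for relation 19. -/
def conj19 : List (List ℕ × ℕ × Bool) :=
  [([0, 3, 0, 3, 1, 2, 1, 2, 0, 3, 0, 2, 1, 2, 1, 3, 0, 2, 0, 3, 0, 3, 1, 2, 1, 3, 1, 3, 0, 2, 0, 3, 0, 3, 1, 2, 1, 3, 1], 0, false),
    ([0, 3, 0, 3, 1, 2, 1, 2, 0, 3, 0, 2, 1, 2, 1, 3, 0, 2, 0, 3, 0, 3, 1, 2, 1, 3, 1, 3, 0, 2, 0, 3, 0, 3, 1, 2, 1], 0, false),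
    ([0, 3, 0, 3, 1, 2, 1, 2, 0, 3, 0, 2, 1, 2, 1, 3, 0, 2, 0, 3, 0, 3, 1, 2, 1, 3, 1, 3, 0, 2, 0, 3, 0, 3, 1], 0, false),
    ([0, 3, 0, 3, 1, 2, 1, 2, 0, 3, 0, 2, 1, 2, 1, 3, 0, 2, 0, 3, 0, 3, 1, 2, 1, 3, 1], 0, false),
    ([0, 3, 0, 3, 1, 2, 1, 2, 0, 3, 0, 2, 1, 2, 1, 3, 0, 2, 0, 3, 0, 3, 1, 2, 1], 0, false),
    ([0, 3, 0, 3, 1, 2, 1, 2, 0, 3, 0, 2, 1, 2, 1, 3, 0, 2, 0, 3, 0, 3, 1], 0, false),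
    ([0, 3, 0, 3, 1, 2, 1, 2, 0, 3, 0, 2, 1, 2, 1, 3, 0, 2, 0], 1, false),
    ([0, 3, 0, 3, 1, 2, 1, 2, 0, 3, 0, 2, 1, 2, 1, 3, 0, 2, 0, 2], 0, false),
    ([0, 3, 0, 3, 1, 2, 1, 2, 0, 3, 0, 2, 1, 2, 1, 3, 0, 2, 0, 2, 0, 3], 0, false),
    ([0, 3, 0, 3, 1, 2, 1, 2, 0, 3, 0, 2, 1, 2, 1, 3, 0, 2, 0, 2, 0, 3, 0, 2], 0, false),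
    ([0, 3, 0, 3, 1, 2, 1, 2, 0, 3, 0, 2, 1, 2, 1, 3, 0, 2, 0, 2, 0, 3, 0, 2], 0, true),
    ([0, 3, 0, 3, 1, 2, 1, 2, 0, 3, 0, 2, 1, 2, 1, 3, 0, 2, 0, 2, 0, 3], 0, true),
    ([0, 3, 0, 3, 1, 2, 1, 2, 0, 3, 0, 2, 1, 2, 1, 3, 0, 2, 0, 2], 0, true),
    ([0, 3, 0, 3, 1, 2, 1, 2, 0, 3, 0, 2, 1, 2, 1, 3, 0, 2], 0, true),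
    ([0, 3, 0, 3, 1, 2, 1, 2, 0, 3, 0, 2, 1, 2, 1, 3], 0, true),
    ([0, 3, 0, 3, 1, 2, 1, 2, 0, 3], 0, true),
    ([0, 3, 0, 3, 1, 2, 1, 2], 0, true),
    ([0, 3, 0, 3, 1], 6, false),
    ([0, 3], 0, true),
    ([], 0, true),
    ([3], 6, true)]

/-- The conjugates of relators for relation 20. -/
def conj20 : List (List ℕ × ℕ × Bool) :=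
  [([0, 2, 0, 2, 0, 3, 0, 3, 0, 3, 1, 2, 1, 2, 1, 3, 1, 3, 1, 2, 0, 2, 0, 3, 0, 3, 1, 2, 1, 3, 3, 0, 3, 1, 2, 2, 0, 3, 0, 2, 1, 2, 1, 3, 3, 0, 2, 1, 2, 2, 0, 3, 0, 2, 1, 2, 1, 3, 1, 3, 0, 2, 0, 2, 0, 3, 0, 3, 0, 2, 1, 2, 1, 2, 1, 3, 1, 3, 3, 0, 3, 1, 2], 1, true),
    ([0, 2, 0, 2, 0, 3, 0, 3, 0, 3, 1, 2, 1, 2, 1, 3, 1, 3, 1, 2, 0, 2, 0, 3, 0, 3, 1, 2, 1, 3, 3, 0, 3, 1, 2, 2, 0, 3, 0, 2, 1, 2, 1, 3, 3, 0, 2, 1, 2, 2, 0, 3, 0, 2, 1, 2, 1, 3, 1, 3, 0, 2, 0, 2, 0, 3, 0, 3, 0, 2, 1, 2, 1, 2, 1, 3, 1, 3, 3, 0, 3, 1], 0, false),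
    ([0, 2, 0, 2, 0, 3, 0, 3, 0, 3, 1, 2, 1, 2, 1, 3, 1, 3, 1, 2, 0, 2, 0, 3, 0, 3, 1, 2, 1, 3, 3, 0, 3, 1, 2, 2, 0, 3, 0, 2, 1, 2, 1, 3, 3, 0, 2, 1, 2, 2, 0, 3, 0, 2, 1, 2, 1, 3, 1, 3, 0, 2, 0, 2, 0, 3, 0, 3, 0, 2, 1, 2, 1, 2, 1, 3, 1, 3], 1, false),
    ([0, 2, 0, 2, 0, 3, 0, 3, 0, 3, 1, 2, 1, 2, 1, 3, 1, 3, 1, 2, 0, 2, 0, 3, 0, 3, 1, 2, 1, 3, 3, 0, 3, 1, 2, 2, 0, 3, 0, 2, 1, 2, 1, 3, 3, 0, 2, 1, 2, 2, 0, 3, 0, 2, 1, 2, 1, 3, 1, 3, 0, 2, 0, 2, 0, 3, 0, 3, 0, 2, 1, 2, 1, 2, 1, 3, 1], 0, false),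
    ([0, 2, 0, 2, 0, 3, 0, 3, 0, 3, 1, 2, 1, 2, 1, 3, 1, 3, 1, 2, 0, 2, 0, 3, 0, 3, 1, 2, 1, 3, 3, 0, 3, 1, 2, 2, 0, 3, 0, 2, 1, 2, 1, 3, 3, 0, 2, 1, 2, 2, 0, 3, 0, 2, 1, 2, 1, 3, 1, 3, 0, 2, 0, 2, 0, 3, 0, 3, 0, 2, 1, 2, 1, 2, 1], 0, false),
    ([0, 2, 0, 2, 0, 3, 0, 3, 0, 3, 1, 2, 1, 2, 1, 3, 1, 3, 1, 2, 0, 2, 0, 3, 0, 3, 1, 2, 1, 3, 3, 0, 3, 1, 2, 2, 0, 3, 0, 2, 1, 2, 1, 3, 3, 0, 2, 1, 2, 2, 0, 3, 0, 2, 1, 2, 1, 3, 1, 3, 0, 2, 0, 2, 0, 3, 0, 3, 0, 2, 1, 2, 1, 2, 2], 0, false),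
    ([0, 2, 0, 2, 0, 3, 0, 3, 0, 3, 1, 2, 1, 2, 1, 3, 1, 3, 1, 2, 0, 2, 0, 3, 0, 3, 1, 2, 1, 3, 3, 0, 3, 1, 2, 2, 0, 3, 0, 2, 1, 2, 1, 3, 3, 0, 2, 1, 2, 2, 0, 3, 0, 2, 1, 2, 1, 3, 1, 3, 0, 2, 0, 2, 0, 3, 0, 3, 0, 2, 1, 2, 1, 2, 2, 0, 3], 0, false),
    ([0, 2, 0, 2, 0, 3, 0, 3, 0, 3, 1, 2, 1, 2, 1, 3, 1, 3, 1, 2, 0, 2, 0, 3, 0, 3, 1, 2, 1, 3, 3, 0, 3, 1, 2, 2, 0, 3, 0, 2, 1, 2, 1, 3, 3, 0, 2, 1, 2, 2, 0, 3, 0, 2, 1, 2, 1, 3, 1, 3, 0, 2, 0, 2, 0, 3, 0, 3, 0, 2, 1, 2, 1, 2, 2, 0, 3], 0, true),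
    ([0, 2, 0, 2, 0, 3, 0, 3, 0, 3, 1, 2, 1, 2, 1, 3, 1, 3, 1, 2, 0, 2, 0, 3, 0, 3, 1, 2, 1, 3, 3, 0, 3, 1, 2, 2, 0, 3, 0, 2, 1, 2, 1, 3, 3, 0, 2, 1, 2, 2, 0, 3, 0, 2, 1, 2, 1, 3, 1, 3, 0, 2, 0, 2, 0, 3, 0, 3, 0, 2, 1, 2, 1, 2, 2], 0, true),
    ([0, 2, 0, 2, 0, 3, 0, 3, 0, 3, 1, 2, 1, 2, 1, 3, 1, 3, 1, 2, 0, 2, 0, 3, 0, 3, 1, 2, 1, 3, 3, 0, 3, 1, 2, 2, 0, 3, 0, 2, 1, 2, 1, 3, 3, 0, 2, 1, 2, 2, 0, 3, 0, 2, 1, 2, 1, 3, 1, 3, 0, 2, 0, 2, 0, 3, 0, 3, 0, 2, 1, 2, 1, 2], 1, true),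
    ([0, 2, 0, 2, 0, 3, 0, 3, 0, 3, 1, 2, 1, 2, 1, 3, 1, 3, 1, 2, 0, 2, 0, 3, 0, 3, 1, 2, 1, 3, 3, 0, 3, 1, 2, 2, 0, 3, 0, 2, 1, 2, 1, 3, 3, 0, 2, 1, 2, 2, 0, 3, 0, 2, 1, 2, 1, 3, 1, 3, 0, 2, 0, 2, 0, 3, 0, 3, 0, 2, 1, 2, 1], 0, false),
    ([0, 2, 0, 2, 0, 3, 0, 3, 0, 3, 1, 2, 1, 2, 1, 3, 1, 3, 1, 2, 0, 2, 0, 3, 0, 3, 1, 2, 1, 3, 3, 0, 3, 1, 2, 2, 0, 3, 0, 2, 1, 2, 1, 3, 3, 0, 2, 1, 2, 2, 0, 3, 0, 2, 1, 2, 1, 3, 1, 3, 0, 2, 0, 2, 0, 3, 0, 3, 0, 2, 1], 0, false),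
    ([0, 2, 0, 2, 0, 3, 0, 3, 0, 3, 1, 2, 1, 2, 1, 3, 1, 3, 1, 2, 0, 2, 0, 3, 0, 3, 1, 2, 1, 3, 3, 0, 3, 1, 2, 2, 0, 3, 0, 2, 1, 2, 1, 3, 3, 0, 2, 1, 2, 2, 0, 3, 0, 2, 1, 2, 1, 3, 1, 3, 0, 2, 0, 2, 0, 3, 0, 3], 0, true),
    ([0, 2, 0, 2, 0, 3, 0, 3, 0, 3, 1, 2, 1, 2, 1, 3, 1, 3, 1, 2, 0, 2, 0, 3, 0, 3, 1, 2, 1, 3, 3, 0, 3, 1, 2, 2, 0, 3, 0, 2, 1, 2, 1, 3, 3, 0, 2, 1, 2, 2, 0, 3, 0, 2, 1, 2, 1, 3, 1, 3, 0, 2, 0, 2, 0, 3], 0, true),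
    ([0, 2, 0, 2, 0, 3, 0, 3, 0, 3, 1, 2, 1, 2, 1, 3, 1, 3, 1, 2, 0, 2, 0, 3, 0, 3, 1, 2, 1, 3, 3, 0, 3, 1, 2, 2, 0, 3, 0, 2, 1, 2, 1, 3, 3, 0, 2, 1, 2, 2, 0, 3, 0, 2, 1, 2, 1, 3, 1, 3], 0, true),
    ([0, 2, 0, 2, 0, 3, 0, 3, 0, 3, 1, 2, 1, 2, 1, 3, 1, 3, 1, 2, 0, 2, 0, 3, 0, 3, 1, 2, 1, 3, 3, 0, 3, 1, 2, 2, 0, 3, 0, 2, 1, 2, 1, 3, 3, 0, 2, 1, 2, 2, 0, 3, 0, 2, 1, 2, 1], 4, false),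
    ([0, 2, 0, 2, 0, 3, 0, 3, 0, 3, 1, 2, 1, 2, 1, 3, 1, 3, 1, 2, 0, 2, 0, 3, 0, 3, 1, 2, 1, 3, 3, 0, 3, 1, 2, 2, 0, 3, 0, 2, 1, 2, 1, 3, 3, 0, 2, 1, 2, 2, 0, 3, 0, 2, 1, 2, 1], 0, false),
    ([0, 2, 0, 2, 0, 3, 0, 3, 0, 3, 1, 2, 1, 2, 1, 3, 1, 3, 1, 2, 0, 2, 0, 3, 0, 3, 1, 2, 1, 3, 3, 0, 3, 1, 2, 2, 0, 3, 0, 2, 1, 2, 1, 3, 3, 0, 2, 1, 2, 2, 0, 3, 0, 2, 1], 0, false),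
    ([0, 2, 0, 2, 0, 3, 0, 3, 0, 3, 1, 2, 1, 2, 1, 3, 1, 3, 1, 2, 0, 2, 0, 3, 0, 3, 1, 2, 1, 3, 3, 0, 3, 1, 2, 2, 0, 3, 0, 2, 1, 2, 1, 3, 3, 0, 2, 1, 2, 2, 0, 3], 0, true),
    ([0, 2, 0, 2, 0, 3, 0, 3, 0, 3, 1, 2, 1, 2, 1, 3, 1, 3, 1, 2, 0, 2, 0, 3, 0, 3, 1, 2, 1, 3, 3, 0, 3, 1, 2, 2, 0, 3, 0, 2, 1, 2, 1, 3, 3, 0, 2, 1, 2, 2], 0, true),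
    ([0, 2, 0, 2, 0, 3, 0, 3, 0, 3, 1, 2, 1, 2, 1, 3, 1, 3, 1, 2, 0, 2, 0, 3, 0, 3, 1, 2, 1, 3, 3, 0, 3, 1, 2, 2, 0, 3, 0, 2, 1, 2, 1, 3, 3, 0, 2, 1, 2], 1, true),
    ([0, 2, 0, 2, 0, 3, 0, 3, 0, 3, 1, 2, 1, 2, 1, 3, 1, 3, 1, 2, 0, 2, 0, 3, 0, 3, 1, 2, 1, 3, 3, 0, 3, 1, 2, 2, 0, 3, 0, 2, 1, 2, 1, 3, 3, 0, 2, 1], 0, false),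
    ([0, 2, 0, 2, 0, 3, 0, 3, 0, 3, 1, 2, 1, 2, 1, 3, 1, 3, 1, 2, 0, 2, 0, 3, 0, 3, 1, 2, 1, 3, 3, 0, 3, 1, 2, 2, 0, 3, 0, 2, 1, 2, 1, 3], 1, false),
    ([0, 2, 0, 2, 0, 3, 0, 3, 0, 3, 1, 2, 1, 2, 1, 3, 1, 3, 1, 2, 0, 2, 0, 3, 0, 3, 1, 2, 1, 3, 3, 0, 3, 1, 2, 2, 0, 3, 0, 2, 1, 2, 2, 0, 2], 0, false),
    ([0, 2, 0, 2, 0, 3, 0, 3, 0, 3, 1, 2, 1, 2, 1, 3, 1, 3, 1, 2, 0, 2, 0, 3, 0, 3, 1, 2, 1, 3, 3, 0, 3, 1, 2, 2, 0, 3, 0, 2, 1, 2, 2, 0, 2, 0, 3], 0, false),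
    ([0, 2, 0, 2, 0, 3, 0, 3, 0, 3, 1, 2, 1, 2, 1, 3, 1, 3, 1, 2, 0, 2, 0, 3, 0, 3, 1, 2, 1, 3, 3, 0, 3, 1, 2, 2, 0, 3, 0, 2, 1, 2], 1, true),
    ([0, 2, 0, 2, 0, 3, 0, 3, 0, 3, 1, 2, 1, 2, 1, 3, 1, 3, 1, 2, 0, 2, 0, 3, 0, 3, 1, 2, 1, 3, 3, 0, 3, 1, 2, 2, 0, 3, 0, 2, 1], 0, false),
    ([0, 2, 0, 2, 0, 3, 0, 3, 0, 3, 1, 2, 1, 2, 1, 3, 1, 3, 1, 2, 0, 2, 0, 3, 0, 3, 1, 2, 1, 3, 3, 0, 3, 1, 2, 2, 0], 1, false),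
    ([0, 2, 0, 2, 0, 3, 0, 3, 0, 3, 1, 2, 1, 2, 1, 3, 1, 3, 1, 2, 0, 2, 0, 3, 0, 3, 1, 2, 1, 3, 3, 0, 3, 1, 2, 2, 0, 2], 0, false),
    ([0, 2, 0, 2, 0, 3, 0, 3, 0, 3, 1, 2, 1, 2, 1, 3, 1, 3, 1, 2, 0, 2, 0, 3, 0, 3, 1, 2, 1, 3, 3, 0, 3, 1, 2, 2, 0, 2, 0, 2], 0, false),
    ([0, 2, 0, 2, 0, 3, 0, 3, 0, 3, 1, 2, 1, 2, 1, 3, 1, 3, 1, 2, 0, 2, 0, 3, 0, 3, 1, 2, 1, 3, 3, 0, 3, 1, 2, 2, 0, 2, 0, 2, 0, 3], 0, false),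
    ([0, 2, 0, 2, 0, 3, 0, 3, 0, 3, 1, 2, 1, 2, 1, 3, 1, 3, 1, 2, 0, 2, 0, 3, 0, 3, 1, 2, 1, 3, 3, 0, 3, 1, 2, 2, 0, 2, 0, 2, 0, 3], 0, true),
    ([0, 2, 0, 2, 0, 3, 0, 3, 0, 3, 1, 2, 1, 2, 1, 3, 1, 3, 1, 2, 0, 2, 0, 3, 0, 3, 1, 2, 1, 3, 3, 0, 3, 1, 2, 2, 0, 2, 0, 2], 0, true),
    ([0, 2, 0, 2, 0, 3, 0, 3, 0, 3, 1, 2, 1, 2, 1, 3, 1, 3, 1, 2, 0, 2, 0, 3, 0, 3, 1, 2, 1, 3, 3, 0, 3, 1, 2], 1, true),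
    ([0, 2, 0, 2, 0, 3, 0, 3, 0, 3, 1, 2, 1, 2, 1, 3, 1, 3, 1, 2, 0, 2, 0, 3, 0, 3, 1, 2, 1, 3, 3], 0, true),
    ([0, 2, 0, 2, 0, 3, 0, 3, 0, 3, 1, 2, 1, 2, 1, 3, 1, 3, 1, 2, 0, 2, 0, 3, 0, 3, 1, 2, 1, 3], 1, false),
    ([0, 2, 0, 2, 0, 3, 0, 3, 0, 3, 1, 2, 1, 2, 1, 3, 1, 3, 1, 2, 0, 2, 0, 3, 0, 3, 1, 2, 1], 0, false),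
    ([0, 2, 0, 2, 0, 3, 0, 3, 0, 3, 1, 2, 1, 2, 1, 3, 1, 3, 1, 2, 0, 2, 0, 3, 0, 3, 1], 0, false),
    ([0, 2, 0, 2, 0, 3, 0, 3, 0, 3, 1, 2, 1, 2, 1, 3, 1, 3, 1, 2, 0, 2, 0, 3], 0, true),
    ([0, 2, 0, 2, 0, 3, 0, 3, 0, 3, 1, 2, 1, 2, 1, 3, 1, 3, 1, 2, 0, 2], 0, true),
    ([0, 2, 0, 2, 0, 3, 0, 3, 0, 3, 1, 2, 1, 2, 1, 3, 1, 3, 1, 2, 0, 2], 4, true),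
    ([0, 2, 0, 2, 0, 3, 0, 3, 0, 3, 1, 2, 1, 2, 1, 3, 1, 3, 1], 0, false),
    ([0, 2, 0, 2, 0, 3, 0, 3, 0, 3, 1, 2, 1], 0, false),
    ([0, 2, 0, 2, 0, 3, 0, 3, 0, 3, 1], 0, false),
    ([0, 2, 0, 2, 0, 3, 0, 3], 0, true),
    ([0, 2, 0, 2, 0, 3], 0, true),
    ([0, 2, 0, 2, 0], 1, false),
    ([0, 2, 0, 2, 0, 2], 0, false),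
    ([0, 2, 0, 2, 0, 2, 0, 3], 0, false),
    ([0, 2], 6, true)]

/-- The conjugates of relators for relation 21. -/
def conj21 : List (List ℕ × ℕ × Bool) :=
  [([0, 2, 0, 2, 0, 2, 0, 2, 0, 3, 1, 3, 3, 1, 3, 3, 1, 3, 1, 3, 1, 3, 3, 0, 3, 0, 3, 1, 2, 1, 2, 1, 3, 1, 3, 1, 2, 0, 2, 0, 3, 0, 3, 1, 2, 1, 3, 3, 0, 3, 1, 2, 2, 0, 2, 0, 2, 0, 2, 0, 2, 0, 2, 2, 0, 2, 2, 0, 2, 1, 3, 1, 3, 1, 3, 3, 0, 3, 1, 2], 1, true),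
    ([0, 2, 0, 2, 0, 2, 0, 2, 0, 3, 1, 3, 3, 1, 3, 3, 1, 3, 1, 3, 1, 3, 3, 0, 3, 0, 3, 1, 2, 1, 2, 1, 3, 1, 3, 1, 2, 0, 2, 0, 3, 0, 3, 1, 2, 1, 3, 3, 0, 3, 1, 2, 2, 0, 2, 0, 2, 0, 2, 0, 2, 0, 2, 2, 0, 2, 2, 0, 2, 1, 3, 1, 3, 1, 3, 3, 0, 3, 1], 0, false),
    ([0, 2, 0, 2, 0, 2, 0, 2, 0, 3, 1, 3, 3, 1, 3, 3, 1, 3, 1, 3, 1, 3, 3, 0, 3, 0, 3, 1, 2, 1, 2, 1, 3, 1, 3, 1, 2, 0, 2, 0, 3, 0, 3, 1, 2, 1, 3, 3, 0, 3, 1, 2, 2, 0, 2, 0, 2, 0, 2, 0, 2, 0, 2, 2, 0, 2, 2, 0, 2, 1, 3, 1, 3, 1, 3], 1, false),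
    ([0, 2, 0, 2, 0, 2, 0, 2, 0, 3, 1, 3, 3, 1, 3, 3, 1, 3, 1, 3, 1, 3, 3, 0, 3, 0, 3, 1, 2, 1, 2, 1, 3, 1, 3, 1, 2, 0, 2, 0, 3, 0, 3, 1, 2, 1, 3, 3, 0, 3, 1, 2, 2, 0, 2, 0, 2, 0, 2, 0, 2, 0, 2, 2, 0, 2, 2, 0, 2, 1, 3, 1, 3, 1], 0, false),
    ([0, 2, 0, 2, 0, 2, 0, 2, 0, 3, 1, 3, 3, 1, 3, 3, 1, 3, 1, 3, 1, 3, 3, 0, 3, 0, 3, 1, 2, 1, 2, 1, 3, 1, 3, 1, 2, 0, 2, 0, 3, 0, 3, 1, 2, 1, 3, 3, 0, 3, 1, 2, 2, 0, 2, 0, 2, 0, 2, 0, 2, 0, 2, 2, 0, 2, 2, 0, 2, 1, 3, 1], 0, false),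
    ([0, 2, 0, 2, 0, 2, 0, 2, 0, 3, 1, 3, 3, 1, 3, 3, 1, 3, 1, 3, 1, 3, 3, 0, 3, 0, 3, 1, 2, 1, 2, 1, 3, 1, 3, 1, 2, 0, 2, 0, 3, 0, 3, 1, 2, 1, 3, 3, 0, 3, 1, 2, 2, 0, 2, 0, 2, 0, 2, 0, 2, 0, 2, 2, 0, 2, 2, 0, 2, 1], 0, false),
    ([0, 2, 0, 2, 0, 2, 0, 2, 0, 3, 1, 3, 3, 1, 3, 3, 1, 3, 1, 3, 1, 3, 3, 0, 3, 0, 3, 1, 2, 1, 2, 1, 3, 1, 3, 1, 2, 0, 2, 0, 3, 0, 3, 1, 2, 1, 3, 3, 0, 3, 1, 2, 2, 0, 2, 0, 2, 0, 2, 0, 2, 0, 2, 2, 0, 2], 1, true),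
    ([0, 2, 0, 2, 0, 2, 0, 2, 0, 3, 1, 3, 3, 1, 3, 3, 1, 3, 1, 3, 1, 3, 3, 0, 3, 0, 3, 1, 2, 1, 2, 1, 3, 1, 3, 1, 2, 0, 2, 0, 3, 0, 3, 1, 2, 1, 3, 3, 0, 3, 1, 2, 2, 0, 2, 0, 2, 0, 2, 0, 2, 0, 2], 1, true),
    ([0, 2, 0, 2, 0, 2, 0, 2, 0, 3, 1, 3, 3, 1, 3, 3, 1, 3, 1, 3, 1, 3, 3, 0, 3, 0, 3, 1, 2, 1, 2, 1, 3, 1, 3, 1, 2, 0, 2, 0, 3, 0, 3, 1, 2, 1, 3, 3, 0, 3, 1, 2, 2, 0, 2, 0, 2, 0], 1, true),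
    ([0, 2, 0, 2, 0, 2, 0, 2, 0, 3, 1, 3, 3, 1, 3, 3, 1, 3, 1, 3, 1, 3, 3, 0, 3, 0, 3, 1, 2, 1, 2, 1, 3, 1, 3, 1, 2, 0, 2, 0, 3, 0, 3, 1, 2, 1, 3, 3, 0, 3, 1, 2, 2, 0, 2, 0, 2, 0, 3], 0, false),
    ([0, 2, 0, 2, 0, 2, 0, 2, 0, 3, 1, 3, 3, 1, 3, 3, 1, 3, 1, 3, 1, 3, 3, 0, 3, 0, 3, 1, 2, 1, 2, 1, 3, 1, 3, 1, 2, 0, 2, 0, 3, 0, 3, 1, 2, 1, 3, 3, 0, 3, 1, 2, 2, 0, 2, 0, 2, 0, 3], 0, true),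
    ([0, 2, 0, 2, 0, 2, 0, 2, 0, 3, 1, 3, 3, 1, 3, 3, 1, 3, 1, 3, 1, 3, 3, 0, 3, 0, 3, 1, 2, 1, 2, 1, 3, 1, 3, 1, 2, 0, 2, 0, 3, 0, 3, 1, 2, 1, 3, 3, 0, 3, 1, 2, 2, 0, 2, 0, 2], 0, true),
    ([0, 2, 0, 2, 0, 2, 0, 2, 0, 3, 1, 3, 3, 1, 3, 3, 1, 3, 1, 3, 1, 3, 3, 0, 3, 0, 3, 1, 2, 1, 2, 1, 3, 1, 3, 1, 2, 0, 2, 0, 3, 0, 3, 1, 2, 1, 3, 3, 0, 3, 1, 2], 1, true),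
    ([0, 2, 0, 2, 0, 2, 0, 2, 0, 3, 1, 3, 3, 1, 3, 3, 1, 3, 1, 3, 1, 3, 3, 0, 3, 0, 3, 1, 2, 1, 2, 1, 3, 1, 3, 1, 2, 0, 2, 0, 3, 0, 3, 1, 2, 1, 3, 3], 0, true),
    ([0, 2, 0, 2, 0, 2, 0, 2, 0, 3, 1, 3, 3, 1, 3, 3, 1, 3, 1, 3, 1, 3, 3, 0, 3, 0, 3, 1, 2, 1, 2, 1, 3, 1, 3, 1, 2, 0, 2, 0, 3, 0, 3, 1, 2, 1, 3], 1, false),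
    ([0, 2, 0, 2, 0, 2, 0, 2, 0, 3, 1, 3, 3, 1, 3, 3, 1, 3, 1, 3, 1, 3, 3, 0, 3, 0, 3, 1, 2, 1, 2, 1, 3, 1, 3, 1, 2, 0, 2, 0, 3, 0, 3, 1, 2, 1], 0, false),
    ([0, 2, 0, 2, 0, 2, 0, 2, 0, 3, 1, 3, 3, 1, 3, 3, 1, 3, 1, 3, 1, 3, 3, 0, 3, 0, 3, 1, 2, 1, 2, 1, 3, 1, 3, 1, 2, 0, 2, 0, 3, 0, 3, 1], 0, false),
    ([0, 2, 0, 2, 0, 2, 0, 2, 0, 3, 1, 3, 3, 1, 3, 3, 1, 3, 1, 3, 1, 3, 3, 0, 3, 0, 3, 1, 2, 1, 2, 1, 3, 1, 3, 1, 2, 0, 2, 0, 3], 0, true),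
    ([0, 2, 0, 2, 0, 2, 0, 2, 0, 3, 1, 3, 3, 1, 3, 3, 1, 3, 1, 3, 1, 3, 3, 0, 3, 0, 3, 1, 2, 1, 2, 1, 3, 1, 3, 1, 2, 0, 2], 0, true),
    ([0, 2, 0, 2, 0, 2, 0, 2, 0, 3, 1, 3, 3, 1, 3, 3, 1, 3, 1, 3, 1, 3, 3, 0, 3, 0, 3, 1, 2, 1, 2, 1, 3, 1, 3, 1, 2, 0, 2], 4, true),
    ([0, 2, 0, 2, 0, 2, 0, 2, 0, 3, 1, 3, 3, 1, 3, 3, 1, 3, 1, 3, 1, 3, 3, 0, 3, 0, 3, 1, 2, 1, 2, 1, 3, 1, 3, 1], 0, false),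
    ([0, 2, 0, 2, 0, 2, 0, 2, 0, 3, 1, 3, 3, 1, 3, 3, 1, 3, 1, 3, 1, 3, 3, 0, 3, 0, 3, 1, 2, 1], 0, false),
    ([0, 2, 0, 2, 0, 2, 0, 2, 0, 3, 1, 3, 3, 1, 3, 3, 1, 3, 1, 3, 1, 3, 3, 0, 3, 0, 3, 1], 0, false),
    ([0, 2, 0, 2, 0, 2, 0, 2, 0, 3, 1, 3, 3, 1, 3, 3, 1, 3, 1, 3, 1, 3, 3, 0, 3], 0, true),
    ([0, 2, 0, 2, 0, 2, 0, 2, 0, 3, 1, 3, 3, 1, 3, 3, 1, 3, 1, 3, 1, 3, 3], 0, true),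
    ([0, 2, 0, 2, 0, 2, 0, 2, 0, 3, 1, 3, 3, 1, 3, 3, 1, 3, 1, 3, 1, 3], 1, false),
    ([0, 2, 0, 2, 0, 2, 0, 2, 0, 3, 1, 3, 3, 1, 3, 3, 1, 3, 1, 3, 1], 0, false),
    ([0, 2, 0, 2, 0, 2, 0, 2, 0, 3, 1, 3, 3, 1, 3, 3, 1, 3, 1, 3, 3], 0, false),
    ([0, 2, 0, 2, 0, 2, 0, 2, 0, 3, 1, 3, 3, 1, 3, 3, 1, 3, 1, 3], 1, false),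
    ([0, 2, 0, 2, 0, 2, 0, 2, 0, 3, 1, 3, 3, 1, 3, 3, 1, 3, 1], 0, false),
    ([0, 2, 0, 2, 0, 2, 0, 2, 0, 3, 1, 3, 3, 1, 3, 3, 1], 0, false),
    ([0, 2, 0, 2, 0, 2, 0, 2, 0, 3, 1, 3, 3, 1, 3], 1, false),
    ([0, 2, 0, 2, 0, 2, 0, 2, 0, 3, 1, 3, 3, 1], 0, false),
    ([0, 2, 0, 2, 0, 2, 0, 2, 0, 3, 1, 3], 1, false),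
    ([0, 2, 0, 2, 0, 2, 0, 2, 0, 3, 1], 0, false),
    ([0, 2, 0, 2], 6, true)]

/-- The conjugates of relators for relation 22. -/
def conj22 : List (List ℕ × ℕ × Bool) :=
  [([0, 2, 0, 2, 0, 2, 0, 2, 0, 2, 0, 2, 2, 0, 2, 1, 3, 1, 3, 1, 3, 1, 3, 3, 0, 2, 1, 2, 2, 0, 3, 0, 2, 1, 2, 1, 3, 1, 3, 0, 2, 0, 2, 0, 3, 0, 3, 0, 2, 2, 1, 2, 1, 2, 1, 3, 1, 3, 1, 2, 0, 3, 0, 3, 1, 2, 1, 3, 0, 3, 0, 2, 1, 2, 1, 3, 0, 2, 0, 2, 0, 3, 0, 3, 0, 3, 1, 2, 1, 2, 1, 3, 1, 3, 1, 2, 0, 3, 0, 3, 1, 2, 1, 2, 0, 3, 0, 2, 1, 2, 1, 3, 0, 2, 0, 2, 0], 1, true),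
    ([0, 2, 0, 2, 0, 2, 0, 2, 0, 2, 0, 2, 2, 0, 2, 1, 3, 1, 3, 1, 3, 1, 3, 3, 0, 2, 1, 2, 2, 0, 3, 0, 2, 1, 2, 1, 3, 1, 3, 0, 2, 0, 2, 0, 3, 0, 3, 0, 2, 2, 1, 2, 1, 2, 1, 3, 1, 3, 1, 2, 0, 3, 0, 3, 1, 2, 1, 3, 0, 3, 0, 2, 1, 2, 1, 3, 0, 2, 0, 2, 0, 3, 0, 3, 0, 3, 1, 2, 1, 2, 1, 3, 1, 3, 1, 2, 0, 3, 0, 3, 1, 2, 1, 2, 0, 3, 0, 2, 1, 2, 1, 3, 0, 2, 0, 2, 0, 3], 0, false),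
    ([0, 2, 0, 2, 0, 2, 0, 2, 0, 2, 0, 2, 2, 0, 2, 1, 3, 1, 3, 1, 3, 1, 3, 3, 0, 2, 1, 2, 2, 0, 3, 0, 2, 1, 2, 1, 3, 1, 3, 0, 2, 0, 2, 0, 3, 0, 3, 0, 2, 2, 1, 2, 1, 2, 1, 3, 1, 3, 1, 2, 0, 3, 0, 3, 1, 2, 1, 3, 0, 3, 0, 2, 1, 2, 1, 3, 0, 2, 0, 2, 0, 3, 0, 3, 0, 3, 1, 2, 1, 2, 1, 3, 1, 3, 1, 2, 0, 3, 0, 3, 1, 2, 1, 2, 0, 3, 0, 2, 1, 2, 1, 3, 0, 2, 0, 2, 0, 3, 0, 2], 0, false),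
    ([0, 2, 0, 2, 0, 2, 0, 2, 0, 2, 0, 2, 2, 0, 2, 1, 3, 1, 3, 1, 3, 1, 3, 3, 0, 2, 1, 2, 2, 0, 3, 0, 2, 1, 2, 1, 3, 1, 3, 0, 2, 0, 2, 0, 3, 0, 3, 0, 2, 2, 1, 2, 1, 2, 1, 3, 1, 3, 1, 2, 0, 3, 0, 3, 1, 2, 1, 3, 0, 3, 0, 2, 1, 2, 1, 3, 0, 2, 0, 2, 0, 3, 0, 3, 0, 3, 1, 2, 1, 2, 1, 3, 1, 3, 1, 2, 0, 3, 0, 3, 1, 2, 1, 2, 0, 3, 0, 2, 1, 2, 1, 3, 0, 2, 0, 2, 0, 3, 0, 2], 0, true),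
    ([0, 2, 0, 2, 0, 2, 0, 2, 0, 2, 0, 2, 2, 0, 2, 1, 3, 1, 3, 1, 3, 1, 3, 3, 0, 2, 1, 2, 2, 0, 3, 0, 2, 1, 2, 1, 3, 1, 3, 0, 2, 0, 2, 0, 3, 0, 3, 0, 2, 2, 1, 2, 1, 2, 1, 3, 1, 3, 1, 2, 0, 3, 0, 3, 1, 2, 1, 3, 0, 3, 0, 2, 1, 2, 1, 3, 0, 2, 0, 2, 0, 3, 0, 3, 0, 3, 1, 2, 1, 2, 1, 3, 1, 3, 1, 2, 0, 3, 0, 3, 1, 2, 1, 2, 0, 3, 0, 2, 1, 2, 1, 3, 0, 2, 0, 2, 0, 3], 0, true),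
    ([0, 2, 0, 2, 0, 2, 0, 2, 0, 2, 0, 2, 2, 0, 2, 1, 3, 1, 3, 1, 3, 1, 3, 3, 0, 2, 1, 2, 2, 0, 3, 0, 2, 1, 2, 1, 3, 1, 3, 0, 2, 0, 2, 0, 3, 0, 3, 0, 2, 2, 1, 2, 1, 2, 1, 3, 1, 3, 1, 2, 0, 3, 0, 3, 1, 2, 1, 3, 0, 3, 0, 2, 1, 2, 1, 3, 0, 2, 0, 2, 0, 3, 0, 3, 0, 3, 1, 2, 1, 2, 1, 3, 1, 3, 1, 2, 0, 3, 0, 3, 1, 2, 1, 2, 0, 3, 0, 2, 1, 2, 1, 3, 0, 2, 0, 2], 0, true),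
    ([0, 2, 0, 2, 0, 2, 0, 2, 0, 2, 0, 2, 2, 0, 2, 1, 3, 1, 3, 1, 3, 1, 3, 3, 0, 2, 1, 2, 2, 0, 3, 0, 2, 1, 2, 1, 3, 1, 3, 0, 2, 0, 2, 0, 3, 0, 3, 0, 2, 2, 1, 2, 1, 2, 1, 3, 1, 3, 1, 2, 0, 3, 0, 3, 1, 2, 1, 3, 0, 3, 0, 2, 1, 2, 1, 3, 0, 2, 0, 2, 0, 3, 0, 3, 0, 3, 1, 2, 1, 2, 1, 3, 1, 3, 1, 2, 0, 3, 0, 3, 1, 2, 1, 2, 0, 3, 0, 2, 1, 2, 1, 3, 0, 2], 0, true),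
    ([0, 2, 0, 2, 0, 2, 0, 2, 0, 2, 0, 2, 2, 0, 2, 1, 3, 1, 3, 1, 3, 1, 3, 3, 0, 2, 1, 2, 2, 0, 3, 0, 2, 1, 2, 1, 3, 1, 3, 0, 2, 0, 2, 0, 3, 0, 3, 0, 2, 2, 1, 2, 1, 2, 1, 3, 1, 3, 1, 2, 0, 3, 0, 3, 1, 2, 1, 3, 0, 3, 0, 2, 1, 2, 1, 3, 0, 2, 0, 2, 0, 3, 0, 3, 0, 3, 1, 2, 1, 2, 1, 3, 1, 3, 1, 2, 0, 3, 0, 3, 1, 2, 1, 2, 0, 3, 0, 2, 1, 2, 1, 3], 0, true),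
    ([0, 2, 0, 2, 0, 2, 0, 2, 0, 2, 0, 2, 2, 0, 2, 1, 3, 1, 3, 1, 3, 1, 3, 3, 0, 2, 1, 2, 2, 0, 3, 0, 2, 1, 2, 1, 3, 1, 3, 0, 2, 0, 2, 0, 3, 0, 3, 0, 2, 2, 1, 2, 1, 2, 1, 3, 1, 3, 1, 2, 0, 3, 0, 3, 1, 2, 1, 3, 0, 3, 0, 2, 1, 2, 1, 3, 0, 2, 0, 2, 0, 3, 0, 3, 0, 3, 1, 2, 1, 2, 1, 3, 1, 3, 1, 2, 0, 3, 0, 3, 1, 2, 1, 2, 0, 3], 0, true),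
    ([0, 2, 0, 2, 0, 2, 0, 2, 0, 2, 0, 2, 2, 0, 2, 1, 3, 1, 3, 1, 3, 1, 3, 3, 0, 2, 1, 2, 2, 0, 3, 0, 2, 1, 2, 1, 3, 1, 3, 0, 2, 0, 2, 0, 3, 0, 3, 0, 2, 2, 1, 2, 1, 2, 1, 3, 1, 3, 1, 2, 0, 3, 0, 3, 1, 2, 1, 3, 0, 3, 0, 2, 1, 2, 1, 3, 0, 2, 0, 2, 0, 3, 0, 3, 0, 3, 1, 2, 1, 2, 1, 3, 1, 3, 1, 2, 0, 3, 0, 3, 1, 2, 1, 2], 0, true),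
    ([0, 2, 0, 2, 0, 2, 0, 2, 0, 2, 0, 2, 2, 0, 2, 1, 3, 1, 3, 1, 3, 1, 3, 3, 0, 2, 1, 2, 2, 0, 3, 0, 2, 1, 2, 1, 3, 1, 3, 0, 2, 0, 2, 0, 3, 0, 3, 0, 2, 2, 1, 2, 1, 2, 1, 3, 1, 3, 1, 2, 0, 3, 0, 3, 1, 2, 1, 3, 0, 3, 0, 2, 1, 2, 1, 3, 0, 2, 0, 2, 0, 3, 0, 3, 0, 3, 1, 2, 1, 2, 1, 3, 1, 3, 1, 2, 0, 3, 0, 3, 1], 6, false),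
    ([0, 2, 0, 2, 0, 2, 0, 2, 0, 2, 0, 2, 2, 0, 2, 1, 3, 1, 3, 1, 3, 1, 3, 3, 0, 2, 1, 2, 2, 0, 3, 0, 2, 1, 2, 1, 3, 1, 3, 0, 2, 0, 2, 0, 3, 0, 3, 0, 2, 2, 1, 2, 1, 2, 1, 3, 1, 3, 1, 2, 0, 3, 0, 3, 1, 2, 1, 3, 0, 3, 0, 2, 1, 2, 1, 3, 0, 2, 0, 2, 0, 3, 0, 3, 0, 3, 1, 2, 1, 2, 1, 3, 1, 3, 1, 2, 0, 3], 0, true),
    ([0, 2, 0, 2, 0, 2, 0, 2, 0, 2, 0, 2, 2, 0, 2, 1, 3, 1, 3, 1, 3, 1, 3, 3, 0, 2, 1, 2, 2, 0, 3, 0, 2, 1, 2, 1, 3, 1, 3, 0, 2, 0, 2, 0, 3, 0, 3, 0, 2, 2, 1, 2, 1, 2, 1, 3, 1, 3, 1, 2, 0, 3, 0, 3, 1, 2, 1, 3, 0, 3, 0, 2, 1, 2, 1, 3, 0, 2, 0, 2, 0, 3, 0, 3, 0, 3, 1, 2, 1, 2, 1, 3, 1, 3, 1, 2], 0, true),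
    ([0, 2, 0, 2, 0, 2, 0, 2, 0, 2, 0, 2, 2, 0, 2, 1, 3, 1, 3, 1, 3, 1, 3, 3, 0, 2, 1, 2, 2, 0, 3, 0, 2, 1, 2, 1, 3, 1, 3, 0, 2, 0, 2, 0, 3, 0, 3, 0, 2, 2, 1, 2, 1, 2, 1, 3, 1, 3, 1, 2, 0, 3, 0, 3, 1, 2, 1, 3, 0, 3, 0, 2, 1, 2, 1, 3, 0, 2, 0, 2, 0, 3, 0, 3, 0, 3, 1, 2], 1, true),
    ([0, 2, 0, 2, 0, 2, 0, 2, 0, 2, 0, 2, 2, 0, 2, 1, 3, 1, 3, 1, 3, 1, 3, 3, 0, 2, 1, 2, 2, 0, 3, 0, 2, 1, 2, 1, 3, 1, 3, 0, 2, 0, 2, 0, 3, 0, 3, 0, 2, 2, 1, 2, 1, 2, 1, 3, 1, 3, 1, 2, 0, 3, 0, 3, 1, 2, 1, 3, 0, 3, 0, 2, 1, 2, 1, 3, 0, 2, 0, 2, 0, 3, 0, 3, 0, 3, 1], 0, false),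
    ([0, 2, 0, 2, 0, 2, 0, 2, 0, 2, 0, 2, 2, 0, 2, 1, 3, 1, 3, 1, 3, 1, 3, 3, 0, 2, 1, 2, 2, 0, 3, 0, 2, 1, 2, 1, 3, 1, 3, 0, 2, 0, 2, 0, 3, 0, 3, 0, 2, 2, 1, 2, 1, 2, 1, 3, 1, 3, 1, 2, 0, 3, 0, 3, 1, 2, 1, 3, 0, 3, 0, 2, 1, 2, 1, 3, 0, 2, 0, 2, 0, 3, 0], 1, false),
    ([0, 2, 0, 2, 0, 2, 0, 2, 0, 2, 0, 2, 2, 0, 2, 1, 3, 1, 3, 1, 3, 1, 3, 3, 0, 2, 1, 2, 2, 0, 3, 0, 2, 1, 2, 1, 3, 1, 3, 0, 2, 0, 2, 0, 3, 0, 3, 0, 2, 2, 1, 2, 1, 2, 1, 3, 1, 3, 1, 2, 0, 3, 0, 3, 1, 2, 1, 3, 0, 3, 0, 2, 1, 2, 1, 3, 0, 2, 0, 2, 0, 3, 0, 2], 0, false),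
    ([0, 2, 0, 2, 0, 2, 0, 2, 0, 2, 0, 2, 2, 0, 2, 1, 3, 1, 3, 1, 3, 1, 3, 3, 0, 2, 1, 2, 2, 0, 3, 0, 2, 1, 2, 1, 3, 1, 3, 0, 2, 0, 2, 0, 3, 0, 3, 0, 2, 2, 1, 2, 1, 2, 1, 3, 1, 3, 1, 2, 0, 3, 0, 3, 1, 2, 1, 3, 0, 3, 0, 2, 1, 2, 1], 0, false),
    ([0, 2, 0, 2, 0, 2, 0, 2, 0, 2, 0, 2, 2, 0, 2, 1, 3, 1, 3, 1, 3, 1, 3, 3, 0, 2, 1, 2, 2, 0, 3, 0, 2, 1, 2, 1, 3, 1, 3, 0, 2, 0, 2, 0, 3, 0, 3, 0, 2, 2, 1, 2, 1, 2, 1, 3, 1, 3, 1, 2, 0, 3, 0, 3, 1, 2, 1, 3, 0, 3, 0, 2, 1], 0, false),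
    ([0, 2, 0, 2, 0, 2, 0, 2, 0, 2, 0, 2, 2, 0, 2, 1, 3, 1, 3, 1, 3, 1, 3, 3, 0, 2, 1, 2, 2, 0, 3, 0, 2, 1, 2, 1, 3, 1, 3, 0, 2, 0, 2, 0, 3, 0, 3, 0, 2, 2, 1, 2, 1, 2, 1, 3, 1, 3, 1, 2, 0, 3, 0, 3, 1, 2, 1, 3, 0, 3], 6, true),
    ([0, 2, 0, 2, 0, 2, 0, 2, 0, 2, 0, 2, 2, 0, 2, 1, 3, 1, 3, 1, 3, 1, 3, 3, 0, 2, 1, 2, 2, 0, 3, 0, 2, 1, 2, 1, 3, 1, 3, 0, 2, 0, 2, 0, 3, 0, 3, 0, 2, 2, 1, 2, 1, 2, 1, 3, 1, 3, 1, 2, 0, 3, 0, 3, 1, 2, 1], 0, false),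
    ([0, 2, 0, 2, 0, 2, 0, 2, 0, 2, 0, 2, 2, 0, 2, 1, 3, 1, 3, 1, 3, 1, 3, 3, 0, 2, 1, 2, 2, 0, 3, 0, 2, 1, 2, 1, 3, 1, 3, 0, 2, 0, 2, 0, 3, 0, 3, 0, 2, 2, 1, 2, 1, 2, 1, 3, 1, 3, 1, 2, 0, 3, 0, 3, 1], 0, false),
    ([0, 2, 0, 2, 0, 2, 0, 2, 0, 2, 0, 2, 2, 0, 2, 1, 3, 1, 3, 1, 3, 1, 3, 3, 0, 2, 1, 2, 2, 0, 3, 0, 2, 1, 2, 1, 3, 1, 3, 0, 2, 0, 2, 0, 3, 0, 3, 0, 2, 2, 1, 2, 1, 2, 1, 3, 1, 3, 1], 0, false),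
    ([0, 2, 0, 2, 0, 2, 0, 2, 0, 2, 0, 2, 2, 0, 2, 1, 3, 1, 3, 1, 3, 1, 3, 3, 0, 2, 1, 2, 2, 0, 3, 0, 2, 1, 2, 1, 3, 1, 3, 0, 2, 0, 2, 0, 3, 0, 3, 0, 2, 2, 1, 2, 1, 2, 1, 3, 1], 0, false),
    ([0, 2, 0, 2, 0, 2, 0, 2, 0, 2, 0, 2, 2, 0, 2, 1, 3, 1, 3, 1, 3, 1, 3, 3, 0, 2, 1, 2, 2, 0, 3, 0, 2, 1, 2, 1, 3, 1, 3, 0, 2, 0, 2, 0, 3, 0, 3, 0, 2, 2, 1, 2, 1, 2, 1], 0, false),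
    ([0, 2, 0, 2, 0, 2, 0, 2, 0, 2, 0, 2, 2, 0, 2, 1, 3, 1, 3, 1, 3, 1, 3, 3, 0, 2, 1, 2, 2, 0, 3, 0, 2, 1, 2, 1, 3, 1, 3, 0, 2, 0, 2, 0, 3, 0, 3, 0, 2, 2, 1, 2, 1], 0, false),
    ([0, 2, 0, 2, 0, 2, 0, 2, 0, 2, 0, 2, 2, 0, 2, 1, 3, 1, 3, 1, 3, 1, 3, 3, 0, 2, 1, 2, 2, 0, 3, 0, 2, 1, 2, 1, 3, 1, 3, 0, 2, 0, 2, 0, 3, 0, 3, 0, 2, 2, 1, 2, 2], 0, false),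
    ([0, 2, 0, 2, 0, 2, 0, 2, 0, 2, 0, 2, 2, 0, 2, 1, 3, 1, 3, 1, 3, 1, 3, 3, 0, 2, 1, 2, 2, 0, 3, 0, 2, 1, 2, 1, 3, 1, 3, 0, 2, 0, 2, 0, 3, 0, 3, 0, 2, 2, 1, 2], 1, true),
    ([0, 2, 0, 2, 0, 2, 0, 2, 0, 2, 0, 2, 2, 0, 2, 1, 3, 1, 3, 1, 3, 1, 3, 3, 0, 2, 1, 2, 2, 0, 3, 0, 2, 1, 2, 1, 3, 1, 3, 0, 2, 0, 2, 0, 3, 0, 3, 0, 2, 2, 1], 0, false),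
    ([0, 2, 0, 2, 0, 2, 0, 2, 0, 2, 0, 2, 2, 0, 2, 1, 3, 1, 3, 1, 3, 1, 3, 3, 0, 2, 1, 2, 2, 0, 3, 0, 2, 1, 2, 1, 3, 1, 3, 0, 2, 0, 2, 0, 3, 0, 3, 0, 2, 1, 2, 1, 2], 1, false),
    ([0, 2, 0, 2, 0, 2, 0, 2, 0, 2, 0, 2, 2, 0, 2, 1, 3, 1, 3, 1, 3, 1, 3, 3, 0, 2, 1, 2, 2, 0, 3, 0, 2, 1, 2, 1, 3, 1, 3, 0, 2, 0, 2, 0, 3, 0, 3, 0, 2, 1, 2, 1, 2, 2], 0, false),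
    ([0, 2, 0, 2, 0, 2, 0, 2, 0, 2, 0, 2, 2, 0, 2, 1, 3, 1, 3, 1, 3, 1, 3, 3, 0, 2, 1, 2, 2, 0, 3, 0, 2, 1, 2, 1, 3, 1, 3, 0, 2, 0, 2, 0, 3, 0, 3, 0, 2, 1, 2, 1, 2, 2, 0, 3], 0, false),
    ([0, 2, 0, 2, 0, 2, 0, 2, 0, 2, 0, 2, 2, 0, 2, 1, 3, 1, 3, 1, 3, 1, 3, 3, 0, 2, 1, 2, 2, 0, 3, 0, 2, 1, 2, 1, 3, 1, 3, 0, 2, 0, 2, 0, 3, 0, 3, 0, 2, 1, 2, 1, 2, 2, 0, 3], 0, true),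
    ([0, 2, 0, 2, 0, 2, 0, 2, 0, 2, 0, 2, 2, 0, 2, 1, 3, 1, 3, 1, 3, 1, 3, 3, 0, 2, 1, 2, 2, 0, 3, 0, 2, 1, 2, 1, 3, 1, 3, 0, 2, 0, 2, 0, 3, 0, 3, 0, 2, 1, 2, 1, 2, 2], 0, true),
    ([0, 2, 0, 2, 0, 2, 0, 2, 0, 2, 0, 2, 2, 0, 2, 1, 3, 1, 3, 1, 3, 1, 3, 3, 0, 2, 1, 2, 2, 0, 3, 0, 2, 1, 2, 1, 3, 1, 3, 0, 2, 0, 2, 0, 3, 0, 3, 0, 2, 1, 2, 1, 2], 1, true),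
    ([0, 2, 0, 2, 0, 2, 0, 2, 0, 2, 0, 2, 2, 0, 2, 1, 3, 1, 3, 1, 3, 1, 3, 3, 0, 2, 1, 2, 2, 0, 3, 0, 2, 1, 2, 1, 3, 1, 3, 0, 2, 0, 2, 0, 3, 0, 3, 0, 2, 1, 2, 1], 0, false),
    ([0, 2, 0, 2, 0, 2, 0, 2, 0, 2, 0, 2, 2, 0, 2, 1, 3, 1, 3, 1, 3, 1, 3, 3, 0, 2, 1, 2, 2, 0, 3, 0, 2, 1, 2, 1, 3, 1, 3, 0, 2, 0, 2, 0, 3, 0, 3, 0, 2, 1], 0, false),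
    ([0, 2, 0, 2, 0, 2, 0, 2, 0, 2, 0, 2, 2, 0, 2, 1, 3, 1, 3, 1, 3, 1, 3, 3, 0, 2, 1, 2, 2, 0, 3, 0, 2, 1, 2, 1, 3, 1, 3, 0, 2, 0, 2, 0, 3, 0, 3], 0, true),
    ([0, 2, 0, 2, 0, 2, 0, 2, 0, 2, 0, 2, 2, 0, 2, 1, 3, 1, 3, 1, 3, 1, 3, 3, 0, 2, 1, 2, 2, 0, 3, 0, 2, 1, 2, 1, 3, 1, 3, 0, 2, 0, 2, 0, 3], 0, true),
    ([0, 2, 0, 2, 0, 2, 0, 2, 0, 2, 0, 2, 2, 0, 2, 1, 3, 1, 3, 1, 3, 1, 3, 3, 0, 2, 1, 2, 2, 0, 3, 0, 2, 1, 2, 1, 3, 1, 3], 0, true),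
    ([0, 2, 0, 2, 0, 2, 0, 2, 0, 2, 0, 2, 2, 0, 2, 1, 3, 1, 3, 1, 3, 1, 3, 3, 0, 2, 1, 2, 2, 0, 3, 0, 2, 1, 2, 1], 4, false),
    ([0, 2, 0, 2, 0, 2, 0, 2, 0, 2, 0, 2, 2, 0, 2, 1, 3, 1, 3, 1, 3, 1, 3, 3, 0, 2, 1, 2, 2, 0, 3, 0, 2, 1, 2, 1], 0, false),
    ([0, 2, 0, 2, 0, 2, 0, 2, 0, 2, 0, 2, 2, 0, 2, 1, 3, 1, 3, 1, 3, 1, 3, 3, 0, 2, 1, 2, 2, 0, 3, 0, 2, 1], 0, false),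
    ([0, 2, 0, 2, 0, 2, 0, 2, 0, 2, 0, 2, 2, 0, 2, 1, 3, 1, 3, 1, 3, 1, 3, 3, 0, 2, 1, 2, 2, 0, 3], 0, true),
    ([0, 2, 0, 2, 0, 2, 0, 2, 0, 2, 0, 2, 2, 0, 2, 1, 3, 1, 3, 1, 3, 1, 3, 3, 0, 2, 1, 2, 2], 0, true),
    ([0, 2, 0, 2, 0, 2, 0, 2, 0, 2, 0, 2, 2, 0, 2, 1, 3, 1, 3, 1, 3, 1, 3, 3, 0, 2, 1, 2], 1, true),
    ([0, 2, 0, 2, 0, 2, 0, 2, 0, 2, 0, 2, 2, 0, 2, 1, 3, 1, 3, 1, 3, 1, 3, 3, 0, 2, 1], 0, false),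
    ([0, 2, 0, 2, 0, 2, 0, 2, 0, 2, 0, 2, 2, 0, 2, 1, 3, 1, 3, 1, 3, 1, 3], 1, false),
    ([0, 2, 0, 2, 0, 2, 0, 2, 0, 2, 0, 2, 2, 0, 2, 1, 3, 1], 0, false),
    ([0, 2, 0, 2, 0, 2, 0, 2, 0, 2, 0, 2, 2, 0, 2, 1, 3, 3], 0, false),
    ([0, 2, 0, 2, 0, 2, 0, 2, 0, 2, 0, 2, 2, 0, 2, 1, 3], 1, false),
    ([0, 2, 0, 2, 0, 2, 0, 2, 0, 2, 0, 2, 2, 0, 2, 1], 0, false),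
    ([0, 2, 0, 2, 0, 2, 0, 2, 0, 2, 0, 2], 1, true),
    ([0, 2, 0, 2, 0, 2], 6, true)]

/-- The conjugates of relators for relation 23. -/
def conj23 : List (List ℕ × ℕ × Bool) :=
  [([2, 0, 3, 0, 3, 1, 2, 1, 2, 0, 3, 0, 2, 1, 2, 1, 3, 0, 2, 0, 3, 0, 3, 1, 2, 1, 3, 3, 0, 3, 1, 2, 1, 3, 0, 3, 0, 2, 1, 2, 2, 0, 3, 0, 2, 1, 2], 1, true),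
    ([2, 0, 3, 0, 3, 1, 2, 1, 2, 0, 3, 0, 2, 1, 2, 1, 3, 0, 2, 0, 3, 0, 3, 1, 2, 1, 3, 3, 0, 3, 1, 2, 1, 3, 0, 3, 0, 2, 1, 2, 2, 0, 3, 0, 2, 1], 0, false),
    ([2, 0, 3, 0, 3, 1, 2, 1, 2, 0, 3, 0, 2, 1, 2, 1, 3, 0, 2, 0, 3, 0, 3, 1, 2, 1, 3, 3, 0, 3, 1, 2, 1, 3, 0, 3, 0, 2, 1, 2], 1, true),
    ([2, 0, 3, 0, 3, 1, 2, 1, 2, 0, 3, 0, 2, 1, 2, 1, 3, 0, 2, 0, 3, 0, 3, 1, 2, 1, 3, 3, 0, 3, 1, 2, 1, 3, 0, 3, 0, 2, 1], 0, false),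
    ([2, 0, 3, 0, 3, 1, 2, 1, 2, 0, 3, 0, 2, 1, 2, 1, 3, 0, 2, 0, 3, 0, 3, 1, 2, 1, 3, 3, 0, 3, 1, 2, 1], 0, false),
    ([2, 0, 3, 0, 3, 1, 2, 1, 2, 0, 3, 0, 2, 1, 2, 1, 3, 0, 2, 0, 3, 0, 3, 1, 2, 1, 3, 3, 0, 3, 1], 0, false),
    ([2, 0, 3, 0, 3, 1, 2, 1, 2, 0, 3, 0, 2, 1, 2, 1, 3, 0, 2, 0, 3, 0, 3, 1, 2, 1, 3], 1, false),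
    ([2, 0, 3, 0, 3, 1, 2, 1, 2, 0, 3, 0, 2, 1, 2, 1, 3, 0, 2, 0, 3, 0, 3, 1, 2, 1], 0, false),
    ([2, 0, 3, 0, 3, 1, 2, 1, 2, 0, 3, 0, 2, 1, 2, 1, 3, 0, 2, 0, 3, 0, 3, 1], 0, false),
    ([2, 0, 3, 0, 3, 1, 2, 1, 2, 0, 3, 0, 2, 1, 2, 1, 3, 0, 2, 0], 1, false),
    ([2, 0, 3, 0, 3, 1, 2, 1, 2, 0, 3, 0, 2, 1, 2, 1, 3, 0, 2, 0, 2], 0, false),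
    ([2, 0, 3, 0, 3, 1, 2, 1, 2, 0, 3, 0, 2, 1, 2, 1, 3, 0, 2, 0, 2, 0, 3], 0, false),
    ([2, 0, 3, 0, 3, 1, 2, 1, 2, 0, 3, 0, 2, 1, 2, 1, 3, 0, 2, 0, 2, 0, 3, 0, 2], 0, false),
    ([2, 0, 3, 0, 3, 1, 2, 1, 2, 0, 3, 0, 2, 1, 2, 1, 3, 0, 2, 0, 2, 0, 3, 0, 2], 0, true),
    ([2, 0, 3, 0, 3, 1, 2, 1, 2, 0, 3, 0, 2, 1, 2, 1, 3, 0, 2, 0, 2, 0, 3], 0, true),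
    ([2, 0, 3, 0, 3, 1, 2, 1, 2, 0, 3, 0, 2, 1, 2, 1, 3, 0, 2, 0, 2], 0, true),
    ([2, 0, 3, 0, 3, 1, 2, 1, 2, 0, 3, 0, 2, 1, 2, 1, 3, 0, 2], 0, true),
    ([2, 0, 3, 0, 3, 1, 2, 1, 2, 0, 3, 0, 2, 1, 2, 1, 3], 0, true),
    ([2, 0, 3, 0, 3, 1, 2, 1, 2, 0, 3], 0, true),
    ([2, 0, 3, 0, 3, 1, 2, 1, 2], 0, true),
    ([2, 0, 3, 0, 3, 1], 6, false),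
    ([2, 0, 3], 0, true),
    ([2], 0, true),
    ([0, 2, 0, 2, 0, 3], 6, true)]

/-- The conjugates of relators for relation 24. -/
def conj24 : List (List ℕ × ℕ × Bool) :=
  [([0, 2, 0, 2, 0, 2, 0, 2, 0, 2, 0, 2, 1, 3, 1, 3, 1, 3, 1, 3, 1, 2, 0, 3, 0, 3, 1, 2, 1, 3, 0, 3, 0, 2, 1, 2, 1, 3, 0, 2, 0, 2, 0, 3, 0, 3, 0, 2, 1, 2, 1, 2, 1, 3, 1, 3, 1, 2, 0, 3, 0, 3, 1, 2, 1, 2, 0, 3, 0, 2, 1, 2, 1, 3, 0, 2, 0, 2, 0, 2, 0, 2, 0, 3, 1, 3, 1, 3, 1, 3, 1, 3, 1, 3, 3, 0, 2, 1, 2, 2, 0, 3, 0, 2, 1, 2, 1, 3, 1, 3, 0, 2, 0, 2, 0, 3, 0, 3, 0, 2, 1, 2, 1, 2, 2, 0], 1, true),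
    ([0, 2, 0, 2, 0, 2, 0, 2, 0, 2, 0, 2, 1, 3, 1, 3, 1, 3, 1, 3, 1, 2, 0, 3, 0, 3, 1, 2, 1, 3, 0, 3, 0, 2, 1, 2, 1, 3, 0, 2, 0, 2, 0, 3, 0, 3, 0, 2, 1, 2, 1, 2, 1, 3, 1, 3, 1, 2, 0, 3, 0, 3, 1, 2, 1, 2, 0, 3, 0, 2, 1, 2, 1, 3, 0, 2, 0, 2, 0, 2, 0, 2, 0, 3, 1, 3, 1, 3, 1, 3, 1, 3, 1, 3, 3, 0, 2, 1, 2, 2, 0, 3, 0, 2, 1, 2, 1, 3, 1, 3, 0, 2, 0, 2, 0, 3, 0, 3, 0, 2, 1, 2, 1, 2, 2, 0, 3], 0, false),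
    ([0, 2, 0, 2, 0, 2, 0, 2, 0, 2, 0, 2, 1, 3, 1, 3, 1, 3, 1, 3, 1, 2, 0, 3, 0, 3, 1, 2, 1, 3, 0, 3, 0, 2, 1, 2, 1, 3, 0, 2, 0, 2, 0, 3, 0, 3, 0, 2, 1, 2, 1, 2, 1, 3, 1, 3, 1, 2, 0, 3, 0, 3, 1, 2, 1, 2, 0, 3, 0, 2, 1, 2, 1, 3, 0, 2, 0, 2, 0, 2, 0, 2, 0, 3, 1, 3, 1, 3, 1, 3, 1, 3, 1, 3, 3, 0, 2, 1, 2, 2, 0, 3, 0, 2, 1, 2, 1, 3, 1, 3, 0, 2, 0, 2, 0, 3, 0, 3, 0, 2, 1, 2, 1, 2, 2, 0, 3], 0, true),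
    ([0, 2, 0, 2, 0, 2, 0, 2, 0, 2, 0, 2, 1, 3, 1, 3, 1, 3, 1, 3, 1, 2, 0, 3, 0, 3, 1, 2, 1, 3, 0, 3, 0, 2, 1, 2, 1, 3, 0, 2, 0, 2, 0, 3, 0, 3, 0, 2, 1, 2, 1, 2, 1, 3, 1, 3, 1, 2, 0, 3, 0, 3, 1, 2, 1, 2, 0, 3, 0, 2, 1, 2, 1, 3, 0, 2, 0, 2, 0, 2, 0, 2, 0, 3, 1, 3, 1, 3, 1, 3, 1, 3, 1, 3, 3, 0, 2, 1, 2, 2, 0, 3, 0, 2, 1, 2, 1, 3, 1, 3, 0, 2, 0, 2, 0, 3, 0, 3, 0, 2, 1, 2, 1, 2, 2], 0, true),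
    ([0, 2, 0, 2, 0, 2, 0, 2, 0, 2, 0, 2, 1, 3, 1, 3, 1, 3, 1, 3, 1, 2, 0, 3, 0, 3, 1, 2, 1, 3, 0, 3, 0, 2, 1, 2, 1, 3, 0, 2, 0, 2, 0, 3, 0, 3, 0, 2, 1, 2, 1, 2, 1, 3, 1, 3, 1, 2, 0, 3, 0, 3, 1, 2, 1, 2, 0, 3, 0, 2, 1, 2, 1, 3, 0, 2, 0, 2, 0, 2, 0, 2, 0, 3, 1, 3, 1, 3, 1, 3, 1, 3, 1, 3, 3, 0, 2, 1, 2, 2, 0, 3, 0, 2, 1, 2, 1, 3, 1, 3, 0, 2, 0, 2, 0, 3, 0, 3, 0, 2, 1, 2, 1, 2], 1, true),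
    ([0, 2, 0, 2, 0, 2, 0, 2, 0, 2, 0, 2, 1, 3, 1, 3, 1, 3, 1, 3, 1, 2, 0, 3, 0, 3, 1, 2, 1, 3, 0, 3, 0, 2, 1, 2, 1, 3, 0, 2, 0, 2, 0, 3, 0, 3, 0, 2, 1, 2, 1, 2, 1, 3, 1, 3, 1, 2, 0, 3, 0, 3, 1, 2, 1, 2, 0, 3, 0, 2, 1, 2, 1, 3, 0, 2, 0, 2, 0, 2, 0, 2, 0, 3, 1, 3, 1, 3, 1, 3, 1, 3, 1, 3, 3, 0, 2, 1, 2, 2, 0, 3, 0, 2, 1, 2, 1, 3, 1, 3, 0, 2, 0, 2, 0, 3, 0, 3, 0, 2, 1, 2, 1], 0, false),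
    ([0, 2, 0, 2, 0, 2, 0, 2, 0, 2, 0, 2, 1, 3, 1, 3, 1, 3, 1, 3, 1, 2, 0, 3, 0, 3, 1, 2, 1, 3, 0, 3, 0, 2, 1, 2, 1, 3, 0, 2, 0, 2, 0, 3, 0, 3, 0, 2, 1, 2, 1, 2, 1, 3, 1, 3, 1, 2, 0, 3, 0, 3, 1, 2, 1, 2, 0, 3, 0, 2, 1, 2, 1, 3, 0, 2, 0, 2, 0, 2, 0, 2, 0, 3, 1, 3, 1, 3, 1, 3, 1, 3, 1, 3, 3, 0, 2, 1, 2, 2, 0, 3, 0, 2, 1, 2, 1, 3, 1, 3, 0, 2, 0, 2, 0, 3, 0, 3, 0, 2, 1], 0, false),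
    ([0, 2, 0, 2, 0, 2, 0, 2, 0, 2, 0, 2, 1, 3, 1, 3, 1, 3, 1, 3, 1, 2, 0, 3, 0, 3, 1, 2, 1, 3, 0, 3, 0, 2, 1, 2, 1, 3, 0, 2, 0, 2, 0, 3, 0, 3, 0, 2, 1, 2, 1, 2, 1, 3, 1, 3, 1, 2, 0, 3, 0, 3, 1, 2, 1, 2, 0, 3, 0, 2, 1, 2, 1, 3, 0, 2, 0, 2, 0, 2, 0, 2, 0, 3, 1, 3, 1, 3, 1, 3, 1, 3, 1, 3, 3, 0, 2, 1, 2, 2, 0, 3, 0, 2, 1, 2, 1, 3, 1, 3, 0, 2, 0, 2, 0, 3, 0, 3], 0, true),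
    ([0, 2, 0, 2, 0, 2, 0, 2, 0, 2, 0, 2, 1, 3, 1, 3, 1, 3, 1, 3, 1, 2, 0, 3, 0, 3, 1, 2, 1, 3, 0, 3, 0, 2, 1, 2, 1, 3, 0, 2, 0, 2, 0, 3, 0, 3, 0, 2, 1, 2, 1, 2, 1, 3, 1, 3, 1, 2, 0, 3, 0, 3, 1, 2, 1, 2, 0, 3, 0, 2, 1, 2, 1, 3, 0, 2, 0, 2, 0, 2, 0, 2, 0, 3, 1, 3, 1, 3, 1, 3, 1, 3, 1, 3, 3, 0, 2, 1, 2, 2, 0, 3, 0, 2, 1, 2, 1, 3, 1, 3, 0, 2, 0, 2, 0, 3], 0, true),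
    ([0, 2, 0, 2, 0, 2, 0, 2, 0, 2, 0, 2, 1, 3, 1, 3, 1, 3, 1, 3, 1, 2, 0, 3, 0, 3, 1, 2, 1, 3, 0, 3, 0, 2, 1, 2, 1, 3, 0, 2, 0, 2, 0, 3, 0, 3, 0, 2, 1, 2, 1, 2, 1, 3, 1, 3, 1, 2, 0, 3, 0, 3, 1, 2, 1, 2, 0, 3, 0, 2, 1, 2, 1, 3, 0, 2, 0, 2, 0, 2, 0, 2, 0, 3, 1, 3, 1, 3, 1, 3, 1, 3, 1, 3, 3, 0, 2, 1, 2, 2, 0, 3, 0, 2, 1, 2, 1, 3, 1, 3], 0, true),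
    ([0, 2, 0, 2, 0, 2, 0, 2, 0, 2, 0, 2, 1, 3, 1, 3, 1, 3, 1, 3, 1, 2, 0, 3, 0, 3, 1, 2, 1, 3, 0, 3, 0, 2, 1, 2, 1, 3, 0, 2, 0, 2, 0, 3, 0, 3, 0, 2, 1, 2, 1, 2, 1, 3, 1, 3, 1, 2, 0, 3, 0, 3, 1, 2, 1, 2, 0, 3, 0, 2, 1, 2, 1, 3, 0, 2, 0, 2, 0, 2, 0, 2, 0, 3, 1, 3, 1, 3, 1, 3, 1, 3, 1, 3, 3, 0, 2, 1, 2, 2, 0, 3, 0, 2, 1, 2, 1], 4, false),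
    ([0, 2, 0, 2, 0, 2, 0, 2, 0, 2, 0, 2, 1, 3, 1, 3, 1, 3, 1, 3, 1, 2, 0, 3, 0, 3, 1, 2, 1, 3, 0, 3, 0, 2, 1, 2, 1, 3, 0, 2, 0, 2, 0, 3, 0, 3, 0, 2, 1, 2, 1, 2, 1, 3, 1, 3, 1, 2, 0, 3, 0, 3, 1, 2, 1, 2, 0, 3, 0, 2, 1, 2, 1, 3, 0, 2, 0, 2, 0, 2, 0, 2, 0, 3, 1, 3, 1, 3, 1, 3, 1, 3, 1, 3, 3, 0, 2, 1, 2, 2, 0, 3, 0, 2, 1, 2, 1], 0, false),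
    ([0, 2, 0, 2, 0, 2, 0, 2, 0, 2, 0, 2, 1, 3, 1, 3, 1, 3, 1, 3, 1, 2, 0, 3, 0, 3, 1, 2, 1, 3, 0, 3, 0, 2, 1, 2, 1, 3, 0, 2, 0, 2, 0, 3, 0, 3, 0, 2, 1, 2, 1, 2, 1, 3, 1, 3, 1, 2, 0, 3, 0, 3, 1, 2, 1, 2, 0, 3, 0, 2, 1, 2, 1, 3, 0, 2, 0, 2, 0, 2, 0, 2, 0, 3, 1, 3, 1, 3, 1, 3, 1, 3, 1, 3, 3, 0, 2, 1, 2, 2, 0, 3, 0, 2, 1], 0, false),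
    ([0, 2, 0, 2, 0, 2, 0, 2, 0, 2, 0, 2, 1, 3, 1, 3, 1, 3, 1, 3, 1, 2, 0, 3, 0, 3, 1, 2, 1, 3, 0, 3, 0, 2, 1, 2, 1, 3, 0, 2, 0, 2, 0, 3, 0, 3, 0, 2, 1, 2, 1, 2, 1, 3, 1, 3, 1, 2, 0, 3, 0, 3, 1, 2, 1, 2, 0, 3, 0, 2, 1, 2, 1, 3, 0, 2, 0, 2, 0, 2, 0, 2, 0, 3, 1, 3, 1, 3, 1, 3, 1, 3, 1, 3, 3, 0, 2, 1, 2, 2, 0, 3], 0, true),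
    ([0, 2, 0, 2, 0, 2, 0, 2, 0, 2, 0, 2, 1, 3, 1, 3, 1, 3, 1, 3, 1, 2, 0, 3, 0, 3, 1, 2, 1, 3, 0, 3, 0, 2, 1, 2, 1, 3, 0, 2, 0, 2, 0, 3, 0, 3, 0, 2, 1, 2, 1, 2, 1, 3, 1, 3, 1, 2, 0, 3, 0, 3, 1, 2, 1, 2, 0, 3, 0, 2, 1, 2, 1, 3, 0, 2, 0, 2, 0, 2, 0, 2, 0, 3, 1, 3, 1, 3, 1, 3, 1, 3, 1, 3, 3, 0, 2, 1, 2, 2], 0, true),
    ([0, 2, 0, 2, 0, 2, 0, 2, 0, 2, 0, 2, 1, 3, 1, 3, 1, 3, 1, 3, 1, 2, 0, 3, 0, 3, 1, 2, 1, 3, 0, 3, 0, 2, 1, 2, 1, 3, 0, 2, 0, 2, 0, 3, 0, 3, 0, 2, 1, 2, 1, 2, 1, 3, 1, 3, 1, 2, 0, 3, 0, 3, 1, 2, 1, 2, 0, 3, 0, 2, 1, 2, 1, 3, 0, 2, 0, 2, 0, 2, 0, 2, 0, 3, 1, 3, 1, 3, 1, 3, 1, 3, 1, 3, 3, 0, 2, 1, 2], 1, true),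
    ([0, 2, 0, 2, 0, 2, 0, 2, 0, 2, 0, 2, 1, 3, 1, 3, 1, 3, 1, 3, 1, 2, 0, 3, 0, 3, 1, 2, 1, 3, 0, 3, 0, 2, 1, 2, 1, 3, 0, 2, 0, 2, 0, 3, 0, 3, 0, 2, 1, 2, 1, 2, 1, 3, 1, 3, 1, 2, 0, 3, 0, 3, 1, 2, 1, 2, 0, 3, 0, 2, 1, 2, 1, 3, 0, 2, 0, 2, 0, 2, 0, 2, 0, 3, 1, 3, 1, 3, 1, 3, 1, 3, 1, 3, 3, 0, 2, 1], 0, false),
    ([0, 2, 0, 2, 0, 2, 0, 2, 0, 2, 0, 2, 1, 3, 1, 3, 1, 3, 1, 3, 1, 2, 0, 3, 0, 3, 1, 2, 1, 3, 0, 3, 0, 2, 1, 2, 1, 3, 0, 2, 0, 2, 0, 3, 0, 3, 0, 2, 1, 2, 1, 2, 1, 3, 1, 3, 1, 2, 0, 3, 0, 3, 1, 2, 1, 2, 0, 3, 0, 2, 1, 2, 1, 3, 0, 2, 0, 2, 0, 2, 0, 2, 0, 3, 1, 3, 1, 3, 1, 3, 1, 3, 1, 3], 1, false),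
    ([0, 2, 0, 2, 0, 2, 0, 2, 0, 2, 0, 2, 1, 3, 1, 3, 1, 3, 1, 3, 1, 2, 0, 3, 0, 3, 1, 2, 1, 3, 0, 3, 0, 2, 1, 2, 1, 3, 0, 2, 0, 2, 0, 3, 0, 3, 0, 2, 1, 2, 1, 2, 1, 3, 1, 3, 1, 2, 0, 3, 0, 3, 1, 2, 1, 2, 0, 3, 0, 2, 1, 2, 1, 3, 0, 2, 0, 2, 0, 2, 0, 2, 0, 3, 1, 3, 1, 3, 1], 0, false),
    ([0, 2, 0, 2, 0, 2, 0, 2, 0, 2, 0, 2, 1, 3, 1, 3, 1, 3, 1, 3, 1, 2, 0, 3, 0, 3, 1, 2, 1, 3, 0, 3, 0, 2, 1, 2, 1, 3, 0, 2, 0, 2, 0, 3, 0, 3, 0, 2, 1, 2, 1, 2, 1, 3, 1, 3, 1, 2, 0, 3, 0, 3, 1, 2, 1, 2, 0, 3, 0, 2, 1, 2, 1, 3, 0, 2, 0, 2, 0, 2, 0, 2, 0, 3, 1, 3, 1, 3, 3], 0, false),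
    ([0, 2, 0, 2, 0, 2, 0, 2, 0, 2, 0, 2, 1, 3, 1, 3, 1, 3, 1, 3, 1, 2, 0, 3, 0, 3, 1, 2, 1, 3, 0, 3, 0, 2, 1, 2, 1, 3, 0, 2, 0, 2, 0, 3, 0, 3, 0, 2, 1, 2, 1, 2, 1, 3, 1, 3, 1, 2, 0, 3, 0, 3, 1, 2, 1, 2, 0, 3, 0, 2, 1, 2, 1, 3, 0, 2, 0, 2, 0, 2, 0, 2, 0, 3, 1, 3, 1, 3], 1, false),
    ([0, 2, 0, 2, 0, 2, 0, 2, 0, 2, 0, 2, 1, 3, 1, 3, 1, 3, 1, 3, 1, 2, 0, 3, 0, 3, 1, 2, 1, 3, 0, 3, 0, 2, 1, 2, 1, 3, 0, 2, 0, 2, 0, 3, 0, 3, 0, 2, 1, 2, 1, 2, 1, 3, 1, 3, 1, 2, 0, 3, 0, 3, 1, 2, 1, 2, 0, 3, 0, 2, 1, 2, 1, 3, 0, 2, 0, 2, 0, 2, 0, 2, 0, 3, 1, 3, 1], 0, false),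
    ([0, 2, 0, 2, 0, 2, 0, 2, 0, 2, 0, 2, 1, 3, 1, 3, 1, 3, 1, 3, 1, 2, 0, 3, 0, 3, 1, 2, 1, 3, 0, 3, 0, 2, 1, 2, 1, 3, 0, 2, 0, 2, 0, 3, 0, 3, 0, 2, 1, 2, 1, 2, 1, 3, 1, 3, 1, 2, 0, 3, 0, 3, 1, 2, 1, 2, 0, 3, 0, 2, 1, 2, 1, 3, 0, 2, 0, 2, 0, 2, 0, 2, 0, 3, 1], 0, false),
    ([0, 2, 0, 2, 0, 2, 0, 2, 0, 2, 0, 2, 1, 3, 1, 3, 1, 3, 1, 3, 1, 2, 0, 3, 0, 3, 1, 2, 1, 3, 0, 3, 0, 2, 1, 2, 1, 3, 0, 2, 0, 2, 0, 3, 0, 3, 0, 2, 1, 2, 1, 2, 1, 3, 1, 3, 1, 2, 0, 3, 0, 3, 1, 2, 1, 2, 0, 3, 0, 2, 1, 2, 1, 3, 0, 2, 0, 2, 0], 1, true),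
    ([0, 2, 0, 2, 0, 2, 0, 2, 0, 2, 0, 2, 1, 3, 1, 3, 1, 3, 1, 3, 1, 2, 0, 3, 0, 3, 1, 2, 1, 3, 0, 3, 0, 2, 1, 2, 1, 3, 0, 2, 0, 2, 0, 3, 0, 3, 0, 2, 1, 2, 1, 2, 1, 3, 1, 3, 1, 2, 0, 3, 0, 3, 1, 2, 1, 2, 0, 3, 0, 2, 1, 2, 1, 3, 0, 2, 0, 2, 0, 3], 0, false),
    ([0, 2, 0, 2, 0, 2, 0, 2, 0, 2, 0, 2, 1, 3, 1, 3, 1, 3, 1, 3, 1, 2, 0, 3, 0, 3, 1, 2, 1, 3, 0, 3, 0, 2, 1, 2, 1, 3, 0, 2, 0, 2, 0, 3, 0, 3, 0, 2, 1, 2, 1, 2, 1, 3, 1, 3, 1, 2, 0, 3, 0, 3, 1, 2, 1, 2, 0, 3, 0, 2, 1, 2, 1, 3, 0, 2, 0, 2, 0, 3, 0, 2], 0, false),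
    ([0, 2, 0, 2, 0, 2, 0, 2, 0, 2, 0, 2, 1, 3, 1, 3, 1, 3, 1, 3, 1, 2, 0, 3, 0, 3, 1, 2, 1, 3, 0, 3, 0, 2, 1, 2, 1, 3, 0, 2, 0, 2, 0, 3, 0, 3, 0, 2, 1, 2, 1, 2, 1, 3, 1, 3, 1, 2, 0, 3, 0, 3, 1, 2, 1, 2, 0, 3, 0, 2, 1, 2, 1, 3, 0, 2, 0, 2, 0, 3, 0, 2], 0, true),
    ([0, 2, 0, 2, 0, 2, 0, 2, 0, 2, 0, 2, 1, 3, 1, 3, 1, 3, 1, 3, 1, 2, 0, 3, 0, 3, 1, 2, 1, 3, 0, 3, 0, 2, 1, 2, 1, 3, 0, 2, 0, 2, 0, 3, 0, 3, 0, 2, 1, 2, 1, 2, 1, 3, 1, 3, 1, 2, 0, 3, 0, 3, 1, 2, 1, 2, 0, 3, 0, 2, 1, 2, 1, 3, 0, 2, 0, 2, 0, 3], 0, true),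
    ([0, 2, 0, 2, 0, 2, 0, 2, 0, 2, 0, 2, 1, 3, 1, 3, 1, 3, 1, 3, 1, 2, 0, 3, 0, 3, 1, 2, 1, 3, 0, 3, 0, 2, 1, 2, 1, 3, 0, 2, 0, 2, 0, 3, 0, 3, 0, 2, 1, 2, 1, 2, 1, 3, 1, 3, 1, 2, 0, 3, 0, 3, 1, 2, 1, 2, 0, 3, 0, 2, 1, 2, 1, 3, 0, 2, 0, 2], 0, true),
    ([0, 2, 0, 2, 0, 2, 0, 2, 0, 2, 0, 2, 1, 3, 1, 3, 1, 3, 1, 3, 1, 2, 0, 3, 0, 3, 1, 2, 1, 3, 0, 3, 0, 2, 1, 2, 1, 3, 0, 2, 0, 2, 0, 3, 0, 3, 0, 2, 1, 2, 1, 2, 1, 3, 1, 3, 1, 2, 0, 3, 0, 3, 1, 2, 1, 2, 0, 3, 0, 2, 1, 2, 1, 3, 0, 2], 0, true),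
    ([0, 2, 0, 2, 0, 2, 0, 2, 0, 2, 0, 2, 1, 3, 1, 3, 1, 3, 1, 3, 1, 2, 0, 3, 0, 3, 1, 2, 1, 3, 0, 3, 0, 2, 1, 2, 1, 3, 0, 2, 0, 2, 0, 3, 0, 3, 0, 2, 1, 2, 1, 2, 1, 3, 1, 3, 1, 2, 0, 3, 0, 3, 1, 2, 1, 2, 0, 3, 0, 2, 1, 2, 1, 3], 0, true),
    ([0, 2, 0, 2, 0, 2, 0, 2, 0, 2, 0, 2, 1, 3, 1, 3, 1, 3, 1, 3, 1, 2, 0, 3, 0, 3, 1, 2, 1, 3, 0, 3, 0, 2, 1, 2, 1, 3, 0, 2, 0, 2, 0, 3, 0, 3, 0, 2, 1, 2, 1, 2, 1, 3, 1, 3, 1, 2, 0, 3, 0, 3, 1, 2, 1, 2, 0, 3], 0, true),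
    ([0, 2, 0, 2, 0, 2, 0, 2, 0, 2, 0, 2, 1, 3, 1, 3, 1, 3, 1, 3, 1, 2, 0, 3, 0, 3, 1, 2, 1, 3, 0, 3, 0, 2, 1, 2, 1, 3, 0, 2, 0, 2, 0, 3, 0, 3, 0, 2, 1, 2, 1, 2, 1, 3, 1, 3, 1, 2, 0, 3, 0, 3, 1, 2, 1, 2], 0, true),
    ([0, 2, 0, 2, 0, 2, 0, 2, 0, 2, 0, 2, 1, 3, 1, 3, 1, 3, 1, 3, 1, 2, 0, 3, 0, 3, 1, 2, 1, 3, 0, 3, 0, 2, 1, 2, 1, 3, 0, 2, 0, 2, 0, 3, 0, 3, 0, 2, 1, 2, 1, 2, 1, 3, 1, 3, 1, 2, 0, 3, 0, 3, 1], 6, false),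
    ([0, 2, 0, 2, 0, 2, 0, 2, 0, 2, 0, 2, 1, 3, 1, 3, 1, 3, 1, 3, 1, 2, 0, 3, 0, 3, 1, 2, 1, 3, 0, 3, 0, 2, 1, 2, 1, 3, 0, 2, 0, 2, 0, 3, 0, 3, 0, 2, 1, 2, 1, 2, 1, 3, 1, 3, 1, 2, 0, 3], 0, true),
    ([0, 2, 0, 2, 0, 2, 0, 2, 0, 2, 0, 2, 1, 3, 1, 3, 1, 3, 1, 3, 1, 2, 0, 3, 0, 3, 1, 2, 1, 3, 0, 3, 0, 2, 1, 2, 1, 3, 0, 2, 0, 2, 0, 3, 0, 3, 0, 2, 1, 2, 1, 2, 1, 3, 1, 3, 1, 2], 0, true),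
    ([0, 2, 0, 2, 0, 2, 0, 2, 0, 2, 0, 2, 1, 3, 1, 3, 1, 3, 1, 3, 1, 2, 0, 3, 0, 3, 1, 2, 1, 3, 0, 3, 0, 2, 1, 2, 1, 3, 0, 2, 0, 2, 0, 3, 0, 3, 0, 2, 1, 2], 1, true),
    ([0, 2, 0, 2, 0, 2, 0, 2, 0, 2, 0, 2, 1, 3, 1, 3, 1, 3, 1, 3, 1, 2, 0, 3, 0, 3, 1, 2, 1, 3, 0, 3, 0, 2, 1, 2, 1, 3, 0, 2, 0, 2, 0, 3, 0, 3, 0, 2, 1], 0, false),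
    ([0, 2, 0, 2, 0, 2, 0, 2, 0, 2, 0, 2, 1, 3, 1, 3, 1, 3, 1, 3, 1, 2, 0, 3, 0, 3, 1, 2, 1, 3, 0, 3, 0, 2, 1, 2, 1, 3, 0, 2, 0, 2, 0, 3, 0], 1, false),
    ([0, 2, 0, 2, 0, 2, 0, 2, 0, 2, 0, 2, 1, 3, 1, 3, 1, 3, 1, 3, 1, 2, 0, 3, 0, 3, 1, 2, 1, 3, 0, 3, 0, 2, 1, 2, 1, 3, 0, 2, 0, 2, 0, 3, 0, 2], 0, false),
    ([0, 2, 0, 2, 0, 2, 0, 2, 0, 2, 0, 2, 1, 3, 1, 3, 1, 3, 1, 3, 1, 2, 0, 3, 0, 3, 1, 2, 1, 3, 0, 3, 0, 2, 1, 2, 1], 0, false),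
    ([0, 2, 0, 2, 0, 2, 0, 2, 0, 2, 0, 2, 1, 3, 1, 3, 1, 3, 1, 3, 1, 2, 0, 3, 0, 3, 1, 2, 1, 3, 0, 3, 0, 2, 1], 0, false),
    ([0, 2, 0, 2, 0, 2, 0, 2, 0, 2, 0, 2, 1, 3, 1, 3, 1, 3, 1, 3, 1, 2, 0, 3, 0, 3, 1, 2, 1, 3, 0, 3], 6, true),
    ([0, 2, 0, 2, 0, 2, 0, 2, 0, 2, 0, 2, 1, 3, 1, 3, 1, 3, 1, 3, 1, 2, 0, 3, 0, 3, 1, 2, 1], 0, false),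
    ([0, 2, 0, 2, 0, 2, 0, 2, 0, 2, 0, 2, 1, 3, 1, 3, 1, 3, 1, 3, 1, 2, 0, 3, 0, 3, 1], 0, false),
    ([0, 2, 0, 2, 0, 2, 0, 2, 0, 2, 0, 2, 1, 3, 1, 3, 1, 3, 1, 3, 1], 0, false),
    ([0, 2, 0, 2, 0, 2, 0, 2, 0, 2, 0, 2, 1, 3, 1, 3, 1, 3, 1], 0, false),
    ([0, 2, 0, 2, 0, 2, 0, 2, 0, 2, 0, 2, 1, 3, 1, 3, 1], 0, false),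
    ([0, 2, 0, 2, 0, 2, 0, 2, 0, 2, 0, 2, 1, 3, 1, 3, 3], 0, false),
    ([0, 2, 0, 2, 0, 2, 0, 2, 0, 2, 0, 2, 1, 3, 1, 3, 3, 0, 2], 0, false),
    ([0, 2, 0, 2, 0, 2, 0, 2, 0, 2, 0, 2, 1, 3, 1, 3], 1, false),
    ([0, 2, 0, 2, 0, 2, 0, 2, 0, 2, 0, 2, 1, 3, 1], 0, false),
    ([0, 2, 0, 2, 0, 2, 0, 2, 0, 2, 0, 2, 1], 0, false),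
    ([0, 2, 0, 2, 0, 2, 0, 2], 6, true)]

/-- The conjugates of relators for relation 25. -/
def conj25 : List (List ℕ × ℕ × Bool) :=
  [([0, 2, 0, 2, 0, 3, 0, 3, 0, 3, 1, 2, 1, 2, 1, 3, 1, 3, 1, 2, 0, 2, 0, 3, 0, 3, 1, 2, 1, 3, 3, 0, 3, 1, 2, 2, 0, 3, 0, 2, 1, 2, 2, 0, 2, 0, 2, 0, 3, 1, 3, 3, 1, 3, 1, 3, 1, 3, 3, 0, 3, 0, 3, 1, 2, 1, 2], 1, true),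
    ([0, 2, 0, 2, 0, 3, 0, 3, 0, 3, 1, 2, 1, 2, 1, 3, 1, 3, 1, 2, 0, 2, 0, 3, 0, 3, 1, 2, 1, 3, 3, 0, 3, 1, 2, 2, 0, 3, 0, 2, 1, 2, 2, 0, 2, 0, 2, 0, 3, 1, 3, 3, 1, 3, 1, 3, 1, 3, 3, 0, 3, 0, 3, 1, 2, 1], 0, false),
    ([0, 2, 0, 2, 0, 3, 0, 3, 0, 3, 1, 2, 1, 2, 1, 3, 1, 3, 1, 2, 0, 2, 0, 3, 0, 3, 1, 2, 1, 3, 3, 0, 3, 1, 2, 2, 0, 3, 0, 2, 1, 2, 2, 0, 2, 0, 2, 0, 3, 1, 3, 3, 1, 3, 1, 3, 1, 3, 3, 0, 3, 0, 3, 1], 0, false),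
    ([0, 2, 0, 2, 0, 3, 0, 3, 0, 3, 1, 2, 1, 2, 1, 3, 1, 3, 1, 2, 0, 2, 0, 3, 0, 3, 1, 2, 1, 3, 3, 0, 3, 1, 2, 2, 0, 3, 0, 2, 1, 2, 2, 0, 2, 0, 2, 0, 3, 1, 3, 3, 1, 3, 1, 3, 1, 3], 1, false),
    ([0, 2, 0, 2, 0, 3, 0, 3, 0, 3, 1, 2, 1, 2, 1, 3, 1, 3, 1, 2, 0, 2, 0, 3, 0, 3, 1, 2, 1, 3, 3, 0, 3, 1, 2, 2, 0, 3, 0, 2, 1, 2, 2, 0, 2, 0, 2, 0, 3, 1, 3, 3, 1, 3, 1, 3, 1], 0, false),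
    ([0, 2, 0, 2, 0, 3, 0, 3, 0, 3, 1, 2, 1, 2, 1, 3, 1, 3, 1, 2, 0, 2, 0, 3, 0, 3, 1, 2, 1, 3, 3, 0, 3, 1, 2, 2, 0, 3, 0, 2, 1, 2, 2, 0, 2, 0, 2, 0, 3, 1, 3, 3, 1, 3, 1], 0, false),
    ([0, 2, 0, 2, 0, 3, 0, 3, 0, 3, 1, 2, 1, 2, 1, 3, 1, 3, 1, 2, 0, 2, 0, 3, 0, 3, 1, 2, 1, 3, 3, 0, 3, 1, 2, 2, 0, 3, 0, 2, 1, 2, 2, 0, 2, 0, 2, 0, 3, 1, 3, 3, 1], 0, false),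
    ([0, 2, 0, 2, 0, 3, 0, 3, 0, 3, 1, 2, 1, 2, 1, 3, 1, 3, 1, 2, 0, 2, 0, 3, 0, 3, 1, 2, 1, 3, 3, 0, 3, 1, 2, 2, 0, 3, 0, 2, 1, 2, 2, 0, 2, 0, 2, 0, 3, 1, 3], 1, false),
    ([0, 2, 0, 2, 0, 3, 0, 3, 0, 3, 1, 2, 1, 2, 1, 3, 1, 3, 1, 2, 0, 2, 0, 3, 0, 3, 1, 2, 1, 3, 3, 0, 3, 1, 2, 2, 0, 3, 0, 2, 1, 2, 2, 0, 2, 0, 2, 0, 3, 1], 0, false),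
    ([0, 2, 0, 2, 0, 3, 0, 3, 0, 3, 1, 2, 1, 2, 1, 3, 1, 3, 1, 2, 0, 2, 0, 3, 0, 3, 1, 2, 1, 3, 3, 0, 3, 1, 2, 2, 0, 3, 0, 2, 1, 2], 1, true),
    ([0, 2, 0, 2, 0, 3, 0, 3, 0, 3, 1, 2, 1, 2, 1, 3, 1, 3, 1, 2, 0, 2, 0, 3, 0, 3, 1, 2, 1, 3, 3, 0, 3, 1, 2, 2, 0, 3, 0, 2, 1], 0, false),
    ([0, 2, 0, 2, 0, 3, 0, 3, 0, 3, 1, 2, 1, 2, 1, 3, 1, 3, 1, 2, 0, 2, 0, 3, 0, 3, 1, 2, 1, 3, 3, 0, 3, 1, 2, 2, 0], 1, false),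
    ([0, 2, 0, 2, 0, 3, 0, 3, 0, 3, 1, 2, 1, 2, 1, 3, 1, 3, 1, 2, 0, 2, 0, 3, 0, 3, 1, 2, 1, 3, 3, 0, 3, 1, 2, 2, 0, 2], 0, false),
    ([0, 2, 0, 2, 0, 3, 0, 3, 0, 3, 1, 2, 1, 2, 1, 3, 1, 3, 1, 2, 0, 2, 0, 3, 0, 3, 1, 2, 1, 3, 3, 0, 3, 1, 2, 2, 0, 2, 0, 2], 0, false),
    ([0, 2, 0, 2, 0, 3, 0, 3, 0, 3, 1, 2, 1, 2, 1, 3, 1, 3, 1, 2, 0, 2, 0, 3, 0, 3, 1, 2, 1, 3, 3, 0, 3, 1, 2, 2, 0, 2, 0, 2, 0, 3], 0, false),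
    ([0, 2, 0, 2, 0, 3, 0, 3, 0, 3, 1, 2, 1, 2, 1, 3, 1, 3, 1, 2, 0, 2, 0, 3, 0, 3, 1, 2, 1, 3, 3, 0, 3, 1, 2, 2, 0, 2, 0, 2, 0, 3], 0, true),
    ([0, 2, 0, 2, 0, 3, 0, 3, 0, 3, 1, 2, 1, 2, 1, 3, 1, 3, 1, 2, 0, 2, 0, 3, 0, 3, 1, 2, 1, 3, 3, 0, 3, 1, 2, 2, 0, 2, 0, 2], 0, true),
    ([0, 2, 0, 2, 0, 3, 0, 3, 0, 3, 1, 2, 1, 2, 1, 3, 1, 3, 1, 2, 0, 2, 0, 3, 0, 3, 1, 2, 1, 3, 3, 0, 3, 1, 2], 1, true),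
    ([0, 2, 0, 2, 0, 3, 0, 3, 0, 3, 1, 2, 1, 2, 1, 3, 1, 3, 1, 2, 0, 2, 0, 3, 0, 3, 1, 2, 1, 3, 3], 0, true),
    ([0, 2, 0, 2, 0, 3, 0, 3, 0, 3, 1, 2, 1, 2, 1, 3, 1, 3, 1, 2, 0, 2, 0, 3, 0, 3, 1, 2, 1, 3], 1, false),
    ([0, 2, 0, 2, 0, 3, 0, 3, 0, 3, 1, 2, 1, 2, 1, 3, 1, 3, 1, 2, 0, 2, 0, 3, 0, 3, 1, 2, 1], 0, false),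
    ([0, 2, 0, 2, 0, 3, 0, 3, 0, 3, 1, 2, 1, 2, 1, 3, 1, 3, 1, 2, 0, 2, 0, 3, 0, 3, 1], 0, false),
    ([0, 2, 0, 2, 0, 3, 0, 3, 0, 3, 1, 2, 1, 2, 1, 3, 1, 3, 1, 2, 0, 2, 0, 3], 0, true),
    ([0, 2, 0, 2, 0, 3, 0, 3, 0, 3, 1, 2, 1, 2, 1, 3, 1, 3, 1, 2, 0, 2], 0, true),
    ([0, 2, 0, 2, 0, 3, 0, 3, 0, 3, 1, 2, 1, 2, 1, 3, 1, 3, 1, 2, 0, 2], 4, true),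
    ([0, 2, 0, 2, 0, 3, 0, 3, 0, 3, 1, 2, 1, 2, 1, 3, 1, 3, 1], 0, false),
    ([0, 2, 0, 2, 0, 3, 0, 3, 0, 3, 1, 2, 1], 0, false),
    ([0, 2, 0, 2, 0, 3, 0, 3, 0, 3, 1], 0, false),
    ([0, 2, 0, 2, 0, 3, 0, 3], 0, true),
    ([0, 2, 0, 2, 0, 3], 0, true),
    ([0, 2, 0, 2, 0], 1, false),
    ([0, 2, 0, 2, 0, 2], 0, false),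
    ([0, 2, 0, 2, 0, 2, 0, 3], 0, false),
    ([0, 2, 0, 2, 0, 2, 0, 3], 6, true)]

/-- The conjugates of relators for relation 26. -/
def conj26 : List (List ℕ × ℕ × Bool) :=
  [([2, 0, 3, 0, 3, 1, 2, 1, 2, 0, 3, 0, 2, 1, 2, 1, 3, 0, 2, 0, 2, 0, 3, 0, 3, 0, 3, 1, 2, 1, 2, 1, 3, 1, 3, 3, 0, 2, 1, 2, 2, 0, 2, 0, 3, 0, 3, 0, 2, 1, 2, 1, 2, 1, 3, 1, 3, 1, 2, 0, 3, 0, 3, 1, 2, 1, 3, 0, 3, 0, 2, 1, 2, 1, 3, 0, 2, 0, 2, 0, 3, 0, 3, 0, 3, 1, 2], 1, true),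
    ([2, 0, 3, 0, 3, 1, 2, 1, 2, 0, 3, 0, 2, 1, 2, 1, 3, 0, 2, 0, 2, 0, 3, 0, 3, 0, 3, 1, 2, 1, 2, 1, 3, 1, 3, 3, 0, 2, 1, 2, 2, 0, 2, 0, 3, 0, 3, 0, 2, 1, 2, 1, 2, 1, 3, 1, 3, 1, 2, 0, 3, 0, 3, 1, 2, 1, 3, 0, 3, 0, 2, 1, 2, 1, 3, 0, 2, 0, 2, 0, 3, 0, 3, 0, 3, 1], 0, false),
    ([2, 0, 3, 0, 3, 1, 2, 1, 2, 0, 3, 0, 2, 1, 2, 1, 3, 0, 2, 0, 2, 0, 3, 0, 3, 0, 3, 1, 2, 1, 2, 1, 3, 1, 3, 3, 0, 2, 1, 2, 2, 0, 2, 0, 3, 0, 3, 0, 2, 1, 2, 1, 2, 1, 3, 1, 3, 1, 2, 0, 3, 0, 3, 1, 2, 1, 3, 0, 3, 0, 2, 1, 2, 1, 3, 0, 2, 0, 2, 0, 3, 0], 1, false),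
    ([2, 0, 3, 0, 3, 1, 2, 1, 2, 0, 3, 0, 2, 1, 2, 1, 3, 0, 2, 0, 2, 0, 3, 0, 3, 0, 3, 1, 2, 1, 2, 1, 3, 1, 3, 3, 0, 2, 1, 2, 2, 0, 2, 0, 3, 0, 3, 0, 2, 1, 2, 1, 2, 1, 3, 1, 3, 1, 2, 0, 3, 0, 3, 1, 2, 1, 3, 0, 3, 0, 2, 1, 2, 1, 3, 0, 2, 0, 2, 0, 3, 0, 2], 0, false),
    ([2, 0, 3, 0, 3, 1, 2, 1, 2, 0, 3, 0, 2, 1, 2, 1, 3, 0, 2, 0, 2, 0, 3, 0, 3, 0, 3, 1, 2, 1, 2, 1, 3, 1, 3, 3, 0, 2, 1, 2, 2, 0, 2, 0, 3, 0, 3, 0, 2, 1, 2, 1, 2, 1, 3, 1, 3, 1, 2, 0, 3, 0, 3, 1, 2, 1, 3, 0, 3, 0, 2, 1, 2, 1], 0, false),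
    ([2, 0, 3, 0, 3, 1, 2, 1, 2, 0, 3, 0, 2, 1, 2, 1, 3, 0, 2, 0, 2, 0, 3, 0, 3, 0, 3, 1, 2, 1, 2, 1, 3, 1, 3, 3, 0, 2, 1, 2, 2, 0, 2, 0, 3, 0, 3, 0, 2, 1, 2, 1, 2, 1, 3, 1, 3, 1, 2, 0, 3, 0, 3, 1, 2, 1, 3, 0, 3, 0, 2, 1], 0, false),
    ([2, 0, 3, 0, 3, 1, 2, 1, 2, 0, 3, 0, 2, 1, 2, 1, 3, 0, 2, 0, 2, 0, 3, 0, 3, 0, 3, 1, 2, 1, 2, 1, 3, 1, 3, 3, 0, 2, 1, 2, 2, 0, 2, 0, 3, 0, 3, 0, 2, 1, 2, 1, 2, 1, 3, 1, 3, 1, 2, 0, 3, 0, 3, 1, 2, 1, 3, 0, 3], 6, true),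
    ([2, 0, 3, 0, 3, 1, 2, 1, 2, 0, 3, 0, 2, 1, 2, 1, 3, 0, 2, 0, 2, 0, 3, 0, 3, 0, 3, 1, 2, 1, 2, 1, 3, 1, 3, 3, 0, 2, 1, 2, 2, 0, 2, 0, 3, 0, 3, 0, 2, 1, 2, 1, 2, 1, 3, 1, 3, 1, 2, 0, 3, 0, 3, 1, 2, 1], 0, false),
    ([2, 0, 3, 0, 3, 1, 2, 1, 2, 0, 3, 0, 2, 1, 2, 1, 3, 0, 2, 0, 2, 0, 3, 0, 3, 0, 3, 1, 2, 1, 2, 1, 3, 1, 3, 3, 0, 2, 1, 2, 2, 0, 2, 0, 3, 0, 3, 0, 2, 1, 2, 1, 2, 1, 3, 1, 3, 1, 2, 0, 3, 0, 3, 1], 0, false),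
    ([2, 0, 3, 0, 3, 1, 2, 1, 2, 0, 3, 0, 2, 1, 2, 1, 3, 0, 2, 0, 2, 0, 3, 0, 3, 0, 3, 1, 2, 1, 2, 1, 3, 1, 3, 3, 0, 2, 1, 2, 2, 0, 2, 0, 3, 0, 3, 0, 2, 1, 2, 1, 2, 1, 3, 1, 3, 1], 0, false),
    ([2, 0, 3, 0, 3, 1, 2, 1, 2, 0, 3, 0, 2, 1, 2, 1, 3, 0, 2, 0, 2, 0, 3, 0, 3, 0, 3, 1, 2, 1, 2, 1, 3, 1, 3, 3, 0, 2, 1, 2, 2, 0, 2, 0, 3, 0, 3, 0, 2, 1, 2, 1, 2, 1, 3, 1], 0, false),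
    ([2, 0, 3, 0, 3, 1, 2, 1, 2, 0, 3, 0, 2, 1, 2, 1, 3, 0, 2, 0, 2, 0, 3, 0, 3, 0, 3, 1, 2, 1, 2, 1, 3, 1, 3, 3, 0, 2, 1, 2, 2, 0, 2, 0, 3, 0, 3, 0, 2, 1, 2, 1, 2, 1], 0, false),
    ([2, 0, 3, 0, 3, 1, 2, 1, 2, 0, 3, 0, 2, 1, 2, 1, 3, 0, 2, 0, 2, 0, 3, 0, 3, 0, 3, 1, 2, 1, 2, 1, 3, 1, 3, 3, 0, 2, 1, 2, 2, 0, 2, 0, 3, 0, 3, 0, 2, 1, 2, 1], 0, false),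
    ([2, 0, 3, 0, 3, 1, 2, 1, 2, 0, 3, 0, 2, 1, 2, 1, 3, 0, 2, 0, 2, 0, 3, 0, 3, 0, 3, 1, 2, 1, 2, 1, 3, 1, 3, 3, 0, 2, 1, 2, 2, 0, 2, 0, 3, 0, 3, 0, 2, 1, 2, 2], 0, false),
    ([2, 0, 3, 0, 3, 1, 2, 1, 2, 0, 3, 0, 2, 1, 2, 1, 3, 0, 2, 0, 2, 0, 3, 0, 3, 0, 3, 1, 2, 1, 2, 1, 3, 1, 3, 3, 0, 2, 1, 2, 2, 0, 2, 0, 3, 0, 3, 0, 2, 1, 2], 1, true),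
    ([2, 0, 3, 0, 3, 1, 2, 1, 2, 0, 3, 0, 2, 1, 2, 1, 3, 0, 2, 0, 2, 0, 3, 0, 3, 0, 3, 1, 2, 1, 2, 1, 3, 1, 3, 3, 0, 2, 1, 2, 2, 0, 2, 0, 3, 0, 3, 0, 2, 1], 0, false),
    ([2, 0, 3, 0, 3, 1, 2, 1, 2, 0, 3, 0, 2, 1, 2, 1, 3, 0, 2, 0, 2, 0, 3, 0, 3, 0, 3, 1, 2, 1, 2, 1, 3, 1, 3, 3, 0, 2, 1, 2], 1, true),
    ([2, 0, 3, 0, 3, 1, 2, 1, 2, 0, 3, 0, 2, 1, 2, 1, 3, 0, 2, 0, 2, 0, 3, 0, 3, 0, 3, 1, 2, 1, 2, 1, 3, 1, 3, 3, 0, 2, 1], 0, false),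
    ([2, 0, 3, 0, 3, 1, 2, 1, 2, 0, 3, 0, 2, 1, 2, 1, 3, 0, 2, 0, 2, 0, 3, 0, 3, 0, 3, 1, 2, 1, 2, 1, 3, 1, 3], 1, false),
    ([2, 0, 3, 0, 3, 1, 2, 1, 2, 0, 3, 0, 2, 1, 2, 1, 3, 0, 2, 0, 2, 0, 3, 0, 3, 0, 3, 1, 2, 1, 2, 1, 3, 1], 0, false),
    ([2, 0, 3, 0, 3, 1, 2, 1, 2, 0, 3, 0, 2, 1, 2, 1, 3, 0, 2, 0, 2, 0, 3, 0, 3, 0, 3, 1, 2, 1, 2, 1], 0, false),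
    ([2, 0, 3, 0, 3, 1, 2, 1, 2, 0, 3, 0, 2, 1, 2, 1, 3, 0, 2, 0, 2, 0, 3, 0, 3, 0, 3, 1, 2, 1], 0, false),
    ([2, 0, 3, 0, 3, 1, 2, 1, 2, 0, 3, 0, 2, 1, 2, 1, 3, 0, 2, 0, 2, 0, 3, 0, 3, 0, 3, 1], 0, false),
    ([2, 0, 3, 0, 3, 1, 2, 1, 2, 0, 3, 0, 2, 1, 2, 1, 3, 0, 2, 0, 2, 0, 3, 0], 1, false),
    ([2, 0, 3, 0, 3, 1, 2, 1, 2, 0, 3, 0, 2, 1, 2, 1, 3, 0, 2, 0, 2, 0, 3, 0, 2], 0, false),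
    ([2, 0, 3, 0, 3, 1, 2, 1, 2, 0, 3, 0, 2, 1, 2, 1, 3, 0, 2, 0, 2, 0, 3, 0, 2], 0, true),
    ([2, 0, 3, 0, 3, 1, 2, 1, 2, 0, 3, 0, 2, 1, 2, 1, 3, 0, 2, 0, 2, 0, 3], 0, true),
    ([2, 0, 3, 0, 3, 1, 2, 1, 2, 0, 3, 0, 2, 1, 2, 1, 3, 0, 2, 0, 2], 0, true),
    ([2, 0, 3, 0, 3, 1, 2, 1, 2, 0, 3, 0, 2, 1, 2, 1, 3, 0, 2], 0, true),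
    ([2, 0, 3, 0, 3, 1, 2, 1, 2, 0, 3, 0, 2, 1, 2, 1, 3], 0, true),
    ([2, 0, 3, 0, 3, 1, 2, 1, 2, 0, 3], 0, true),
    ([2, 0, 3, 0, 3, 1, 2, 1, 2], 0, true),
    ([2, 0, 3, 0, 3, 1], 6, false),
    ([2, 0, 3], 0, true),
    ([2], 0, true),
    ([0, 2, 0, 2, 0, 3, 0, 2], 6, true)]

/-- The conjugates of relators for relation 27. -/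
def conj27 : List (List ℕ × ℕ × Bool) :=
  [([0, 2, 0, 2, 0, 3, 0, 3, 0, 2, 1, 2, 1, 2, 2, 0, 2, 0, 2, 0, 2, 2, 0, 2, 1, 3, 1, 3, 1, 3, 1, 3, 3, 0, 2, 1, 2, 2, 0, 3, 0, 2, 1, 2, 1, 3, 1, 3, 0, 2, 0, 2, 0, 3, 0, 3, 0, 2, 1, 2, 1, 2, 1, 3, 1, 3, 3, 0, 3, 1, 2], 1, true),
    ([0, 2, 0, 2, 0, 3, 0, 3, 0, 2, 1, 2, 1, 2, 2, 0, 2, 0, 2, 0, 2, 2, 0, 2, 1, 3, 1, 3, 1, 3, 1, 3, 3, 0, 2, 1, 2, 2, 0, 3, 0, 2, 1, 2, 1, 3, 1, 3, 0, 2, 0, 2, 0, 3, 0, 3, 0, 2, 1, 2, 1, 2, 1, 3, 1, 3, 3, 0, 3, 1], 0, false),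
    ([0, 2, 0, 2, 0, 3, 0, 3, 0, 2, 1, 2, 1, 2, 2, 0, 2, 0, 2, 0, 2, 2, 0, 2, 1, 3, 1, 3, 1, 3, 1, 3, 3, 0, 2, 1, 2, 2, 0, 3, 0, 2, 1, 2, 1, 3, 1, 3, 0, 2, 0, 2, 0, 3, 0, 3, 0, 2, 1, 2, 1, 2, 1, 3, 1, 3], 1, false),
    ([0, 2, 0, 2, 0, 3, 0, 3, 0, 2, 1, 2, 1, 2, 2, 0, 2, 0, 2, 0, 2, 2, 0, 2, 1, 3, 1, 3, 1, 3, 1, 3, 3, 0, 2, 1, 2, 2, 0, 3, 0, 2, 1, 2, 1, 3, 1, 3, 0, 2, 0, 2, 0, 3, 0, 3, 0, 2, 1, 2, 1, 2, 1, 3, 1], 0, false),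
    ([0, 2, 0, 2, 0, 3, 0, 3, 0, 2, 1, 2, 1, 2, 2, 0, 2, 0, 2, 0, 2, 2, 0, 2, 1, 3, 1, 3, 1, 3, 1, 3, 3, 0, 2, 1, 2, 2, 0, 3, 0, 2, 1, 2, 1, 3, 1, 3, 0, 2, 0, 2, 0, 3, 0, 3, 0, 2, 1, 2, 1, 2, 1], 0, false),
    ([0, 2, 0, 2, 0, 3, 0, 3, 0, 2, 1, 2, 1, 2, 2, 0, 2, 0, 2, 0, 2, 2, 0, 2, 1, 3, 1, 3, 1, 3, 1, 3, 3, 0, 2, 1, 2, 2, 0, 3, 0, 2, 1, 2, 1, 3, 1, 3, 0, 2, 0, 2, 0, 3, 0, 3, 0, 2, 1, 2, 1, 2, 2], 0, false),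
    ([0, 2, 0, 2, 0, 3, 0, 3, 0, 2, 1, 2, 1, 2, 2, 0, 2, 0, 2, 0, 2, 2, 0, 2, 1, 3, 1, 3, 1, 3, 1, 3, 3, 0, 2, 1, 2, 2, 0, 3, 0, 2, 1, 2, 1, 3, 1, 3, 0, 2, 0, 2, 0, 3, 0, 3, 0, 2, 1, 2, 1, 2, 2, 0, 3], 0, false),
    ([0, 2, 0, 2, 0, 3, 0, 3, 0, 2, 1, 2, 1, 2, 2, 0, 2, 0, 2, 0, 2, 2, 0, 2, 1, 3, 1, 3, 1, 3, 1, 3, 3, 0, 2, 1, 2, 2, 0, 3, 0, 2, 1, 2, 1, 3, 1, 3, 0, 2, 0, 2, 0, 3, 0, 3, 0, 2, 1, 2, 1, 2, 2, 0, 3], 0, true),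
    ([0, 2, 0, 2, 0, 3, 0, 3, 0, 2, 1, 2, 1, 2, 2, 0, 2, 0, 2, 0, 2, 2, 0, 2, 1, 3, 1, 3, 1, 3, 1, 3, 3, 0, 2, 1, 2, 2, 0, 3, 0, 2, 1, 2, 1, 3, 1, 3, 0, 2, 0, 2, 0, 3, 0, 3, 0, 2, 1, 2, 1, 2, 2], 0, true),
    ([0, 2, 0, 2, 0, 3, 0, 3, 0, 2, 1, 2, 1, 2, 2, 0, 2, 0, 2, 0, 2, 2, 0, 2, 1, 3, 1, 3, 1, 3, 1, 3, 3, 0, 2, 1, 2, 2, 0, 3, 0, 2, 1, 2, 1, 3, 1, 3, 0, 2, 0, 2, 0, 3, 0, 3, 0, 2, 1, 2, 1, 2], 1, true),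
    ([0, 2, 0, 2, 0, 3, 0, 3, 0, 2, 1, 2, 1, 2, 2, 0, 2, 0, 2, 0, 2, 2, 0, 2, 1, 3, 1, 3, 1, 3, 1, 3, 3, 0, 2, 1, 2, 2, 0, 3, 0, 2, 1, 2, 1, 3, 1, 3, 0, 2, 0, 2, 0, 3, 0, 3, 0, 2, 1, 2, 1], 0, false),
    ([0, 2, 0, 2, 0, 3, 0, 3, 0, 2, 1, 2, 1, 2, 2, 0, 2, 0, 2, 0, 2, 2, 0, 2, 1, 3, 1, 3, 1, 3, 1, 3, 3, 0, 2, 1, 2, 2, 0, 3, 0, 2, 1, 2, 1, 3, 1, 3, 0, 2, 0, 2, 0, 3, 0, 3, 0, 2, 1], 0, false),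
    ([0, 2, 0, 2, 0, 3, 0, 3, 0, 2, 1, 2, 1, 2, 2, 0, 2, 0, 2, 0, 2, 2, 0, 2, 1, 3, 1, 3, 1, 3, 1, 3, 3, 0, 2, 1, 2, 2, 0, 3, 0, 2, 1, 2, 1, 3, 1, 3, 0, 2, 0, 2, 0, 3, 0, 3], 0, true),
    ([0, 2, 0, 2, 0, 3, 0, 3, 0, 2, 1, 2, 1, 2, 2, 0, 2, 0, 2, 0, 2, 2, 0, 2, 1, 3, 1, 3, 1, 3, 1, 3, 3, 0, 2, 1, 2, 2, 0, 3, 0, 2, 1, 2, 1, 3, 1, 3, 0, 2, 0, 2, 0, 3], 0, true),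
    ([0, 2, 0, 2, 0, 3, 0, 3, 0, 2, 1, 2, 1, 2, 2, 0, 2, 0, 2, 0, 2, 2, 0, 2, 1, 3, 1, 3, 1, 3, 1, 3, 3, 0, 2, 1, 2, 2, 0, 3, 0, 2, 1, 2, 1, 3, 1, 3], 0, true),
    ([0, 2, 0, 2, 0, 3, 0, 3, 0, 2, 1, 2, 1, 2, 2, 0, 2, 0, 2, 0, 2, 2, 0, 2, 1, 3, 1, 3, 1, 3, 1, 3, 3, 0, 2, 1, 2, 2, 0, 3, 0, 2, 1, 2, 1], 4, false),
    ([0, 2, 0, 2, 0, 3, 0, 3, 0, 2, 1, 2, 1, 2, 2, 0, 2, 0, 2, 0, 2, 2, 0, 2, 1, 3, 1, 3, 1, 3, 1, 3, 3, 0, 2, 1, 2, 2, 0, 3, 0, 2, 1, 2, 1], 0, false),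
    ([0, 2, 0, 2, 0, 3, 0, 3, 0, 2, 1, 2, 1, 2, 2, 0, 2, 0, 2, 0, 2, 2, 0, 2, 1, 3, 1, 3, 1, 3, 1, 3, 3, 0, 2, 1, 2, 2, 0, 3, 0, 2, 1], 0, false),
    ([0, 2, 0, 2, 0, 3, 0, 3, 0, 2, 1, 2, 1, 2, 2, 0, 2, 0, 2, 0, 2, 2, 0, 2, 1, 3, 1, 3, 1, 3, 1, 3, 3, 0, 2, 1, 2, 2, 0, 3], 0, true),
    ([0, 2, 0, 2, 0, 3, 0, 3, 0, 2, 1, 2, 1, 2, 2, 0, 2, 0, 2, 0, 2, 2, 0, 2, 1, 3, 1, 3, 1, 3, 1, 3, 3, 0, 2, 1, 2, 2], 0, true),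
    ([0, 2, 0, 2, 0, 3, 0, 3, 0, 2, 1, 2, 1, 2, 2, 0, 2, 0, 2, 0, 2, 2, 0, 2, 1, 3, 1, 3, 1, 3, 1, 3, 3, 0, 2, 1, 2], 1, true),
    ([0, 2, 0, 2, 0, 3, 0, 3, 0, 2, 1, 2, 1, 2, 2, 0, 2, 0, 2, 0, 2, 2, 0, 2, 1, 3, 1, 3, 1, 3, 1, 3, 3, 0, 2, 1], 0, false),
    ([0, 2, 0, 2, 0, 3, 0, 3, 0, 2, 1, 2, 1, 2, 2, 0, 2, 0, 2, 0, 2, 2, 0, 2, 1, 3, 1, 3, 1, 3, 1, 3], 1, false),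
    ([0, 2, 0, 2, 0, 3, 0, 3, 0, 2, 1, 2, 1, 2, 2, 0, 2, 0, 2, 0, 2, 2, 0, 2, 1, 3, 1], 0, false),
    ([0, 2, 0, 2, 0, 3, 0, 3, 0, 2, 1, 2, 1, 2, 2, 0, 2, 0, 2, 0, 2, 2, 0, 2, 1, 3, 3], 0, false),
    ([0, 2, 0, 2, 0, 3, 0, 3, 0, 2, 1, 2, 1, 2, 2, 0, 2, 0, 2, 0, 2, 2, 0, 2, 1, 3], 1, false),
    ([0, 2, 0, 2, 0, 3, 0, 3, 0, 2, 1, 2, 1, 2, 2, 0, 2, 0, 2, 0, 2, 2, 0, 2, 1], 0, false),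
    ([0, 2, 0, 2, 0, 3, 0, 3, 0, 2, 1, 2, 1, 2, 2, 0, 2, 0, 2, 0, 2], 1, true),
    ([0, 2, 0, 2, 0, 3, 0, 3, 0, 2, 1, 2, 1, 2], 1, true),
    ([0, 2, 0, 2, 0, 3, 0, 3, 0, 2, 1, 2, 1], 0, false),
    ([0, 2, 0, 2, 0, 3, 0, 3, 0, 2, 1], 0, false),
    ([0, 2, 0, 2, 0, 3, 0, 3], 6, true)]

/-- The conjugates of relators for relation 28. -/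
def conj28 : List (List ℕ × ℕ × Bool) :=
  [([0, 2, 0, 2, 0, 2, 0, 2, 0, 2, 0, 2, 1, 3, 1, 3, 1, 3, 1, 3, 3, 0, 2, 1, 2, 2, 0, 3, 0, 2, 1, 2, 1, 3, 1, 3, 0, 2, 0, 2, 0, 3, 0, 3, 0, 2, 2, 1, 2, 1, 2, 2, 0, 2, 0, 3, 1, 3, 1, 3, 1, 3, 1, 3, 1, 3, 3, 0, 2, 1, 2, 2, 0, 3, 0, 2, 1, 2, 1, 3, 1, 3, 0, 2, 0, 2, 0, 3, 0, 3, 0, 2, 1, 2, 1, 2, 2, 0, 2, 0, 2, 0, 2, 2, 0, 2], 1, true),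
    ([0, 2, 0, 2, 0, 2, 0, 2, 0, 2, 0, 2, 1, 3, 1, 3, 1, 3, 1, 3, 3, 0, 2, 1, 2, 2, 0, 3, 0, 2, 1, 2, 1, 3, 1, 3, 0, 2, 0, 2, 0, 3, 0, 3, 0, 2, 2, 1, 2, 1, 2, 2, 0, 2, 0, 3, 1, 3, 1, 3, 1, 3, 1, 3, 1, 3, 3, 0, 2, 1, 2, 2, 0, 3, 0, 2, 1, 2, 1, 3, 1, 3, 0, 2, 0, 2, 0, 3, 0, 3, 0, 2, 1, 2, 1, 2, 2, 0, 2, 0, 2, 0, 2], 1, true),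
    ([0, 2, 0, 2, 0, 2, 0, 2, 0, 2, 0, 2, 1, 3, 1, 3, 1, 3, 1, 3, 3, 0, 2, 1, 2, 2, 0, 3, 0, 2, 1, 2, 1, 3, 1, 3, 0, 2, 0, 2, 0, 3, 0, 3, 0, 2, 2, 1, 2, 1, 2, 2, 0, 2, 0, 3, 1, 3, 1, 3, 1, 3, 1, 3, 1, 3, 3, 0, 2, 1, 2, 2, 0, 3, 0, 2, 1, 2, 1, 3, 1, 3, 0, 2, 0, 2, 0, 3, 0, 3, 0, 2, 1, 2, 1, 2, 2, 0], 1, true),
    ([0, 2, 0, 2, 0, 2, 0, 2, 0, 2, 0, 2, 1, 3, 1, 3, 1, 3, 1, 3, 3, 0, 2, 1, 2, 2, 0, 3, 0, 2, 1, 2, 1, 3, 1, 3, 0, 2, 0, 2, 0, 3, 0, 3, 0, 2, 2, 1, 2, 1, 2, 2, 0, 2, 0, 3, 1, 3, 1, 3, 1, 3, 1, 3, 1, 3, 3, 0, 2, 1, 2, 2, 0, 3, 0, 2, 1, 2, 1, 3, 1, 3, 0, 2, 0, 2, 0, 3, 0, 3, 0, 2, 1, 2, 1, 2, 2, 0, 3], 0, false),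
    ([0, 2, 0, 2, 0, 2, 0, 2, 0, 2, 0, 2, 1, 3, 1, 3, 1, 3, 1, 3, 3, 0, 2, 1, 2, 2, 0, 3, 0, 2, 1, 2, 1, 3, 1, 3, 0, 2, 0, 2, 0, 3, 0, 3, 0, 2, 2, 1, 2, 1, 2, 2, 0, 2, 0, 3, 1, 3, 1, 3, 1, 3, 1, 3, 1, 3, 3, 0, 2, 1, 2, 2, 0, 3, 0, 2, 1, 2, 1, 3, 1, 3, 0, 2, 0, 2, 0, 3, 0, 3, 0, 2, 1, 2, 1, 2, 2, 0, 3], 0, true),
    ([0, 2, 0, 2, 0, 2, 0, 2, 0, 2, 0, 2, 1, 3, 1, 3, 1, 3, 1, 3, 3, 0, 2, 1, 2, 2, 0, 3, 0, 2, 1, 2, 1, 3, 1, 3, 0, 2, 0, 2, 0, 3, 0, 3, 0, 2, 2, 1, 2, 1, 2, 2, 0, 2, 0, 3, 1, 3, 1, 3, 1, 3, 1, 3, 1, 3, 3, 0, 2, 1, 2, 2, 0, 3, 0, 2, 1, 2, 1, 3, 1, 3, 0, 2, 0, 2, 0, 3, 0, 3, 0, 2, 1, 2, 1, 2, 2], 0, true),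
    ([0, 2, 0, 2, 0, 2, 0, 2, 0, 2, 0, 2, 1, 3, 1, 3, 1, 3, 1, 3, 3, 0, 2, 1, 2, 2, 0, 3, 0, 2, 1, 2, 1, 3, 1, 3, 0, 2, 0, 2, 0, 3, 0, 3, 0, 2, 2, 1, 2, 1, 2, 2, 0, 2, 0, 3, 1, 3, 1, 3, 1, 3, 1, 3, 1, 3, 3, 0, 2, 1, 2, 2, 0, 3, 0, 2, 1, 2, 1, 3, 1, 3, 0, 2, 0, 2, 0, 3, 0, 3, 0, 2, 1, 2, 1, 2], 1, true),
    ([0, 2, 0, 2, 0, 2, 0, 2, 0, 2, 0, 2, 1, 3, 1, 3, 1, 3, 1, 3, 3, 0, 2, 1, 2, 2, 0, 3, 0, 2, 1, 2, 1, 3, 1, 3, 0, 2, 0, 2, 0, 3, 0, 3, 0, 2, 2, 1, 2, 1, 2, 2, 0, 2, 0, 3, 1, 3, 1, 3, 1, 3, 1, 3, 1, 3, 3, 0, 2, 1, 2, 2, 0, 3, 0, 2, 1, 2, 1, 3, 1, 3, 0, 2, 0, 2, 0, 3, 0, 3, 0, 2, 1, 2, 1], 0, false),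
    ([0, 2, 0, 2, 0, 2, 0, 2, 0, 2, 0, 2, 1, 3, 1, 3, 1, 3, 1, 3, 3, 0, 2, 1, 2, 2, 0, 3, 0, 2, 1, 2, 1, 3, 1, 3, 0, 2, 0, 2, 0, 3, 0, 3, 0, 2, 2, 1, 2, 1, 2, 2, 0, 2, 0, 3, 1, 3, 1, 3, 1, 3, 1, 3, 1, 3, 3, 0, 2, 1, 2, 2, 0, 3, 0, 2, 1, 2, 1, 3, 1, 3, 0, 2, 0, 2, 0, 3, 0, 3, 0, 2, 1], 0, false),
    ([0, 2, 0, 2, 0, 2, 0, 2, 0, 2, 0, 2, 1, 3, 1, 3, 1, 3, 1, 3, 3, 0, 2, 1, 2, 2, 0, 3, 0, 2, 1, 2, 1, 3, 1, 3, 0, 2, 0, 2, 0, 3, 0, 3, 0, 2, 2, 1, 2, 1, 2, 2, 0, 2, 0, 3, 1, 3, 1, 3, 1, 3, 1, 3, 1, 3, 3, 0, 2, 1, 2, 2, 0, 3, 0, 2, 1, 2, 1, 3, 1, 3, 0, 2, 0, 2, 0, 3, 0, 3], 0, true),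
    ([0, 2, 0, 2, 0, 2, 0, 2, 0, 2, 0, 2, 1, 3, 1, 3, 1, 3, 1, 3, 3, 0, 2, 1, 2, 2, 0, 3, 0, 2, 1, 2, 1, 3, 1, 3, 0, 2, 0, 2, 0, 3, 0, 3, 0, 2, 2, 1, 2, 1, 2, 2, 0, 2, 0, 3, 1, 3, 1, 3, 1, 3, 1, 3, 1, 3, 3, 0, 2, 1, 2, 2, 0, 3, 0, 2, 1, 2, 1, 3, 1, 3, 0, 2, 0, 2, 0, 3], 0, true),
    ([0, 2, 0, 2, 0, 2, 0, 2, 0, 2, 0, 2, 1, 3, 1, 3, 1, 3, 1, 3, 3, 0, 2, 1, 2, 2, 0, 3, 0, 2, 1, 2, 1, 3, 1, 3, 0, 2, 0, 2, 0, 3, 0, 3, 0, 2, 2, 1, 2, 1, 2, 2, 0, 2, 0, 3, 1, 3, 1, 3, 1, 3, 1, 3, 1, 3, 3, 0, 2, 1, 2, 2, 0, 3, 0, 2, 1, 2, 1, 3, 1, 3], 0, true),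
    ([0, 2, 0, 2, 0, 2, 0, 2, 0, 2, 0, 2, 1, 3, 1, 3, 1, 3, 1, 3, 3, 0, 2, 1, 2, 2, 0, 3, 0, 2, 1, 2, 1, 3, 1, 3, 0, 2, 0, 2, 0, 3, 0, 3, 0, 2, 2, 1, 2, 1, 2, 2, 0, 2, 0, 3, 1, 3, 1, 3, 1, 3, 1, 3, 1, 3, 3, 0, 2, 1, 2, 2, 0, 3, 0, 2, 1, 2, 1], 4, false),
    ([0, 2, 0, 2, 0, 2, 0, 2, 0, 2, 0, 2, 1, 3, 1, 3, 1, 3, 1, 3, 3, 0, 2, 1, 2, 2, 0, 3, 0, 2, 1, 2, 1, 3, 1, 3, 0, 2, 0, 2, 0, 3, 0, 3, 0, 2, 2, 1, 2, 1, 2, 2, 0, 2, 0, 3, 1, 3, 1, 3, 1, 3, 1, 3, 1, 3, 3, 0, 2, 1, 2, 2, 0, 3, 0, 2, 1, 2, 1], 0, false),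
    ([0, 2, 0, 2, 0, 2, 0, 2, 0, 2, 0, 2, 1, 3, 1, 3, 1, 3, 1, 3, 3, 0, 2, 1, 2, 2, 0, 3, 0, 2, 1, 2, 1, 3, 1, 3, 0, 2, 0, 2, 0, 3, 0, 3, 0, 2, 2, 1, 2, 1, 2, 2, 0, 2, 0, 3, 1, 3, 1, 3, 1, 3, 1, 3, 1, 3, 3, 0, 2, 1, 2, 2, 0, 3, 0, 2, 1], 0, false),
    ([0, 2, 0, 2, 0, 2, 0, 2, 0, 2, 0, 2, 1, 3, 1, 3, 1, 3, 1, 3, 3, 0, 2, 1, 2, 2, 0, 3, 0, 2, 1, 2, 1, 3, 1, 3, 0, 2, 0, 2, 0, 3, 0, 3, 0, 2, 2, 1, 2, 1, 2, 2, 0, 2, 0, 3, 1, 3, 1, 3, 1, 3, 1, 3, 1, 3, 3, 0, 2, 1, 2, 2, 0, 3], 0, true),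
    ([0, 2, 0, 2, 0, 2, 0, 2, 0, 2, 0, 2, 1, 3, 1, 3, 1, 3, 1, 3, 3, 0, 2, 1, 2, 2, 0, 3, 0, 2, 1, 2, 1, 3, 1, 3, 0, 2, 0, 2, 0, 3, 0, 3, 0, 2, 2, 1, 2, 1, 2, 2, 0, 2, 0, 3, 1, 3, 1, 3, 1, 3, 1, 3, 1, 3, 3, 0, 2, 1, 2, 2], 0, true),
    ([0, 2, 0, 2, 0, 2, 0, 2, 0, 2, 0, 2, 1, 3, 1, 3, 1, 3, 1, 3, 3, 0, 2, 1, 2, 2, 0, 3, 0, 2, 1, 2, 1, 3, 1, 3, 0, 2, 0, 2, 0, 3, 0, 3, 0, 2, 2, 1, 2, 1, 2, 2, 0, 2, 0, 3, 1, 3, 1, 3, 1, 3, 1, 3, 1, 3, 3, 0, 2, 1, 2], 1, true),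
    ([0, 2, 0, 2, 0, 2, 0, 2, 0, 2, 0, 2, 1, 3, 1, 3, 1, 3, 1, 3, 3, 0, 2, 1, 2, 2, 0, 3, 0, 2, 1, 2, 1, 3, 1, 3, 0, 2, 0, 2, 0, 3, 0, 3, 0, 2, 2, 1, 2, 1, 2, 2, 0, 2, 0, 3, 1, 3, 1, 3, 1, 3, 1, 3, 1, 3, 3, 0, 2, 1], 0, false),
    ([0, 2, 0, 2, 0, 2, 0, 2, 0, 2, 0, 2, 1, 3, 1, 3, 1, 3, 1, 3, 3, 0, 2, 1, 2, 2, 0, 3, 0, 2, 1, 2, 1, 3, 1, 3, 0, 2, 0, 2, 0, 3, 0, 3, 0, 2, 2, 1, 2, 1, 2, 2, 0, 2, 0, 3, 1, 3, 1, 3, 1, 3, 1, 3, 1, 3], 1, false),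
    ([0, 2, 0, 2, 0, 2, 0, 2, 0, 2, 0, 2, 1, 3, 1, 3, 1, 3, 1, 3, 3, 0, 2, 1, 2, 2, 0, 3, 0, 2, 1, 2, 1, 3, 1, 3, 0, 2, 0, 2, 0, 3, 0, 3, 0, 2, 2, 1, 2, 1, 2, 2, 0, 2, 0, 3, 1, 3, 1, 3, 1], 0, false),
    ([0, 2, 0, 2, 0, 2, 0, 2, 0, 2, 0, 2, 1, 3, 1, 3, 1, 3, 1, 3, 3, 0, 2, 1, 2, 2, 0, 3, 0, 2, 1, 2, 1, 3, 1, 3, 0, 2, 0, 2, 0, 3, 0, 3, 0, 2, 2, 1, 2, 1, 2, 2, 0, 2, 0, 3, 1, 3, 1, 3, 3], 0, false),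
    ([0, 2, 0, 2, 0, 2, 0, 2, 0, 2, 0, 2, 1, 3, 1, 3, 1, 3, 1, 3, 3, 0, 2, 1, 2, 2, 0, 3, 0, 2, 1, 2, 1, 3, 1, 3, 0, 2, 0, 2, 0, 3, 0, 3, 0, 2, 2, 1, 2, 1, 2, 2, 0, 2, 0, 3, 1, 3, 1, 3], 1, false),
    ([0, 2, 0, 2, 0, 2, 0, 2, 0, 2, 0, 2, 1, 3, 1, 3, 1, 3, 1, 3, 3, 0, 2, 1, 2, 2, 0, 3, 0, 2, 1, 2, 1, 3, 1, 3, 0, 2, 0, 2, 0, 3, 0, 3, 0, 2, 2, 1, 2, 1, 2, 2, 0, 2, 0, 3, 1, 3, 1], 0, false),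
    ([0, 2, 0, 2, 0, 2, 0, 2, 0, 2, 0, 2, 1, 3, 1, 3, 1, 3, 1, 3, 3, 0, 2, 1, 2, 2, 0, 3, 0, 2, 1, 2, 1, 3, 1, 3, 0, 2, 0, 2, 0, 3, 0, 3, 0, 2, 2, 1, 2, 1, 2, 2, 0, 2, 0, 3, 1], 0, false),
    ([0, 2, 0, 2, 0, 2, 0, 2, 0, 2, 0, 2, 1, 3, 1, 3, 1, 3, 1, 3, 3, 0, 2, 1, 2, 2, 0, 3, 0, 2, 1, 2, 1, 3, 1, 3, 0, 2, 0, 2, 0, 3, 0, 3, 0, 2, 2, 1, 2, 1, 2], 1, true),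
    ([0, 2, 0, 2, 0, 2, 0, 2, 0, 2, 0, 2, 1, 3, 1, 3, 1, 3, 1, 3, 3, 0, 2, 1, 2, 2, 0, 3, 0, 2, 1, 2, 1, 3, 1, 3, 0, 2, 0, 2, 0, 3, 0, 3, 0, 2, 2, 1, 2, 1], 0, false),
    ([0, 2, 0, 2, 0, 2, 0, 2, 0, 2, 0, 2, 1, 3, 1, 3, 1, 3, 1, 3, 3, 0, 2, 1, 2, 2, 0, 3, 0, 2, 1, 2, 1, 3, 1, 3, 0, 2, 0, 2, 0, 3, 0, 3, 0, 2, 2, 1], 0, false),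
    ([0, 2, 0, 2, 0, 2, 0, 2, 0, 2, 0, 2, 1, 3, 1, 3, 1, 3, 1, 3, 3, 0, 2, 1, 2, 2, 0, 3, 0, 2, 1, 2, 1, 3, 1, 3, 0, 2, 0, 2, 0, 3, 0, 3, 0, 2, 1, 2, 1, 2], 1, false),
    ([0, 2, 0, 2, 0, 2, 0, 2, 0, 2, 0, 2, 1, 3, 1, 3, 1, 3, 1, 3, 3, 0, 2, 1, 2, 2, 0, 3, 0, 2, 1, 2, 1, 3, 1, 3, 0, 2, 0, 2, 0, 3, 0, 3, 0, 2, 1, 2, 1, 2, 2], 0, false),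
    ([0, 2, 0, 2, 0, 2, 0, 2, 0, 2, 0, 2, 1, 3, 1, 3, 1, 3, 1, 3, 3, 0, 2, 1, 2, 2, 0, 3, 0, 2, 1, 2, 1, 3, 1, 3, 0, 2, 0, 2, 0, 3, 0, 3, 0, 2, 1, 2, 1, 2, 2, 0, 3], 0, false),
    ([0, 2, 0, 2, 0, 2, 0, 2, 0, 2, 0, 2, 1, 3, 1, 3, 1, 3, 1, 3, 3, 0, 2, 1, 2, 2, 0, 3, 0, 2, 1, 2, 1, 3, 1, 3, 0, 2, 0, 2, 0, 3, 0, 3, 0, 2, 1, 2, 1, 2, 2, 0, 3], 0, true),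
    ([0, 2, 0, 2, 0, 2, 0, 2, 0, 2, 0, 2, 1, 3, 1, 3, 1, 3, 1, 3, 3, 0, 2, 1, 2, 2, 0, 3, 0, 2, 1, 2, 1, 3, 1, 3, 0, 2, 0, 2, 0, 3, 0, 3, 0, 2, 1, 2, 1, 2, 2], 0, true),
    ([0, 2, 0, 2, 0, 2, 0, 2, 0, 2, 0, 2, 1, 3, 1, 3, 1, 3, 1, 3, 3, 0, 2, 1, 2, 2, 0, 3, 0, 2, 1, 2, 1, 3, 1, 3, 0, 2, 0, 2, 0, 3, 0, 3, 0, 2, 1, 2, 1, 2], 1, true),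
    ([0, 2, 0, 2, 0, 2, 0, 2, 0, 2, 0, 2, 1, 3, 1, 3, 1, 3, 1, 3, 3, 0, 2, 1, 2, 2, 0, 3, 0, 2, 1, 2, 1, 3, 1, 3, 0, 2, 0, 2, 0, 3, 0, 3, 0, 2, 1, 2, 1], 0, false),
    ([0, 2, 0, 2, 0, 2, 0, 2, 0, 2, 0, 2, 1, 3, 1, 3, 1, 3, 1, 3, 3, 0, 2, 1, 2, 2, 0, 3, 0, 2, 1, 2, 1, 3, 1, 3, 0, 2, 0, 2, 0, 3, 0, 3, 0, 2, 1], 0, false),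
    ([0, 2, 0, 2, 0, 2, 0, 2, 0, 2, 0, 2, 1, 3, 1, 3, 1, 3, 1, 3, 3, 0, 2, 1, 2, 2, 0, 3, 0, 2, 1, 2, 1, 3, 1, 3, 0, 2, 0, 2, 0, 3, 0, 3], 0, true),
    ([0, 2, 0, 2, 0, 2, 0, 2, 0, 2, 0, 2, 1, 3, 1, 3, 1, 3, 1, 3, 3, 0, 2, 1, 2, 2, 0, 3, 0, 2, 1, 2, 1, 3, 1, 3, 0, 2, 0, 2, 0, 3], 0, true),
    ([0, 2, 0, 2, 0, 2, 0, 2, 0, 2, 0, 2, 1, 3, 1, 3, 1, 3, 1, 3, 3, 0, 2, 1, 2, 2, 0, 3, 0, 2, 1, 2, 1, 3, 1, 3], 0, true),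
    ([0, 2, 0, 2, 0, 2, 0, 2, 0, 2, 0, 2, 1, 3, 1, 3, 1, 3, 1, 3, 3, 0, 2, 1, 2, 2, 0, 3, 0, 2, 1, 2, 1], 4, false),
    ([0, 2, 0, 2, 0, 2, 0, 2, 0, 2, 0, 2, 1, 3, 1, 3, 1, 3, 1, 3, 3, 0, 2, 1, 2, 2, 0, 3, 0, 2, 1, 2, 1], 0, false),
    ([0, 2, 0, 2, 0, 2, 0, 2, 0, 2, 0, 2, 1, 3, 1, 3, 1, 3, 1, 3, 3, 0, 2, 1, 2, 2, 0, 3, 0, 2, 1], 0, false),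
    ([0, 2, 0, 2, 0, 2, 0, 2, 0, 2, 0, 2, 1, 3, 1, 3, 1, 3, 1, 3, 3, 0, 2, 1, 2, 2, 0, 3], 0, true),
    ([0, 2, 0, 2, 0, 2, 0, 2, 0, 2, 0, 2, 1, 3, 1, 3, 1, 3, 1, 3, 3, 0, 2, 1, 2, 2], 0, true),
    ([0, 2, 0, 2, 0, 2, 0, 2, 0, 2, 0, 2, 1, 3, 1, 3, 1, 3, 1, 3, 3, 0, 2, 1, 2], 1, true),
    ([0, 2, 0, 2, 0, 2, 0, 2, 0, 2, 0, 2, 1, 3, 1, 3, 1, 3, 1, 3, 3, 0, 2, 1], 0, false),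
    ([0, 2, 0, 2, 0, 2, 0, 2, 0, 2, 0, 2, 1, 3, 1, 3, 1, 3, 1, 3], 1, false),
    ([0, 2, 0, 2, 0, 2, 0, 2, 0, 2, 0, 2, 1, 3, 1], 0, false),
    ([0, 2, 0, 2, 0, 2, 0, 2, 0, 2, 0, 2, 1, 3, 3], 0, false),
    ([0, 2, 0, 2, 0, 2, 0, 2, 0, 2, 0, 2, 1, 3], 1, false),
    ([0, 2, 0, 2, 0, 2, 0, 2, 0, 2, 0, 2, 1], 0, false),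
    ([0, 2, 0, 2, 0, 2, 0, 2, 0, 2], 6, true)]

/-- All of them. -/
def conjs : List (List (List ℕ × ℕ × Bool)) :=
  [conj0, conj1, conj2, conj3, conj4, conj5, conj6, conj7, conj8, conj9, conj10, conj11, conj12, conj13, conj14, conj15, conj16, conj17, conj18, conj19, conj20, conj21, conj22, conj23, conj24, conj25, conj26, conj27, conj28]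

end CfsgLib.Sporadic.CosetCert.J4M24
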