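import Mathlib.Algebra.BigOperators.Group.List.Basic
import Mathlib.Data.List.GetD
import Mathlib.Algebra.Group.Basic
import Mathlib.Tactic.Group

/-!
# Words in letters and their inverses: free reduction in the kernel

The letters `2 k` and `2 k + 1` are inverse to each other.
-/

set_option autoImplicit false

namespace CfsgLib.Sporadic.CosetCert.J4M24

/-- The code of the inverse letter. -/
def flip (a : ℕ) : ℕ := if a % 2 = 0 then a + 1 else a - 1

/-- The inverse word. -/
def invW (L : List ℕ) : List ℕ := (L.map flip).reverse

/-- Add a letter in front and cancel. -/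
def push (a : ℕ) : List ℕ → List ℕ
  | [] => [a]
  | b :: t => bif Nat.beq a (flip b) then t else a :: b :: t

/-- Free reduction. -/
def red (L : List ℕ) : List ℕ := L.foldr push []

/-- A product of conjugates of relators and their inverses. -/
def conjProd (rs : List (List ℕ)) (C : List (List ℕ × ℕ × Bool)) : List ℕ :=
  C.flatMap fun e => e.1 ++ (bif e.2.2 then rs.getD e.2.1 [] else invW (rs.getD e.2.1 [])) ++ invW e.1

variable {G : Type*} [Group G]

/-- The value of a letter. -/
def val (s : ℕ → G) (a : ℕ) : G := if a % 2 = 0 then s (a / 2) else (s (a / 2))⁻¹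

/-- The value of a word, in product order. -/
def ev (s : ℕ → G) (L : List ℕ) : G := (L.map (val s)).prod

variable (s : ℕ → G)

theorem val_flip (a : ℕ) : val s (flip a) = (val s a)⁻¹ := by
  rcases Nat.mod_two_eq_zero_or_one a with h | h
  · rw [flip, if_pos h, val, val, if_pos h, if_neg (by omega), show (a + 1) / 2 = a / 2 by omega]
  · rw [flip, if_neg (by omega), val, val, if_pos (by omega : (a - 1) % 2 = 0), if_neg (by omega),
      show (a - 1) / 2 = a / 2 by omega, inv_inv]

theorem ev_append (L M : List ℕ) : ev s (L ++ M) = ev s L * ev s M := by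
  simp [ev]

theorem ev_invW (L : List ℕ) : ev s (invW L) = (ev s L)⁻¹ := by
  induction L with
  | nil => simp [ev, invW]
  | cons a t ih =>
    rw [show invW (a :: t) = invW t ++ [flip a] by simp [invW], ev_append, ih]
    simp [ev, val_flip]

theorem ev_push (a : ℕ) (L : List ℕ) : ev s (push a L) = val s a * ev s L := by
  match L with
  | [] => simp [push, ev]
  | b :: t =>
    rw [push]
    cases h : Nat.beq a (flip b)
    · simp [ev]
    · have := Nat.eq_of_beq_eq_true h
      subst this
      simp [ev, val_flip]

theorem ev_red (L : List ℕ) : ev s (red L) = ev s L := by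
  induction L with
  | nil => rfl
  | cons a t ih =>
    rw [show red (a :: t) = push a (red t) from rfl, ev_push, ih]
    simp [ev]

theorem ev_conjProd {rs : List (List ℕ)} (h : ∀ r ∈ rs, ev s r = 1) (C : List (List ℕ × ℕ × Bool)) :
    ev s (conjProd rs C) = 1 := by
  induction C with
  | nil => rfl
  | cons e t ih =>
    rw [show conjProd rs (e :: t) = _ ++ conjProd rs t from rfl, ev_append, ih, mul_one, ev_append, ev_append,
      ev_invW]
    have h1 : ev s (rs.getD e.2.1 []) = 1 := by
      by_cases hi : e.2.1 < rs.length
      · rw [List.getD_eq_getElem _ _ hi]; exact h _ (List.getElem_mem hi)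
      · rw [List.getD_eq_default _ _ (by omega)]; rfl
    cases e.2.2
    · simp only [cond_false, ev_invW, h1, inv_one, mul_one, mul_inv_cancel]
    · simp only [cond_true, h1, mul_one, mul_inv_cancel]

theorem ev_flatMap (W : List (List ℕ)) (L : List ℕ) :
    ev s (L.flatMap fun a => if a % 2 = 0 then W.getD (a / 2) [] else invW (W.getD (a / 2) [])) =
      ev (fun k => ev s (W.getD k [])) L := by
  induction L with
  | nil => rfl
  | cons a t ih =>
    rw [List.flatMap_cons, ev_append, ih]
    show _ = val _ a * ev _ t
    congr 1
    rcases Nat.mod_two_eq_zero_or_one a with h | h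
    · rw [if_pos h, val, if_pos h]
    · rw [if_neg (by omega), val, if_neg (by omega), ev_invW]

end CfsgLib.Sporadic.CosetCert.J4M24
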