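import Cfsg.Agent.Lib.Sporadic.HNDouble.Reading
import Cfsg.Agent.Lib.Sporadic.J4M24.Free
import Cfsg.Agent.Lib.Sporadic.J4M24.ConjData
import Cfsg.Agent.Lib.Sporadic.J4M24.CertH
import Cfsg.Agent.Lib.Sporadic.J4M24.CertK
import Mathlib.GroupTheory.Index

/-!
# Groups with the seven relations of M₂₄ have order at most three times that of M₂₄

The subgroup generated by five words has index at most 24; its relations are consequences of the seven.
-/

set_option autoImplicit false
set_option maxRecDepth 100000

namespace CfsgLib.Sporadic.CosetCert.J4M24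

open HNDouble

theorem conj_check : (List.range 29).all (fun j => red (conjProd rel7 (conjs.getD j [])) ==
    red ((kRels.getD j []).flatMap fun a =>
      if a % 2 = 0 then sWords.getD (a / 2) [] else invW (sWords.getD (a / 2) []))) = true := by
  decide +kernel

/-- The translation of the coordinates: a word of a certificate is in order of application. -/
theorem appProd_eq_ev {G : Type*} [Group G] (s : ℕ → G) (L : List ℕ) :
    appProd (val s) L = ev s L.reverse := by
  induction L with
  | nil => rfl
  | cons x t ih => rw [appProd, ih, List.reverse_cons, ev_append]; simp [ev]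

theorem val_inv {G : Type*} [Group G] (s : ℕ → G) {nl : ℕ} {iv : ℕ → ℕ}
    (h : (List.range nl).map iv = (List.range nl).map flip) :
    ∀ x < nl, val s (iv x) = (val s x)⁻¹ := by
  intro x hx
  have := congrArg (fun L : List ℕ => L.getD x 0) h
  simp only [List.getD_eq_getElem?_getD, List.getElem?_map, List.getElem?_range hx, Option.map_some,
    Option.getD_some] at this
  rw [this, val_flip]

theorem lettersH : (List.range certH.words.length).map certH.letters =
      ((kRels.filter fun r : List ℕ => r.all fun a => Nat.blt a 4) ++ [[0]]).map List.reverse ∧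
    certH.nr = 4 ∧ certH.words.length = 5 ∧ certH.nl = 4 ∧ certH.N = 5760 ∧
    (List.range 4).map certH.inv = (List.range 4).map flip ∧
    (kRels.filter fun r : List ℕ => r.all fun a => Nat.blt a 4).length = 4 := by
  decide +kernel

theorem lettersK : (List.range certK.words.length).map certK.letters =
      (kRels ++ [[0], [2]]).map List.reverse ∧
    certK.nr = 29 ∧ certK.words.length = 31 ∧ certK.nl = 10 ∧ certK.N = 1771 ∧
    (List.range 10).map certK.inv = (List.range 10).map flip ∧ kRels.length = 29 ∧
    (kRels.any fun r => r == [0, 0, 0]) = true := by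
  decide +kernel

variable {G : Type*} [Group G]

/-- The values of the five words. -/
def sEl (s : ℕ → G) (k : ℕ) : G := ev s (sWords.getD k [])

variable {s : ℕ → G}

theorem kRels_hold (h : ∀ r ∈ rel7, ev s r = 1) : ∀ r ∈ kRels, ev (sEl s) r = 1 := by
  intro r hr
  obtain ⟨j, hj, rfl⟩ := List.mem_iff_getElem.1 hr
  have hl : kRels.length = 29 := lettersK.2.2.2.2.2.2.1
  have h1 := List.all_eq_true.1 conj_check j (List.mem_range.2 (by omega))
  rw [beq_iff_eq, List.getD_eq_getElem _ _ hj] at h1
  have h2 := congrArg (ev s) h1
  rw [ev_red, ev_red, ev_conjProd s h, ev_flatMap] at h2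
  exact h2.symm

/-- Letters beyond the certificate go to one. -/
def gl (s : ℕ → G) (n : ℕ) (x : ℕ) : G := if x < n then val s x else 1

theorem appProd_gl (s : ℕ → G) {n : ℕ} : ∀ L : List ℕ, L.all (fun a => Nat.blt a n) = true →
    appProd (gl s n) L = appProd (val s) L := by
  intro L
  induction L with
  | nil => intro _; rfl
  | cons x t ih =>
    intro h
    simp only [List.all_cons, Bool.and_eq_true] at h
    rw [appProd, appProd, ih h.2, gl, if_pos (show x < n from Nat.le_of_ble_eq_true h.1)]

theorem reads_of {C : Cert} {n : ℕ} {W : List (List ℕ)} {T : List (List ℕ)} {S : Subgroup G}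
    (hnl : C.nl = n) (hev : n % 2 = 0) (hnr : C.nr = W.length) (hlen : C.words.length = W.length + T.length)
    (hl : (List.range C.words.length).map C.letters = (W ++ T).map List.reverse)
    (hiv : (List.range n).map C.inv = (List.range n).map flip)
    (hb : (W ++ T).all (fun r => r.all fun a => Nat.blt a n) = true)
    (hW : ∀ r ∈ W, ev s r = 1) (hT : ∀ r ∈ T, ev s r ∈ S) : Reads C (gl s n) S := by
  have e : ∀ i < C.words.length, appProd (gl s n) (C.letters i) = ev s ((W ++ T).getD i []) := by
    intro i hi
    have hi' : i < (W ++ T).length := by rw [List.length_append]; omega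
    have := congrArg (fun L : List (List ℕ) => L.getD i []) hl
    simp only [List.getD_eq_getElem?_getD, List.getElem?_map, List.getElem?_range hi, Option.map_some,
      Option.getD_some, List.getElem?_eq_getElem hi'] at this
    rw [this, List.getD_eq_getElem _ _ hi', appProd_gl, appProd_eq_ev, List.reverse_reverse]
    rw [List.all_reverse]
    exact List.all_eq_true.1 hb _ (List.getElem_mem hi')
  refine ⟨by rw [hnl]; exact if_neg (lt_irrefl n), fun x hx => ?_, fun i hi => ?_, fun i hi hge => ?_⟩
  · rw [hnl] at hx
    have hx' : C.inv x < n := by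
      have h1 := congrArg (fun L : List ℕ => L.getD x 0) hiv
      simp only [List.getD_eq_getElem?_getD, List.getElem?_map, List.getElem?_range hx, Option.map_some,
        Option.getD_some] at h1
      rw [h1, flip]
      split <;> omega
    rw [gl, gl, if_pos hx', if_pos hx]
    exact val_inv s hiv x hx
  · rw [hnr] at hi
    rw [e i (by omega), List.getD_append _ _ _ _ hi, List.getD_eq_getElem _ _ hi]
    exact hW _ (List.getElem_mem _)
  · rw [hnr] at hge
    rw [e i hi, List.getD_append_right _ _ _ _ hge, List.getD_eq_getElem _ _ (by omega)]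
    exact hT _ (List.getElem_mem _)

theorem closure_gl (s : ℕ → G) {n : ℕ} (hev : n % 2 = 0) :
    Subgroup.closure (gl s n '' Set.Iio n) = Subgroup.closure (s '' Set.Iio (n / 2)) := by
  apply le_antisymm
  · rw [Subgroup.closure_le]
    rintro _ ⟨x, hx, rfl⟩
    have hm : s (x / 2) ∈ Subgroup.closure (s '' Set.Iio (n / 2)) :=
      Subgroup.subset_closure ⟨_, show x / 2 < n / 2 by have : x < n := hx; omega, rfl⟩
    rw [gl, if_pos (show x < n from hx), val]
    split
    · exact hm
    · exact inv_mem hm
  · rw [Subgroup.closure_le]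
    rintro _ ⟨k, hk, rfl⟩
    have hk' : k < n / 2 := hk
    refine Subgroup.subset_closure ⟨2 * k, show 2 * k < n by omega, ?_⟩
    rw [gl, if_pos (by omega), val, if_pos (by omega), show 2 * k / 2 = k by omega]

/-- The five words generate a subgroup of order at most three times that of M₂₃. -/
theorem card_K (h : ∀ r ∈ rel7, ev s r = 1) :
    Nat.card (Subgroup.closure (sEl s '' Set.Iio 5)) ≤ 1771 * (5760 * 3) ∧
      Nat.card (Subgroup.closure (sEl s '' Set.Iio 5)) ≠ 0 := by
  have hk := kRels_hold h
  obtain ⟨hl, hnr, hlen, hnl, hN, hiv, hflen⟩ := lettersH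
  obtain ⟨hlK, hnrK, hlenK, hnlK, hNK, hivK, hlenR, hcube⟩ := lettersK
  have rH := reads_of (s := sEl s) (S := Subgroup.zpowers (sEl s 0)) hnl rfl (by rw [hnr, hflen])
    (by rw [hlen, hflen]; rfl) hl hiv (by decide +kernel)
    (fun r hr => hk r (List.mem_of_mem_filter hr))
    (fun r hr => by
      rw [List.mem_singleton] at hr
      subst hr
      simp [ev, val])
  have hH := rH.relIndex_le certH_valid (by rw [hN]; norm_num)
  rw [hnl, hN, closure_gl (sEl s) (n := 4) rfl] at hH
  have h3 : sEl s 0 ^ 3 = 1 := by
    obtain ⟨r, hr, e⟩ := List.any_eq_true.1 hcube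
    rw [beq_iff_eq] at e
    subst e
    simpa [ev, val, pow_succ, mul_assoc] using hk _ hr
  have h0 : sEl s 0 ∈ Subgroup.closure (sEl s '' Set.Iio (4 / 2)) :=
    Subgroup.subset_closure ⟨0, by norm_num, rfl⟩
  have cH := card_le_of_relIndex (Subgroup.zpowers_le.2 h0) hH
    (HNDouble.card_zpowers_le (by norm_num : 0 < 3) h3)
  have rK := reads_of (s := sEl s) (S := Subgroup.closure (sEl s '' Set.Iio 2)) hnlK rfl (by rw [hnrK, hlenR])
    (by rw [hlenK, hlenR]; rfl) hlK hivK (by decide +kernel) hk
    (fun r hr => by
      simp only [List.mem_cons, List.not_mem_nil, or_false] at hr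
      rcases hr with rfl | rfl
      · exact Subgroup.subset_closure ⟨0, by norm_num, by simp [ev, val]⟩
      · exact Subgroup.subset_closure ⟨1, by norm_num, by simp [ev, val]⟩)
  have hK := rK.relIndex_le certK_valid (by rw [hNK]; norm_num)
  rw [hnlK, hNK, closure_gl (sEl s) (n := 10) rfl] at hK
  exact card_le_of_relIndex (Subgroup.closure_mono (Set.image_mono (Set.Iio_subset_Iio (by norm_num)))) hK cH

end CfsgLib.Sporadic.CosetCert.J4M24
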